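import Groth.Agent.Luna34.Poly
import Groth.Agent.LinRed34.Basic
import Mathlib.RingTheory.HopfAlgebra.Convolution
import Mathlib.Data.Matrix.Mul

/-!
Invariant splitting of the conormal sequence of a stable ideal of a polynomial ring.
-/

set_option autoImplicit false

universe u

open TensorProduct MvPolynomial

noncomputable section

namespace Groth.Agent.Luna34

open Groth.Agent.Hopf35.Stable Groth.Agent.LinRed34
open Groth.Agent.FinGrp34.OrbitMap (actHom actHom_apply actHom_bijective)

variable {k : Type u} [Field k] {A : Type u} [CommRing A] [HopfAlgebra k A]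

theorem rc_actHom {R : Type u} [CommRing R] [Algebra k R] [HopfRep.Comod k A R] [GLin.IsCoactAlg k A R]
    (g : A →ₐ[k] k) (r : R) :
    Comod33.rc g.toLinearMap (HopfRep.Comod.coact (k := k) (A := A) r) = actHom A R g r := by
  rw [actHom_apply, Comod33.act_eq_dact, Comod33.dact_apply]

/-- Contraction is linear over the left factor. -/
theorem rc_mul_left {R : Type u} [CommRing R] [Algebra k R] (φ : A →ₗ[k] k) (r : R) (z : R ⊗[k] A) :
    Comod33.rc φ (z * (r ⊗ₜ[k] (1 : A))) = Comod33.rc φ z * r := by
  induction z with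
  | zero => simp
  | tmul p a => simp
  | add p q hp hq => simp only [add_mul, map_add, hp, hq]

/-- Contraction by an algebra point is multiplicative. -/
theorem rc_point_mul {R : Type u} [CommRing R] [Algebra k R] (g : A →ₐ[k] k) (z w : R ⊗[k] A) :
    Comod33.rc g.toLinearMap (z * w) = Comod33.rc g.toLinearMap z * Comod33.rc g.toLinearMap w := by
  induction z with
  | zero => simp
  | add p q hp hq => simp only [add_mul, map_add, hp, hq]
  | tmul p a =>
    induction w with
    | zero => simp
    | add p' q hp hq => simp only [mul_add, map_add, hp, hq]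
    | tmul q b => simp [smul_smul, mul_comm]

section Reynolds

/-- left translation -/
def lTransl (h : A →ₐ[k] k) : A →ₗ[k] A :=
  (TensorProduct.lid k A).toLinearMap ∘ₗ h.toLinearMap.rTensor A ∘ₗ CoalgebraStruct.comul (R := k) (A := A)

theorem point_lTransl (g h : A →ₐ[k] k) :
    g.toLinearMap ∘ₗ lTransl h = (WithConv.toConv h * WithConv.toConv g).ofConv.toLinearMap := by
  refine LinearMap.ext fun a => ?_
  show g ((TensorProduct.lid k A) (h.toLinearMap.rTensor A (CoalgebraStruct.comul (R := k) a))) =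
    (WithConv.toConv h * WithConv.toConv g).ofConv a
  rw [AlgHom.convMul_apply]
  generalize CoalgebraStruct.comul (R := k) a = z
  induction z with
  | zero => simp
  | tmul p q => simp [mul_comm]
  | add p q hp hq => simp only [map_add, hp, hq]

theorem lTransl_one (h : A →ₐ[k] k) : lTransl h (1 : A) = 1 := by
  simp [lTransl, Algebra.TensorProduct.one_def]

theorem isComodHom_lTransl (h : A →ₐ[k] k) : Hoch.IsComodHom A (lTransl h) := by
  refine LinearMap.ext fun a => ?_
  show CoalgebraStruct.comul (R := k) (lTransl h a) = (lTransl h).rTensor A (CoalgebraStruct.comul (R := k) a)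
  have key : ∀ z : A ⊗[k] A,
      CoalgebraStruct.comul (R := k) ((TensorProduct.lid k A) (h.toLinearMap.rTensor A z)) =
        (TensorProduct.lid k (A ⊗[k] A)) (h.toLinearMap.rTensor (A ⊗[k] A)
          ((CoalgebraStruct.comul (R := k) (A := A)).lTensor A z)) := by
    intro z
    induction z with
    | zero => simp
    | tmul p q => simp
    | add p q hp hq => simp only [map_add, hp, hq]
  have key2 : ∀ z : A ⊗[k] A, (lTransl h).rTensor A z = (TensorProduct.lid k (A ⊗[k] A)) (h.toLinearMap.rTensor (A ⊗[k] A)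
      ((TensorProduct.assoc k A A A) ((CoalgebraStruct.comul (R := k) (A := A)).rTensor A z))) := by
    intro z
    induction z with
    | zero => simp
    | add p q hp hq => simp only [map_add, hp, hq]
    | tmul p q =>
      simp only [LinearMap.rTensor_tmul, lTransl, LinearMap.comp_apply, LinearEquiv.coe_coe]
      generalize CoalgebraStruct.comul (R := k) p = w
      induction w with
      | zero => simp
      | tmul s t => simp [TensorProduct.smul_tmul']
      | add s t hs ht => simp only [map_add, add_tmul, hs, ht]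
  rw [key2, Coalgebra.coassoc_apply]
  exact key _

theorem exists_reynolds_functional (hG : HopfRep.IsLinearlyReductive k A) :
    ∃ α : A →ₗ[k] k, α 1 = 1 ∧ ∀ h : A →ₐ[k] k, α ∘ₗ lTransl h = α := by
  have h1 : (1 : A) ∈ HopfRep.fixedPts k A A := by
    show CoalgebraStruct.comul (R := k) (1 : A) = (1 : A) ⊗ₜ[k] (1 : A)
    simp [Algebra.TensorProduct.one_def]
  refine ⟨(CoalgebraStruct.counit (R := k) (A := A)) ∘ₗ rey k A A hG, ?_, fun h => LinearMap.ext fun a => ?_⟩
  · rw [LinearMap.comp_apply, rey_of_fixed hG h1]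
    simp
  · have hfix : rey k A A hG a = algebraMap k A (CoalgebraStruct.counit (R := k) (rey k A A hG a)) := by
      have h2 : CoalgebraStruct.comul (R := k) (rey k A A hG a) = rey k A A hG a ⊗ₜ[k] (1 : A) := rey_mem hG a
      have h3 := congrArg (fun z => (TensorProduct.lid k A) ((CoalgebraStruct.counit (R := k) (A := A)).rTensor A z)) h2
      simp only [Coalgebra.rTensor_counit_comul] at h3
      simpa [Algebra.algebraMap_eq_smul_one] using h3
    simp only [LinearMap.comp_apply]
    rw [← map_rey hG (isComodHom_lTransl h) a]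
    conv_lhs => rw [hfix]
    rw [Algebra.algebraMap_eq_smul_one, map_smul, lTransl_one, ← Algebra.algebraMap_eq_smul_one, ← hfix]

end Reynolds

section Avg

variable {ι : Type u} [Fintype ι] [DecidableEq ι] {c : ι → ι → A}

/-- The gradient. -/
def grad (f : MvPolynomial ι k) : ι → MvPolynomial ι k := fun i => pderiv i f

/-- The conormal module of an ideal, inside the free module. -/
def conorm (I : Ideal (MvPolynomial ι k)) : Submodule (MvPolynomial ι k) (ι → MvPolynomial ι k) :=
  Submodule.span (MvPolynomial ι k) (grad '' (I : Set (MvPolynomial ι k))) ⊔ Submodule.pi Set.univ (fun _ => I)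

variable (c) in
/-- The matrix of a point, with constant polynomial entries. -/
def cg (g : A →ₐ[k] k) : Matrix ι ι (MvPolynomial ι k) := (Comod33.Mat.ev g c).map C

theorem cg_mul (hc : Comod33.Mat.IsRep (k := k) c) (g h : WithConv (A →ₐ[k] k)) :
    cg c (g * h).ofConv = cg c g.ofConv * cg c h.ofConv := by
  have h1 := Comod33.Mat.ev_mul hc g.ofConv h.ofConv
  unfold cg
  rw [show (g * h).ofConv = (WithConv.toConv g.ofConv * WithConv.toConv h.ofConv).ofConv from rfl, h1, Matrix.map_mul]

theorem cg_one (hc : Comod33.Mat.IsRep (k := k) c) : cg c (1 : WithConv (A →ₐ[k] k)).ofConv = 1 := by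
  unfold cg
  rw [Comod33.Mat.ev_one hc, Matrix.map_one _ (map_zero _) (map_one _)]

variable [HopfRep.Comod k A (MvPolynomial ι k)] [GLin.IsCoactAlg k A (MvPolynomial ι k)]

local notation "σ_" => actHom A (MvPolynomial ι k)

theorem actHom_mul (g h : WithConv (A →ₐ[k] k)) (f : MvPolynomial ι k) :
    σ_ (g * h).ofConv f = σ_ g.ofConv (σ_ h.ofConv f) := by
  rw [actHom_apply, actHom_apply, actHom_apply, Comod33.act_mul]; rfl

theorem map_cg (g h : A →ₐ[k] k) : (cg c h).map (σ_ g) = cg c h := by
  ext i j : 1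
  exact (σ_ g).commutes _

variable (c) in
/-- Transport of a matrix field by a point. -/
def transp (g : WithConv (A →ₐ[k] k)) (P : Matrix ι ι (MvPolynomial ι k)) : Matrix ι ι (MvPolynomial ι k) :=
  cg c g.ofConv * P.map (σ_ g.ofConv) * cg c (g⁻¹).ofConv

theorem transp_transp (hc : Comod33.Mat.IsRep (k := k) c) (g h : WithConv (A →ₐ[k] k))
    (P : Matrix ι ι (MvPolynomial ι k)) : transp c g (transp c h P) = transp c (g * h) P := by
  unfold transp
  rw [Matrix.map_mul, Matrix.map_mul, map_cg, map_cg, Matrix.map_map, mul_inv_rev, cg_mul hc, cg_mul hc]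
  rw [show P.map (σ_ g.ofConv ∘ σ_ h.ofConv) = P.map (σ_ (g * h).ofConv) from by
    ext i j : 1; exact (actHom_mul g h _).symm]
  simp only [Matrix.mul_assoc]

variable (hX : ∀ j, HopfRep.Comod.coact (k := k) (A := A) (X j : MvPolynomial ι k) = ∑ i, X i ⊗ₜ[k] c i j)

include hX in
theorem grad_actHom (g : A →ₐ[k] k) (f : MvPolynomial ι k) (i : ι) :
    grad (σ_ g f) i = ∑ j, cg c g i j * σ_ g (grad f j) :=
  pderiv_actHom hX g i f

include hX in
/-- The semilinear map preserves the conormal module. -/
theorem semi_mem_conorm {I : Ideal (MvPolynomial ι k)} (hI : ∀ g : A →ₐ[k] k, ∀ r ∈ I, σ_ g r ∈ I)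
    (g : A →ₐ[k] k) {w : ι → MvPolynomial ι k} (hw : w ∈ conorm I) :
    (fun i => ∑ a, cg c g i a * σ_ g (w a)) ∈ conorm I := by
  obtain ⟨u, hu, v, hv, rfl⟩ := Submodule.mem_sup.1 hw
  have h1 : (fun i => ∑ a, cg c g i a * σ_ g (u a)) ∈ conorm I := by
    clear hw
    induction hu using Submodule.span_induction with
    | mem x hx =>
      obtain ⟨f, hf, rfl⟩ := hx
      refine Submodule.mem_sup_left (Submodule.subset_span ⟨σ_ g f, hI g f hf, funext fun i => ?_⟩)
      exact grad_actHom hX g f i
    | zero =>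
      convert Submodule.zero_mem (conorm I) using 1
      funext i
      simp
    | add x y _ _ hx hy =>
      convert add_mem hx hy using 1
      funext i
      simp [mul_add, Finset.sum_add_distrib]
    | smul r x _ hx =>
      convert Submodule.smul_mem _ (σ_ g r) hx using 1
      funext i
      simp only [Pi.smul_apply, smul_eq_mul, map_mul, Finset.mul_sum]
      exact Finset.sum_congr rfl fun a _ => by ring
  have h2 : (fun i => ∑ a, cg c g i a * σ_ g (v a)) ∈ conorm I :=
    Submodule.mem_sup_right fun i _ => sum_mem fun a _ => I.mul_mem_left _ (hI g _ (hv a (Set.mem_univ a)))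
  convert add_mem h1 h2 using 1
  funext i
  simp [mul_add, Finset.sum_add_distrib]

/-- columns of `1 - P` -/
def coCol (P : Matrix ι ι (MvPolynomial ι k)) (j : ι) : ι → MvPolynomial ι k := fun i => (1 : Matrix ι ι (MvPolynomial ι k)) i j - P i j

include hX in
theorem coCol_transp (hc : Comod33.Mat.IsRep (k := k) c) {I : Ideal (MvPolynomial ι k)} (hI : ∀ g : A →ₐ[k] k, ∀ r ∈ I, σ_ g r ∈ I)
    {P : Matrix ι ι (MvPolynomial ι k)} (hP : ∀ j, coCol P j ∈ conorm I) (g : WithConv (A →ₐ[k] k)) (j : ι) :
    coCol (transp c g P) j ∈ conorm I := by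
  have h : coCol (transp c g P) j =
      ∑ b, cg c (g⁻¹).ofConv b j • fun i => ∑ a, cg c g.ofConv i a * σ_ g.ofConv (coCol P b a) := by
    have h1 : (1 : Matrix ι ι (MvPolynomial ι k)) - transp c g P = transp c g (1 - P) := by
      unfold transp
      rw [Matrix.map_sub _ (map_sub _), Matrix.map_one _ (map_zero _) (map_one _), mul_sub, sub_mul, mul_one,
        ← cg_mul hc, mul_inv_cancel, cg_one hc]
    funext i
    have h2 := congrFun (congrFun h1 i) j
    rw [Matrix.sub_apply] at h2
    rw [show coCol (transp c g P) j i = (1 : Matrix ι ι (MvPolynomial ι k)) i j - transp c g P i j from rfl, h2]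
    unfold transp
    rw [Matrix.mul_apply, Finset.sum_apply]
    refine Finset.sum_congr rfl fun b _ => ?_
    rw [Matrix.mul_apply, Pi.smul_apply, smul_eq_mul, Finset.sum_mul, Finset.mul_sum]
    exact Finset.sum_congr rfl fun a _ => by simp [coCol]; ring
  rw [h]
  exact sum_mem fun b _ => Submodule.smul_mem _ _ (semi_mem_conorm hX hI g.ofConv (hP b))

include hX in
theorem annih_transp (hc : Comod33.Mat.IsRep (k := k) c) {I : Ideal (MvPolynomial ι k)} (hI : ∀ g : A →ₐ[k] k, ∀ r ∈ I, σ_ g r ∈ I)
    {P : Matrix ι ι (MvPolynomial ι k)} (hP : ∀ f ∈ I, ∀ a, ∑ b, P a b * grad f b ∈ I)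
    (g : WithConv (A →ₐ[k] k)) {f : MvPolynomial ι k} (hf : f ∈ I) (i : ι) : ∑ j, transp c g P i j * grad f j ∈ I := by
  let f' := σ_ (g⁻¹).ofConv f
  have hf' : f' ∈ I := hI _ _ hf
  have hff : σ_ g.ofConv f' = f := by
    rw [← actHom_mul, mul_inv_cancel]
    rw [actHom_apply, Comod33.act_one]; rfl
  have key : ∀ b, ∑ j, cg c (g⁻¹).ofConv b j * grad f j = σ_ g.ofConv (grad f' b) := by
    intro b
    calc ∑ j, cg c (g⁻¹).ofConv b j * grad f j
        = ∑ j, cg c (g⁻¹).ofConv b j * ∑ a, cg c g.ofConv j a * σ_ g.ofConv (grad f' a) := by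
          refine Finset.sum_congr rfl fun j _ => ?_
          rw [← grad_actHom hX g.ofConv f' j, hff]
      _ = ∑ a, (cg c (g⁻¹).ofConv * cg c g.ofConv) b a * σ_ g.ofConv (grad f' a) := by
          simp only [Matrix.mul_apply, Finset.mul_sum, Finset.sum_mul]
          rw [Finset.sum_comm]
          exact Finset.sum_congr rfl fun a _ => Finset.sum_congr rfl fun j _ => by ring
      _ = σ_ g.ofConv (grad f' b) := by
          rw [← cg_mul hc, inv_mul_cancel, cg_one hc]
          simp [Matrix.one_apply]
  have h : ∑ j, transp c g P i j * grad f j = ∑ a, cg c g.ofConv i a * σ_ g.ofConv (∑ b, P a b * grad f' b) := by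
    unfold transp
    simp only [map_sum, map_mul, ← key, Matrix.mul_apply, Matrix.map_apply, Finset.sum_mul, Finset.mul_sum]
    rw [Finset.sum_comm]
    refine Eq.trans ?_ Finset.sum_comm
    refine Finset.sum_congr rfl fun b _ => ?_
    rw [Finset.sum_comm]
    exact Finset.sum_congr rfl fun a _ => Finset.sum_congr rfl fun j _ => by ring
  rw [h]
  exact sum_mem fun a _ => I.mul_mem_left _ (hI _ _ (hP f' hf' a))

variable [IsAlgClosed k] [Algebra.FiniteType k A] [IsReduced A]

include hX in
/-- An invariant splitting from any splitting. -/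
theorem exists_average (hG : HopfRep.IsLinearlyReductive k A) (hc : Comod33.Mat.IsRep (k := k) c)
    (I : Ideal (MvPolynomial ι k)) (hI : ∀ g : A →ₐ[k] k, ∀ r ∈ I, σ_ g r ∈ I)
    (P₀ : Matrix ι ι (MvPolynomial ι k)) (h1 : ∀ j, coCol P₀ j ∈ conorm I)
    (h2 : ∀ f ∈ I, ∀ a, ∑ b, P₀ a b * grad f b ∈ I) :
    ∃ P : Matrix ι ι (MvPolynomial ι k), (∀ j, coCol P j ∈ conorm I) ∧
      (∀ f ∈ I, ∀ a, ∑ b, P a b * grad f b ∈ I) ∧ ∀ g : WithConv (A →ₐ[k] k), transp c g P = P := by
  obtain ⟨α, hα1, hαL⟩ := exists_reynolds_functional hG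
  let Φ : ι → ι → MvPolynomial ι k ⊗[k] A := fun i j =>
    ∑ b, ∑ a, ((1 : MvPolynomial ι k) ⊗ₜ[k] (c i a * HopfAlgebra.antipode k (c b j))) *
      HopfRep.Comod.coact (k := k) (A := A) (P₀ a b)
  have hpt : ∀ (g : A →ₐ[k] k) i j, Comod33.rc g.toLinearMap (Φ i j) = transp c (WithConv.toConv g) P₀ i j := by
    intro g i j
    simp only [Φ, map_sum, rc_point_mul, rc_actHom]
    unfold transp
    simp only [Matrix.mul_apply, Finset.sum_mul, Matrix.map_apply]
    refine Finset.sum_congr rfl fun b _ => Finset.sum_congr rfl fun a _ => ?_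
    simp only [Comod33.rc_tmul, AlgHom.toLinearMap_apply, map_mul, cg, Matrix.map_apply, Comod33.Mat.ev_apply,
      WithConv.ofConv_toConv]
    rw [show ((WithConv.toConv g)⁻¹).ofConv (c b j) = g (HopfAlgebra.antipode k (c b j)) from rfl,
      Algebra.smul_def, mul_one, MvPolynomial.algebraMap_eq, map_mul]
    ring
  refine ⟨fun i j => Comod33.rc α (Φ i j), fun j => ?_, fun f hf a => ?_, fun h => ?_⟩
  · let z : (ι → MvPolynomial ι k) ⊗[k] A :=
      ∑ i, (LinearMap.single k (fun _ : ι => MvPolynomial ι k) i).rTensor A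
        (((1 : Matrix ι ι (MvPolynomial ι k)) i j) ⊗ₜ[k] (1 : A) - Φ i j)
    have hz : ∀ ψ : A →ₗ[k] k, ψ 1 = 1 → Comod33.rc ψ z =
        fun i => (1 : Matrix ι ι (MvPolynomial ι k)) i j - Comod33.rc ψ (Φ i j) := by
      intro ψ hψ
      funext i
      simp [z, rc_map, map_sum, Finset.sum_apply, Pi.single_apply, hψ]
    have h := rc_mem_of_points ((conorm I).restrictScalars k) z (fun g => by
      rw [hz _ (map_one g)]
      rw [show (fun i => (1 : Matrix ι ι (MvPolynomial ι k)) i j - Comod33.rc g.toLinearMap (Φ i j)) =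
        coCol (transp c (WithConv.toConv g) P₀) j from funext fun i => by rw [hpt]; rfl]
      exact coCol_transp hX hc hI h1 (WithConv.toConv g) j) α
    rw [hz _ hα1] at h
    exact h
  · have h := rc_mem_of_points (I.restrictScalars k) (∑ b, Φ a b * (grad f b ⊗ₜ[k] (1 : A))) (fun g => by
      simp only [map_sum, rc_mul_left, hpt]
      exact annih_transp hX hc hI h2 (WithConv.toConv g) hf a) α
    simp only [map_sum, rc_mul_left] at h
    exact h
  · funext i j
    let z : MvPolynomial ι k ⊗[k] A := ∑ b, ∑ a,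
      (LinearMap.mulLeft k (cg c h.ofConv i a * cg c (h⁻¹).ofConv b j) ∘ₗ (σ_ h.ofConv).toLinearMap).rTensor A (Φ a b)
    have hz : ∀ ψ : A →ₗ[k] k, Comod33.rc ψ z = transp c h (fun a b => Comod33.rc ψ (Φ a b)) i j := by
      intro ψ
      simp only [z, map_sum, rc_map]
      unfold transp
      simp only [Matrix.mul_apply, Finset.sum_mul]
      refine Finset.sum_congr rfl fun b _ => Finset.sum_congr rfl fun a _ => ?_
      show cg c h.ofConv i a * cg c (h⁻¹).ofConv b j * σ_ h.ofConv _ = _
      rw [Matrix.map_apply]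
      ring
    have hz2 : ∀ g : A →ₐ[k] k, Comod33.rc g.toLinearMap z =
        Comod33.rc g.toLinearMap ((lTransl h.ofConv).lTensor _ (Φ i j)) := by
      intro g
      rw [hz, Comod33.rc_lTensor, point_lTransl, hpt,
        show (fun a b => Comod33.rc g.toLinearMap (Φ a b)) = transp c (WithConv.toConv g) P₀ from by
          funext a b; exact hpt g a b]
      rw [transp_transp hc]
    have h3 := eq_of_points hz2 α
    rw [hz, Comod33.rc_lTensor, hαL] at h3
    exact h3

end Avg

end Groth.Agent.Luna34
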