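import Groth.Agent.Luna34.EtaleCrit
import Mathlib.RingTheory.Ideal.Quotient.Operations
import Mathlib.RingTheory.LocalRing.ResidueField.Ideal
import Mathlib.RingTheory.Flat.Basic
import Mathlib.RingTheory.Flat.TorsionFree

/-!
Maps becoming isomorphisms after inverting an element; primes over a pair.
-/

set_option autoImplicit false

universe u

open TensorProduct

namespace Groth.Agent.Luna34

section Away

variable {C B R : Type u} [CommRing C] [CommRing B] [CommRing R] [Algebra C B] [Algebra C R]
variable (i : B →ₐ[C] R) (hi : Function.Injective i) {b : B} (hs : ∀ r : R, ∃ (n : ℕ) (β : B), i β = i b ^ n * r)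

include hi hs in
/-- Étaleness is the same on both sides of a map which becomes bijective after inverting `b`. -/
theorem isEtaleAt_iff_of_away (Q : Ideal R) [Q.IsPrime] (hb : i b ∉ Q) :
    Algebra.IsEtaleAt C (Q.comap i.toRingHom) ↔ Algebra.IsEtaleAt C Q := by
  set q := Q.comap i.toRingHom
  let L : Localization.AtPrime q →ₐ[C] Localization.AtPrime Q :=
    { Localization.localRingHom q Q i.toRingHom rfl with
      commutes' := fun c => by
        show Localization.localRingHom q Q i.toRingHom rfl (algebraMap C _ c) = _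
        rw [IsScalarTower.algebraMap_apply C B (Localization.AtPrime q), Localization.localRingHom_to_map,
          IsScalarTower.algebraMap_apply C R (Localization.AtPrime Q)]
        exact congrArg _ (i.commutes c) }
  have hL : ∀ a, L (algebraMap B _ a) = algebraMap R _ (i a) := fun a =>
    Localization.localRingHom_to_map q Q i.toRingHom rfl a
  have hinj : Function.Injective L := by
    refine (injective_iff_map_eq_zero L).2 fun z hz => ?_
    obtain ⟨a, t, ht, hzt⟩ := exists_eq_mul_inv q z
    have ha : algebraMap R (Localization.AtPrime Q) (i a) = 0 := by rw [← hL, ← hzt, map_mul, hz, zero_mul]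
    obtain ⟨u, hu⟩ := (IsLocalization.map_eq_zero_iff Q.primeCompl (Localization.AtPrime Q) _).1 ha
    obtain ⟨n, β, hβ⟩ := hs u
    have hβq : β ∉ q := fun h => by
      have h' : i b ^ n * (u : R) ∈ Q := hβ ▸ h
      exact (‹Q.IsPrime›.mem_or_mem h').elim (fun h => hb (‹Q.IsPrime›.mem_of_pow_mem _ h)) u.2
    have h0 : β * a = 0 := hi (by rw [map_mul, hβ, map_zero, mul_assoc, hu, mul_zero])
    have ha0 : algebraMap B (Localization.AtPrime q) a = 0 :=
      (IsLocalization.map_eq_zero_iff q.primeCompl _ _).2 ⟨⟨β, hβq⟩, h0⟩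
    rw [ha0] at hzt
    exact (IsUnit.mul_left_eq_zero (IsLocalization.map_units (Localization.AtPrime q) (⟨t, ht⟩ : q.primeCompl))).1 hzt
  have hsurj : Function.Surjective L := by
    intro z
    obtain ⟨r, t, ht, hzt⟩ := exists_eq_mul_inv Q z
    obtain ⟨n, α, hα⟩ := hs r
    obtain ⟨m, β, hβ⟩ := hs t
    have hβq : β * b ^ n ∉ q := fun h => by
      have h' : i b ^ m * t * i b ^ n ∈ Q := by rw [← hβ, ← map_pow, ← map_mul]; exact h
      rcases ‹Q.IsPrime›.mem_or_mem h' with h | h
      · exact (‹Q.IsPrime›.mem_or_mem h).elim (fun h => hb (‹Q.IsPrime›.mem_of_pow_mem _ h)) ht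
      · exact hb (‹Q.IsPrime›.mem_of_pow_mem _ h)
    obtain ⟨v, hv⟩ := isUnit_iff_exists_inv.1
      (IsLocalization.map_units (Localization.AtPrime q) (⟨_, hβq⟩ : q.primeCompl))
    refine ⟨algebraMap B _ (α * b ^ m) * v, ?_⟩
    have h1 : IsUnit (algebraMap R (Localization.AtPrime Q) (i (β * b ^ n))) :=
      IsLocalization.map_units (Localization.AtPrime Q) (⟨_, hβq⟩ : Q.primeCompl)
    refine h1.mul_left_injective ?_
    show L _ * _ = z * _
    rw [← hL, ← map_mul, mul_assoc, mul_comm v, hv, mul_one, hL, hL, map_mul i, map_mul i, map_pow, map_pow, hα, hβ]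
    rw [show i b ^ m * t * i b ^ n = t * (i b ^ m * i b ^ n) by ring, map_mul (algebraMap R _) t, ← mul_assoc, hzt,
      ← map_mul]
    congr 1
    ring
  let e := AlgEquiv.ofBijective L ⟨hinj, hsurj⟩
  exact ⟨fun h => Algebra.FormallyEtale.of_equiv e, fun h => Algebra.FormallyEtale.of_equiv e.symm⟩

end Away

/-- A prime of the tensor product over a compatible pair of primes. -/
theorem exists_prime_over_pair {S₀ S T : Type u} [CommRing S₀] [CommRing S] [CommRing T] [Algebra S₀ S] [Algebra S₀ T]
    (P : Ideal S) [P.IsPrime] (q : Ideal T) [q.IsPrime] (p : Ideal S₀) [p.IsPrime]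
    (hP : P.comap (algebraMap S₀ S) = p) (hq : q.comap (algebraMap S₀ T) = p) :
    ∃ Q : Ideal (S ⊗[S₀] T), Q.IsPrime ∧
      Q.comap (Algebra.TensorProduct.includeLeft : S →ₐ[S₀] S ⊗[S₀] T).toRingHom = P ∧
      Q.comap (Algebra.TensorProduct.includeRight : T →ₐ[S₀] S ⊗[S₀] T).toRingHom = q := by
  haveI : P.LiesOver p := ⟨hP.symm⟩
  haveI : q.LiesOver p := ⟨hq.symm⟩
  letI : Algebra p.ResidueField P.ResidueField := (Ideal.ResidueField.map p P (algebraMap S₀ S) hP.symm).toAlgebra
  letI : Algebra p.ResidueField q.ResidueField := (Ideal.ResidueField.map p q (algebraMap S₀ T) hq.symm).toAlgebra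
  haveI : Nontrivial (P.ResidueField ⊗[p.ResidueField] q.ResidueField) :=
    (Algebra.TensorProduct.includeLeft_injective (S := p.ResidueField) (R := p.ResidueField) (A := P.ResidueField)
      (algebraMap p.ResidueField q.ResidueField).injective).nontrivial
  obtain ⟨M, hM⟩ := Ideal.exists_maximal (P.ResidueField ⊗[p.ResidueField] q.ResidueField)
  letI := Ideal.Quotient.field M
  let E := (P.ResidueField ⊗[p.ResidueField] q.ResidueField) ⧸ M
  let a : P.ResidueField →+* E := (Ideal.Quotient.mk M).comp Algebra.TensorProduct.includeLeftRingHom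
  let b : q.ResidueField →+* E :=
    (Ideal.Quotient.mk M).comp (Algebra.TensorProduct.includeRight (R := p.ResidueField) (A := P.ResidueField)).toRingHom
  letI : Algebra S₀ E := ((a.comp (algebraMap S P.ResidueField)).comp (algebraMap S₀ S)).toAlgebra
  let fS : S →ₐ[S₀] E := { a.comp (algebraMap S P.ResidueField) with commutes' := fun c => rfl }
  let fT : T →ₐ[S₀] E :=
    { b.comp (algebraMap T q.ResidueField) with
      commutes' := fun c => by
        show b (algebraMap T q.ResidueField (algebraMap S₀ T c)) = a (algebraMap S P.ResidueField (algebraMap S₀ S c))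
        have h1 : algebraMap T q.ResidueField (algebraMap S₀ T c) =
            algebraMap p.ResidueField q.ResidueField (algebraMap S₀ p.ResidueField c) := by
          rw [RingHom.algebraMap_toAlgebra]
          exact (Ideal.ResidueField.map_algebraMap ..).symm
        have h2 : algebraMap S P.ResidueField (algebraMap S₀ S c) =
            algebraMap p.ResidueField P.ResidueField (algebraMap S₀ p.ResidueField c) := by
          rw [RingHom.algebraMap_toAlgebra]
          exact (Ideal.ResidueField.map_algebraMap ..).symm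
        rw [h1, h2]
        show Ideal.Quotient.mk M ((1 : P.ResidueField) ⊗ₜ[p.ResidueField] _) = Ideal.Quotient.mk M (_ ⊗ₜ[p.ResidueField] (1 : q.ResidueField))
        rw [Algebra.algebraMap_eq_smul_one (R := p.ResidueField) (A := q.ResidueField),
          Algebra.algebraMap_eq_smul_one (R := p.ResidueField) (A := P.ResidueField), TensorProduct.tmul_smul, TensorProduct.smul_tmul'] }
  let f : S ⊗[S₀] T →ₐ[S₀] E := Algebra.TensorProduct.productMap fS fT
  refine ⟨RingHom.ker f, RingHom.ker_isPrime f, ?_, ?_⟩
  · ext s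
    rw [Ideal.mem_comap, RingHom.mem_ker]
    show f (s ⊗ₜ[S₀] (1 : T)) = 0 ↔ _
    rw [show f (s ⊗ₜ[S₀] (1 : T)) = fS s from Algebra.TensorProduct.productMap_left_apply _ _ _]
    show a (algebraMap S P.ResidueField s) = 0 ↔ _
    rw [map_eq_zero_iff _ a.injective, Ideal.algebraMap_residueField_eq_zero]
  · ext t
    rw [Ideal.mem_comap, RingHom.mem_ker]
    show f ((1 : S) ⊗ₜ[S₀] t) = 0 ↔ _
    rw [show f ((1 : S) ⊗ₜ[S₀] t) = fT t from Algebra.TensorProduct.productMap_right_apply _ _ _]
    show b (algebraMap T q.ResidueField t) = 0 ↔ _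
    rw [map_eq_zero_iff _ b.injective, Ideal.algebraMap_residueField_eq_zero]

end Groth.Agent.Luna34
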