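import Groth.Prelude.Def_ComodTens
import Groth.Agent.LinRed34.Ring
import Groth.Agent.LinRed34.FiniteType

/-!
The coaction on `S ⊗[S₀] M` for invariant `S₀`, and its invariants.
-/

set_option autoImplicit false

universe u

open TensorProduct

noncomputable section

namespace Groth.Agent.Luna34

variable {k : Type u} [Field k] {A : Type u} [CommRing A] [HopfAlgebra k A]
variable {S : Type u} [CommRing S] [Algebra k S] [HopfRep.Comod k A S] [GLin.IsCoactAlg k A S]
variable {S₀ : Type u} [CommRing S₀] [Algebra k S₀] [Algebra S₀ S] [IsScalarTower k S₀ S]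
variable {M : Type u} [CommRing M] [Algebra k M] [Algebra S₀ M] [IsScalarTower k S₀ M]

/-- `s ↦ s ⊗ r` -/
def iota (r : M) : S →ₗ[k] S ⊗[S₀] M :=
  (((TensorProduct.mk S₀ S M).flip r).restrictScalars k)

@[simp] theorem iota_apply (r : M) (s : S) : iota (S₀ := S₀) (k := k) r s = s ⊗ₜ[S₀] r := rfl

/-- The coaction on the tensor product over invariants. -/
theorem exists_comod_tensor (hinv : ∀ c : S₀, algebraMap S₀ S c ∈ GLin.invariants k A S) :
    ∃ (c : HopfRep.Comod k A (S ⊗[S₀] M)) (_ : @GLin.IsCoactAlg k _ A _ _ (S ⊗[S₀] M) _ _ c),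
      ∀ (s : S) (r : M), c.coact (s ⊗ₜ[S₀] r) =
        (iota (k := k) (S₀ := S₀) r).rTensor A (HopfRep.Comod.coact (k := k) (A := A) s) := by
  let iS : S →ₐ[k] S ⊗[S₀] M := (Algebra.TensorProduct.includeLeft : S →ₐ[k] S ⊗[S₀] M)
  have hiS : ∀ s, iS s = s ⊗ₜ[S₀] (1 : M) := fun s => rfl
  let f₁ : S →ₐ[S₀] (S ⊗[S₀] M) ⊗[k] A :=
    { ((Algebra.TensorProduct.map iS (AlgHom.id k A)).comp (GLin.coactAlgHom k A S)).toRingHom with
      commutes' := fun c => by
        show Algebra.TensorProduct.map iS (AlgHom.id k A) (HopfRep.Comod.coact (k := k) (A := A) (algebraMap S₀ S c)) = _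
        rw [(GLin.mem_invariants_iff k A S _).1 (hinv c)]
        rfl }
  let f₂ : M →ₐ[S₀] (S ⊗[S₀] M) ⊗[k] A :=
    (Algebra.TensorProduct.includeLeft : (S ⊗[S₀] M) →ₐ[S₀] (S ⊗[S₀] M) ⊗[k] A).comp
      Algebra.TensorProduct.includeRight
  let F : S ⊗[S₀] M →ₐ[S₀] (S ⊗[S₀] M) ⊗[k] A := Algebra.TensorProduct.productMap f₁ f₂
  let Fk : S ⊗[S₀] M →ₐ[k] (S ⊗[S₀] M) ⊗[k] A :=
    { F.toRingHom with
      commutes' := fun c => by
        show F (algebraMap k (S ⊗[S₀] M) c) = _
        rw [IsScalarTower.algebraMap_apply k S₀ (S ⊗[S₀] M), AlgHom.commutes,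
          Algebra.TensorProduct.algebraMap_apply (A := S ⊗[S₀] M) (B := A),
          ← IsScalarTower.algebraMap_apply k S₀ (S ⊗[S₀] M)]
        rfl }
  let d : S ⊗[S₀] M →ₗ[k] (S ⊗[S₀] M) ⊗[k] A := Fk.toLinearMap
  have hd : ∀ (s : S) (r : M), d (s ⊗ₜ[S₀] r) =
      (iota (k := k) (S₀ := S₀) r).rTensor A (HopfRep.Comod.coact (k := k) (A := A) s) := by
    intro s r
    show Algebra.TensorProduct.productMap f₁ f₂ (s ⊗ₜ[S₀] r) = _
    rw [Algebra.TensorProduct.productMap_apply_tmul]
    show Algebra.TensorProduct.map iS (AlgHom.id k A) (HopfRep.Comod.coact (k := k) (A := A) s) *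
      (((1 : S) ⊗ₜ[S₀] r) ⊗ₜ[k] (1 : A)) = _
    generalize HopfRep.Comod.coact (k := k) (A := A) s = z
    induction z with
    | zero => simp
    | tmul p a => simp [hiS]
    | add p q hp hq => simp only [map_add, add_mul, hp, hq]
  have hcomp : ∀ r : M, d ∘ₗ iota (k := k) (S₀ := S₀) r =
      (iota (k := k) (S₀ := S₀) r).rTensor A ∘ₗ (HopfRep.Comod.coact (k := k) (A := A) (V := S)) :=
    fun r => LinearMap.ext fun s => hd s r
  let c : HopfRep.Comod k A (S ⊗[S₀] M) :=
    { coact := d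
      coassoc := LinearMap.ext fun z => by
        induction z with
        | zero => simp
        | add p q hp hq => simp only [map_add, hp, hq]
        | tmul s r =>
          have h := ComodTens.coassoc_apply_of_hom ‹HopfRep.Comod k A S› d _ (hcomp r) s
          simpa only [LinearMap.comp_apply, LinearEquiv.coe_coe, iota_apply] using h
      counit_comp := LinearMap.ext fun z => by
        induction z with
        | zero => simp
        | add p q hp hq => simp only [map_add, hp, hq]
        | tmul s r =>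
          have h := ComodTens.counit_apply_of_hom ‹HopfRep.Comod k A S› d _ (hcomp r) s
          simpa only [LinearMap.comp_apply, iota_apply, LinearMap.flip_apply, TensorProduct.mk_apply] using h }
  exact ⟨c, @GLin.IsCoactAlg.mk k _ A _ _ _ _ _ c (map_one F) (map_mul F), hd⟩

variable [HopfRep.Comod k A (S ⊗[S₀] M)]

open Groth.Agent.LinRed34 in
/-- The invariants of the tensor product come from the second factor. -/
theorem exists_eq_one_tmul (hG : HopfRep.IsLinearlyReductive k A)
    (hc : ∀ (s : S) (r : M), HopfRep.Comod.coact (k := k) (A := A) (s ⊗ₜ[S₀] r) =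
      (iota (k := k) (S₀ := S₀) r).rTensor A (HopfRep.Comod.coact (k := k) (A := A) s))
    (hS₀ : (IsScalarTower.toAlgHom k S₀ S).range = GLin.invariants k A S)
    {z : S ⊗[S₀] M} (hz : z ∈ HopfRep.fixedPts k A (S ⊗[S₀] M)) : ∃ r : M, z = (1 : S) ⊗ₜ[S₀] r := by
  have key : ∀ w : S ⊗[S₀] M, ∃ r : M, rey k A (S ⊗[S₀] M) hG w = (1 : S) ⊗ₜ[S₀] r := by
    intro w
    induction w with
    | zero => exact ⟨0, by simp⟩
    | add p q hp hq =>
      obtain ⟨a, ha⟩ := hp
      obtain ⟨b, hb⟩ := hq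
      exact ⟨a + b, by rw [map_add, ha, hb, TensorProduct.tmul_add]⟩
    | tmul s r =>
      have hι : Hoch.IsComodHom (k := k) (V := S) (W := S ⊗[S₀] M) A (iota (k := k) (S := S) (S₀ := S₀) r) := by
        refine LinearMap.ext fun v => ?_
        exact hc v r
      have h := map_rey hG hι s
      simp only [iota_apply] at h
      obtain ⟨a, ha⟩ : rey k A S hG s ∈ (IsScalarTower.toAlgHom k S₀ S).range := hS₀ ▸ rey_mem hG s
      refine ⟨a • r, ?_⟩
      rw [← h, ← ha, TensorProduct.tmul_smul, TensorProduct.smul_tmul', Algebra.smul_def, mul_one]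
      rfl
  obtain ⟨r, hr⟩ := key z
  exact ⟨r, by rw [← hr, rey_of_fixed hG hz]⟩

end Groth.Agent.Luna34
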