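import Groth.Agent.Luna34.InvEtale
import Groth.Agent.Luna34.TensorCoact

/-!
Near an étale closed orbit mapping injectively, a finite map is the base change of its map of invariants.
-/

set_option autoImplicit false

universe u

open TensorProduct IsLocalRing

noncomputable section

namespace Groth.Agent.Luna34

open Groth.Agent.Hopf35.Stable Groth.Agent.LinRed34
open Groth.Agent.FinGrp34.OrbitMap (actHom actHom_apply actHom_bijective)

/-- Powers of a maximal ideal generated from below are locally generated by powers from below. -/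
theorem exists_mul_mem_pow_map {S R : Type u} [CommRing S] [CommRing R] [Algebra S R] (m : Ideal R) [m.IsPrime]
    (p : Ideal S) (hu : ∀ r ∈ m, ∃ u ∉ m, u * r ∈ p.map (algebraMap S R)) (n : ℕ) (r : R)
    (hr : ∃ u ∉ m, u * r ∈ m ^ n) : ∃ u ∉ m, u * r ∈ (p ^ n).map (algebraMap S R) := by
  rw [← mem_maximalIdeal_pow_iff] at hr
  rw [← mem_map_atPrime_iff, Ideal.map_pow, Ideal.map_pow]
  refine Ideal.pow_right_mono ?_ n hr
  rw [← Localization.AtPrime.map_eq_maximalIdeal, Ideal.map_le_iff_le_comap]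
  exact fun v hv => (mem_map_atPrime_iff m _ v).2 (hu v hv)

variable {k : Type u} [Field k] [IsAlgClosed k]
variable {A : Type u} [CommRing A] [HopfAlgebra k A] [Algebra.FiniteType k A] [IsReduced A]
variable {S : Type u} [CommRing S] [Algebra k S] [Algebra.FiniteType k S] [HopfRep.Comod k A S] [GLin.IsCoactAlg k A S]
variable {R : Type u} [CommRing R] [Algebra k R] [Algebra.FiniteType k R] [HopfRep.Comod k A R] [GLin.IsCoactAlg k A R]
variable [Algebra S R] [IsScalarTower k S R] [Module.Finite S R]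
variable {S₀ : Type u} [CommRing S₀] [Algebra k S₀] [Algebra S₀ S] [IsScalarTower k S₀ S]
variable {R₀ : Type u} [CommRing R₀] [Algebra k R₀] [Algebra R₀ R] [IsScalarTower k R₀ R]
variable [Algebra S₀ R₀] [Algebra S₀ R] [IsScalarTower S₀ S R] [IsScalarTower S₀ R₀ R]

local notation "Φ_" => Algebra.TensorProduct.productMap (IsScalarTower.toAlgHom S₀ S R) (IsScalarTower.toAlgHom S₀ R₀ R)

omit [IsAlgClosed k] [Algebra.FiniteType k A] [IsReduced A] [Algebra.FiniteType k S] [Algebra.FiniteType k R]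
  [Module.Finite S R] [HopfRep.Comod k A S] [GLin.IsCoactAlg k A S] [HopfRep.Comod k A R] [GLin.IsCoactAlg k A R] in
theorem productMap_tmul (s : S) (r : R₀) :
    Φ_ (s ⊗ₜ[S₀] r) = algebraMap S R s * algebraMap R₀ R r :=
  Algebra.TensorProduct.productMap_apply_tmul _ _ _ _

theorem stable_range_productMap (he : Equivariant k A S R)
    (hR₀ : (IsScalarTower.toAlgHom k R₀ R).range = GLin.invariants k A R) (g : A →ₐ[k] k)
    (z : S ⊗[S₀] R₀) : ∃ z' : S ⊗[S₀] R₀, Φ_ z' = actHom A R g (Φ_ z) := by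
  induction z with
  | zero => exact ⟨0, by simp⟩
  | add p q hp hq =>
    obtain ⟨a, ha⟩ := hp
    obtain ⟨b, hb⟩ := hq
    exact ⟨a + b, by rw [map_add, map_add, map_add, ha, hb]⟩
  | tmul s r =>
    exact ⟨actHom A S g s ⊗ₜ r, by
      rw [productMap_tmul, productMap_tmul, map_mul, actHom_algebraMap he,
        actHom_invariant g (algebraMap_mem_invariants hR₀ r)]⟩

omit [IsAlgClosed k] [Algebra.FiniteType k A] [IsReduced A] [Algebra.FiniteType k S] [Algebra.FiniteType k R]
  [Module.Finite S R] [HopfRep.Comod k A S] [GLin.IsCoactAlg k A S] [HopfRep.Comod k A R] [GLin.IsCoactAlg k A R] in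
theorem isScalarTower_base (S : Type u) [CommRing S] [Algebra k S] [Algebra S₀ S] [IsScalarTower k S₀ S]
    [Algebra S R] [IsScalarTower k S R] [IsScalarTower S₀ S R] (hR₀i : Function.Injective (algebraMap R₀ R)) : IsScalarTower k S₀ R₀ :=
  IsScalarTower.of_algebraMap_eq fun c => hR₀i (by
    rw [← IsScalarTower.algebraMap_apply k R₀ R, ← IsScalarTower.algebraMap_apply S₀ R₀ R,
      IsScalarTower.algebraMap_apply S₀ S R, ← IsScalarTower.algebraMap_apply k S₀ S,
      ← IsScalarTower.algebraMap_apply k S R])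

/-- An invariant multiplier into the subalgebra generated by the base and the invariants. -/
theorem exists_mul_mem_range (hG : HopfRep.IsLinearlyReductive k A) (he : Equivariant k A S R)
    (hR₀ : (IsScalarTower.toAlgHom k R₀ R).range = GLin.invariants k A R)
    {x : R →ₐ[k] k} (hx : GLin.IsClosedOrbit k A x)
    (hinj : ∀ g : A →ₐ[k] k, GLin.actPt k g (x.comp (IsScalarTower.toAlgHom k S R)) =
      x.comp (IsScalarTower.toAlgHom k S R) → GLin.actPt k g x = x)
    (hun : ∀ r ∈ RingHom.ker x, ∃ w ∉ RingHom.ker x,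
      w * r ∈ (RingHom.ker (x.comp (IsScalarTower.toAlgHom k S R))).map (algebraMap S R)) :
    ∃ f : R₀, x (algebraMap R₀ R f) ≠ 0 ∧
      ∀ r : R, ∃ z : S ⊗[S₀] R₀, Φ_ z = algebraMap R₀ R f * r := by
  set θ := IsScalarTower.toAlgHom k S R
  set y := x.comp θ
  let P := S ⊗[S₀] R₀
  let Φ : P →+* R := (Φ_).toRingHom
  letI : Algebra P R := Φ.toAlgebra
  haveI : IsScalarTower S P R := IsScalarTower.of_algebraMap_eq fun s => by
    show algebraMap S R s = Φ_ (s ⊗ₜ[S₀] (1 : R₀))
    rw [productMap_tmul, map_one, mul_one]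
  haveI : Module.Finite P R := Module.Finite.of_restrictScalars_finite S P R
  let 𝔭 : Ideal P := (RingHom.ker x).comap Φ
  let q : Ideal R := 𝔭.map Φ
  have hq1 : ∀ z : R →ₐ[k] k, (∀ a ∈ q, z a = 0) → z = x := by
    intro z hz
    have h1 : ∀ a : P, z (Φ a) = x (Φ a) := by
      intro a
      have h := hz _ (Ideal.mem_map_of_mem Φ (show a - algebraMap k S (x (Φ a)) ⊗ₜ[S₀] (1 : R₀) ∈ 𝔭 by
        show x (Φ_ (a - _)) = 0
        rw [map_sub, productMap_tmul, map_one, mul_one, map_sub, ← IsScalarTower.algebraMap_apply k S R,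
          AlgHom.commutes]
        exact sub_self _))
      simp only [Φ] at h
      rw [AlgHom.toRingHom_eq_coe, RingHom.coe_coe, map_sub, productMap_tmul, map_one, mul_one, map_sub,
        ← IsScalarTower.algebraMap_apply k S R, AlgHom.commutes, sub_eq_zero] at h
      exact h
    refine eq_of_fibre hG he hx hinj (AlgHom.ext fun s => ?_) fun f hf => ?_
    · have := h1 (s ⊗ₜ 1)
      simp only [Φ] at this
      rw [AlgHom.toRingHom_eq_coe, RingHom.coe_coe, productMap_tmul, map_one, mul_one] at this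
      exact this
    · obtain ⟨a, rfl⟩ := exists_algebraMap_eq hR₀ hf
      have := h1 (1 ⊗ₜ a)
      simp only [Φ] at this
      rw [AlgHom.toRingHom_eq_coe, RingHom.coe_coe, productMap_tmul, map_one, one_mul] at this
      exact this.symm
  have hyq : (RingHom.ker y).map (algebraMap S R) ≤ q := by
    refine Ideal.map_le_iff_le_comap.2 fun s hs => ?_
    show algebraMap S R s ∈ q
    rw [show algebraMap S R s = Φ (s ⊗ₜ 1) from IsScalarTower.algebraMap_apply S P R s]
    refine Ideal.mem_map_of_mem Φ ?_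
    show x (Φ_ (s ⊗ₜ[S₀] (1 : R₀))) = 0
    rw [productMap_tmul, map_one, mul_one]
    exact hs
  have hsub : ∀ r, r - algebraMap k R (x r) ∈ q := by
    intro r
    set d := r - algebraMap k R (x r)
    obtain ⟨w, hw, hwd⟩ := hun d (by simp [d, RingHom.mem_ker])
    have htop : q ⊔ Ideal.span {w} = ⊤ := by
      by_contra hne
      obtain ⟨z, hz⟩ := LinRed34.exists_point (k := k) _ hne
      obtain rfl := hq1 z fun a ha => hz a (Ideal.mem_sup_left ha)
      exact hw (RingHom.mem_ker.2 (hz w (Ideal.mem_sup_right (Ideal.mem_span_singleton_self w))))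
    obtain ⟨b, hb, c, hc, hbc⟩ := Submodule.mem_sup.1 ((Ideal.eq_top_iff_one _).1 htop)
    obtain ⟨e, rfl⟩ := Ideal.mem_span_singleton'.1 hc
    rw [← one_mul d, ← hbc, add_mul, mul_assoc]
    exact q.add_mem (q.mul_mem_right _ hb) (q.mul_mem_left _ (hyq hwd))
  let N : Submodule P R := LinearMap.range (Algebra.linearMap P R)
  have hle : (⊤ : Submodule P (R ⧸ N)) ≤ 𝔭 • ⊤ := by
    intro c _
    obtain ⟨r, rfl⟩ := Submodule.Quotient.mk_surjective N c
    have e1 : (Submodule.Quotient.mk r : R ⧸ N) = N.mkQ (r - algebraMap k R (x r)) := by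
      rw [Submodule.mkQ_apply, Submodule.Quotient.eq, sub_sub_cancel]
      exact ⟨algebraMap k S (x r) ⊗ₜ 1, by
        show Φ_ _ = _
        rw [productMap_tmul, map_one, mul_one, ← IsScalarTower.algebraMap_apply k S R]⟩
    rw [e1]
    have h2 : r - algebraMap k R (x r) ∈ (𝔭 • ⊤ : Submodule P R) := by rw [Ideal.smul_top_eq_map]; exact hsub r
    have h3 := Submodule.mem_map_of_mem (f := N.mkQ) h2
    rw [Submodule.map_smul''] at h3
    exact Submodule.smul_mono le_rfl le_top h3
  obtain ⟨c, hc1, hc⟩ := Submodule.exists_sub_one_mem_and_smul_eq_zero_of_fg_of_le_smul 𝔭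
    (⊤ : Submodule P (R ⧸ N)) Module.Finite.fg_top hle
  let a : Ideal R :=
    { carrier := {b | ∀ r, ∃ z : S ⊗[S₀] R₀, Φ_ z = b * r}
      add_mem' := fun {b b'} hb hb' r => by
        obtain ⟨z, hz⟩ := hb r
        obtain ⟨z', hz'⟩ := hb' r
        exact ⟨z + z', by rw [map_add, hz, hz', add_mul]⟩
      zero_mem' := fun r => ⟨0, by simp⟩
      smul_mem' := fun d b hb r => by
        obtain ⟨z, hz⟩ := hb (d * r)
        exact ⟨z, by rw [hz, smul_eq_mul]; ring⟩ }
  have hast : ∀ g : A →ₐ[k] k, ∀ b ∈ a, actHom A R g b ∈ a := by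
    intro g b hb r
    obtain ⟨r', rfl⟩ := (actHom_bijective (A := A) (R := R) g).2 r
    obtain ⟨z, hz⟩ := hb r'
    obtain ⟨z', hz'⟩ := stable_range_productMap he hR₀ g z
    exact ⟨z', by rw [hz', hz, map_mul]⟩
  have hca : Φ c ∈ a := fun r => by
    have h := hc (N.mkQ r) Submodule.mem_top
    rw [← map_smul, Submodule.mkQ_apply, Submodule.Quotient.mk_eq_zero] at h
    obtain ⟨z, hz⟩ := h
    exact ⟨z, hz⟩
  have hxc : x (Φ c) ≠ 0 := fun h0 => by
    have h1 : x (Φ (c - 1)) = 0 := hc1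
    rw [map_sub, map_one, map_sub, map_one, h0] at h1
    simp at h1
  obtain ⟨f, hf, hfa, hxf⟩ := exists_invariant_eq_one hG hast hx ⟨_, hca, hxc⟩
  obtain ⟨f₀, rfl⟩ := exists_algebraMap_eq hR₀ hf
  exact ⟨f₀, by rw [hxf]; exact one_ne_zero, hfa⟩

omit [IsAlgClosed k] [Algebra.FiniteType k A] [IsReduced A] [Algebra.FiniteType k S] [Algebra.FiniteType k R]
  [Module.Finite S R] [HopfRep.Comod k A S] [GLin.IsCoactAlg k A S] [HopfRep.Comod k A R] [GLin.IsCoactAlg k A R] in
theorem exists_baseHom : ∃ Φ : S ⊗[S₀] R₀ →ₐ[k] R, ∀ z, Φ z = Φ_ z := by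
  refine ⟨AlgHom.mk' (Φ_).toRingHom ?_, fun z => rfl⟩
  intro c z
  induction z using TensorProduct.induction_on with
  | zero => simp
  | add p q hp hq =>
    simp only [AlgHom.toRingHom_eq_coe, RingHom.coe_coe] at hp hq ⊢
    rw [smul_add, map_add, map_add, smul_add, hp, hq]
  | tmul s r =>
    simp only [AlgHom.toRingHom_eq_coe, RingHom.coe_coe]
    rw [TensorProduct.smul_tmul', productMap_tmul, productMap_tmul, Algebra.smul_def, map_mul,
      ← IsScalarTower.algebraMap_apply k S R, Algebra.smul_def, mul_assoc]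

/-- The kernel is killed by an invariant multiplier. -/
theorem exists_kernel_mul (hG : HopfRep.IsLinearlyReductive k A) (he : Equivariant k A S R)
    (hS₀i : Function.Injective (algebraMap S₀ S)) (hS₀ : (IsScalarTower.toAlgHom k S₀ S).range = GLin.invariants k A S)
    (hR₀i : Function.Injective (algebraMap R₀ R)) (hR₀ : (IsScalarTower.toAlgHom k R₀ R).range = GLin.invariants k A R)
    {x : R →ₐ[k] k} (hx : GLin.IsClosedOrbit k A x)
    (hinj : ∀ g : A →ₐ[k] k, GLin.actPt k g (x.comp (IsScalarTower.toAlgHom k S R)) =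
      x.comp (IsScalarTower.toAlgHom k S R) → GLin.actPt k g x = x)
    (m : Ideal R) [m.IsPrime] (hm : m = RingHom.ker x) (het : Algebra.IsEtaleAt S m) :
    ∃ f : R₀, x (algebraMap R₀ R f) ≠ 0 ∧
      ∀ z : S ⊗[S₀] R₀, Φ_ z = 0 → ((1 : S) ⊗ₜ[S₀] f) * z = 0 := by
  classical
  set θ := IsScalarTower.toAlgHom k S R
  haveI := isScalarTower_base (k := k) (S₀ := S₀) S hR₀i
  haveI := finiteType_invariantRing hG hR₀i hR₀
  haveI := finiteType_invariantRing hG hS₀i hS₀
  haveI : IsNoetherianRing S := Algebra.FiniteType.isNoetherianRing k S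
  haveI : Algebra.FiniteType S R := Algebra.FiniteType.of_restrictScalars_finiteType k S R
  haveI : Algebra.IsUnramifiedAt S m := inferInstanceAs (Algebra.FormallyUnramified S (Localization.AtPrime m))
  haveI : Algebra.FiniteType S₀ R₀ := Algebra.FiniteType.of_restrictScalars_finiteType k S₀ R₀
  let P := S ⊗[S₀] R₀
  haveI : Algebra.FiniteType S P := Algebra.FiniteType.baseChange S
  haveI : Algebra.FiniteType k P := Algebra.FiniteType.trans (S := S) inferInstance inferInstance
  haveI : IsNoetherianRing P := Algebra.FiniteType.isNoetherianRing k P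
  obtain ⟨Φ, hΦ'⟩ := exists_baseHom (k := k) (S := S) (R := R) (S₀ := S₀) (R₀ := R₀)
  have hΦ : ∀ (s : S) (r : R₀), Φ (s ⊗ₜ[S₀] r) = algebraMap S R s * algebraMap R₀ R r := fun s r => by
    rw [hΦ', productMap_tmul]
  obtain ⟨cP, hcP, hcoact⟩ := exists_comod_tensor (k := k) (A := A) (S := S) (S₀ := S₀) (M := R₀)
    fun c => algebraMap_mem_invariants hS₀ c
  letI := cP
  haveI := hcP
  have hΦe : ∀ z : P, HopfRep.Comod.coact (k := k) (A := A) (Φ z) =
      Algebra.TensorProduct.map Φ (AlgHom.id k A) (HopfRep.Comod.coact (k := k) (A := A) z) := by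
    intro z
    induction z using TensorProduct.induction_on with
    | zero => simp
    | add p q hp hq => simp only [map_add, hp, hq]
    | tmul s r =>
      rw [hΦ, GLin.IsCoactAlg.coact_mul, he,
        (GLin.mem_invariants_iff k A R _).1 (algebraMap_mem_invariants hR₀ r), hcoact]
      generalize HopfRep.Comod.coact (k := k) (A := A) s = t
      induction t with
      | zero => simp
      | tmul p a => simp [hΦ]
      | add p q hp hq => simp only [map_add, add_mul, hp, hq]
  let xP : P →ₐ[k] k := x.comp Φ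
  have hint : Φ.toRingHom.IsIntegral := by
    letI : Algebra P R := Φ.toRingHom.toAlgebra
    haveI : IsScalarTower S P R := IsScalarTower.of_algebraMap_eq fun s => by
      show algebraMap S R s = Φ (s ⊗ₜ[S₀] (1 : R₀))
      rw [hΦ, map_one, mul_one]
    haveI : Module.Finite P R := Module.Finite.of_restrictScalars_finite S P R
    exact RingHom.IsIntegral.of_finite (RingHom.finite_algebraMap.2 (inferInstance : Module.Finite P R))
  have hxP : GLin.IsClosedOrbit k A xP := FinGrp34.OrbitMap.isClosedOrbit_map_of_integral Φ hΦe hint hx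
  let 𝔭 : Ideal P := RingHom.ker xP
  haveI : 𝔭.IsPrime := (Hopf35.Stable.isMaximal_ker xP).isPrime
  have hun : ∀ r ∈ RingHom.ker x, ∃ w ∉ RingHom.ker x,
      w * r ∈ (RingHom.ker (x.comp θ)).map (algebraMap S R) := by
    intro r hr
    subst hm
    exact exists_mul_mem_of_isUnramifiedAt (S := S) _ hr
  have hcomap : 𝔭.comap (algebraMap S P) = RingHom.ker (x.comp θ) := by
    ext s
    show x (Φ (s ⊗ₜ[S₀] (1 : R₀))) = 0 ↔ _
    rw [hΦ, map_one, mul_one]
    rfl
  have hker : m.comap (algebraMap S R) = RingHom.ker (x.comp θ) := by subst hm; rfl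
  have hun' : ∀ r ∈ m, ∃ w ∉ m, w * r ∈ (RingHom.ker (x.comp θ)).map (algebraMap S R) := by
    subst hm; exact hun
  -- the maximal ideal of the point of the tensor product comes from the base
  have hu : ∀ a ∈ 𝔭, ∃ w ∉ 𝔭, w * a ∈ (𝔭.comap (algebraMap S P)).map (algebraMap S P) := by
    intro a ha
    rw [hcomap]
    set I := (RingHom.ker (x.comp θ)).map (algebraMap S P)
    have hdec : ∀ b : P, ∃ r : R₀, b - (1 : S) ⊗ₜ[S₀] r ∈ I := by
      intro b
      induction b using TensorProduct.induction_on with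
      | zero => exact ⟨0, by simp⟩
      | add p q hp hq =>
        obtain ⟨r, hr⟩ := hp
        obtain ⟨r', hr'⟩ := hq
        exact ⟨r + r', by rw [TensorProduct.tmul_add, add_sub_add_comm]; exact I.add_mem hr hr'⟩
      | tmul s r =>
        refine ⟨algebraMap k R₀ (x (algebraMap S R s)) * r, ?_⟩
        have e : (1 : S) ⊗ₜ[S₀] (algebraMap k R₀ (x (algebraMap S R s)) * r) =
            algebraMap S P (algebraMap k S (x (algebraMap S R s))) * (1 : S) ⊗ₜ[S₀] r := by
          rw [IsScalarTower.algebraMap_apply k S₀ R₀, ← Algebra.smul_def, TensorProduct.tmul_smul,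
            TensorProduct.smul_tmul', Algebra.smul_def, mul_one, ← IsScalarTower.algebraMap_apply k S₀ S]
          show _ = (_ ⊗ₜ[S₀] (1 : R₀)) * _
          rw [Algebra.TensorProduct.tmul_mul_tmul, one_mul, mul_one]
          rfl
        have e' : s ⊗ₜ[S₀] r = algebraMap S P s * (1 : S) ⊗ₜ[S₀] r := by
          show _ = (_ ⊗ₜ[S₀] (1 : R₀)) * _
          rw [Algebra.TensorProduct.tmul_mul_tmul, one_mul, mul_one]
          rfl
        rw [e, e', ← sub_mul, ← map_sub]
        refine I.mul_mem_right _ (Ideal.mem_map_of_mem _ ?_)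
        simp [RingHom.mem_ker, θ, ← IsScalarTower.algebraMap_apply k S R]
    obtain ⟨r, hr⟩ := hdec a
    have hIle : I ≤ 𝔭 := Ideal.map_le_iff_le_comap.2 hcomap.ge
    have hr0 : x (algebraMap R₀ R r) = 0 := by
      have h := 𝔭.sub_mem ha (hIle hr)
      rw [sub_sub_cancel] at h
      have h' : x (Φ ((1 : S) ⊗ₜ[S₀] r)) = 0 := h
      rwa [hΦ, map_one, one_mul] at h'
    obtain ⟨w, hw, hwr⟩ := exists_mul_mem_base hG he hS₀ hR₀i hR₀ hx hinj hun r hr0
    refine ⟨(1 : S) ⊗ₜ[S₀] w, fun h => hw ?_, ?_⟩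
    · have h' : x (Φ ((1 : S) ⊗ₜ[S₀] w)) = 0 := h
      rwa [hΦ, map_one, one_mul] at h'
    · rw [show (1 : S) ⊗ₜ[S₀] w * a = (1 : S) ⊗ₜ[S₀] w * (a - (1 : S) ⊗ₜ[S₀] r) + (1 : S) ⊗ₜ[S₀] (w * r) by
        rw [mul_sub, Algebra.TensorProduct.tmul_mul_tmul, one_mul, sub_add_cancel]]
      refine I.add_mem (I.mul_mem_left _ hr) ?_
      have h2 := Ideal.mem_map_of_mem (Algebra.TensorProduct.includeRight : R₀ →ₐ[S₀] P) hwr
      rw [show ((1 : S) ⊗ₜ[S₀] (w * r) : P) = (Algebra.TensorProduct.includeRight : R₀ →ₐ[S₀] P) (w * r) from rfl]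
      refine (?_ : _ ≤ I) h2
      rw [Ideal.map_le_iff_le_comap, Ideal.map_le_iff_le_comap]
      intro c hc
      show (Algebra.TensorProduct.includeRight : R₀ →ₐ[S₀] P) (algebraMap S₀ R₀ c) ∈ I
      rw [AlgHom.commutes, IsScalarTower.algebraMap_apply S₀ S P]
      refine Ideal.mem_map_of_mem _ ?_
      have hc' : x (algebraMap R₀ R (algebraMap S₀ R₀ c)) = 0 := hc
      rwa [algebraMap_base (S := S)] at hc'
  -- the kernel is locally zero at the point
  let K : Ideal P := RingHom.ker Φ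
  have hK : ∀ κ ∈ K, ∃ w ∉ 𝔭, w * κ = 0 := by
    intro κ hκ
    have hJ : ∀ n : ℕ, ∃ w ∉ 𝔭, w * κ ∈ (⊥ : Ideal P) ⊔ 𝔭 ^ n := by
      intro n
      rw [bot_sup_eq]
      haveI : 𝔭.LiesOver (𝔭.comap (algebraMap S P)) := ⟨rfl⟩
      letI := Localization.AtPrime.algebraOfLiesOver (𝔭.comap (algebraMap S P)) 𝔭
      haveI : IsLocalHom (algebraMap (Localization.AtPrime (𝔭.comap (algebraMap S P))) (Localization.AtPrime 𝔭)) :=
        inferInstanceAs (IsLocalHom (Localization.localRingHom _ _ _ _))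
      obtain ⟨a₁, ha₁⟩ := forall_surjective_of_map_eq (S := S) xP 𝔭 rfl hu n
        (Ideal.Quotient.mk _ (algebraMap P _ κ))
      obtain ⟨a, t, ht, hat⟩ := exists_eq_mul_inv (𝔭.comap (algebraMap S P)) a₁
      rw [RingHom.comp_apply, Ideal.Quotient.eq] at ha₁
      have hκa : algebraMap P (Localization.AtPrime 𝔭) (κ * algebraMap S P t - algebraMap S P a) ∈
          maximalIdeal (Localization.AtPrime 𝔭) ^ n := by
        rw [map_sub, map_mul, ← IsScalarTower.algebraMap_apply S P (Localization.AtPrime 𝔭),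
          ← IsScalarTower.algebraMap_apply S P (Localization.AtPrime 𝔭),
          IsScalarTower.algebraMap_apply S (Localization.AtPrime (𝔭.comap (algebraMap S P))) (Localization.AtPrime 𝔭) a,
          ← hat, map_mul, ← IsScalarTower.algebraMap_apply S (Localization.AtPrime (𝔭.comap (algebraMap S P))),
          ← sub_mul]
        refine Ideal.mul_mem_right _ _ ?_
        rw [← neg_sub]
        exact neg_mem ha₁
      obtain ⟨w, hw, hwκ⟩ := (mem_maximalIdeal_pow_iff 𝔭 n _).1 hκa
      have hΦn : ∀ b ∈ 𝔭 ^ n, Φ b ∈ m ^ n := by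
        intro b hb
        have h := Ideal.mem_map_of_mem Φ hb
        rw [Ideal.map_pow] at h
        refine Ideal.pow_right_mono ?_ n h
        subst hm
        exact Ideal.map_le_iff_le_comap.2 fun c hc => hc
      have hΦκ : Φ κ = 0 := hκ
      have hΦa : Φ (algebraMap S P a) = algebraMap S R a := by
        show Φ (a ⊗ₜ[S₀] (1 : R₀)) = _
        rw [hΦ, map_one, mul_one]
      have h3 := hΦn _ hwκ
      rw [map_mul, map_sub, map_mul, hΦκ, zero_mul, zero_sub, hΦa, mul_neg, Ideal.neg_mem_iff] at h3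
      have hwm : Φ w ∉ m := by subst hm; exact fun h => hw h
      obtain ⟨u, hu', hua⟩ := exists_mul_mem_pow_map m _ hun' n (algebraMap S R a) ⟨_, hwm, h3⟩
      obtain ⟨t', ht', hta'⟩ := exists_mul_mem_of_isEtaleAt (S := S) m _ a ⟨u, hu', hua⟩
      have hta : algebraMap S P (t' * a) ∈ 𝔭 ^ n := by
        have h4 := Ideal.mem_map_of_mem (algebraMap S P) hta'
        rw [Ideal.map_pow] at h4
        exact Ideal.pow_right_mono (Ideal.map_le_iff_le_comap.2 hcomap.ge) n h4
      refine ⟨w * algebraMap S P (t' * t), ?_, ?_⟩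
      · intro h
        rcases ‹𝔭.IsPrime›.mem_or_mem h with h | h
        · exact hw h
        · rw [map_mul] at h
          rcases ‹𝔭.IsPrime›.mem_or_mem h with h | h
          · exact ht' (by rw [hker, ← hcomap]; exact h)
          · exact ht h
      · rw [show w * algebraMap S P (t' * t) * κ =
          algebraMap S P t' * (w * (κ * algebraMap S P t - algebraMap S P a)) + w * algebraMap S P (t' * a) by
          simp only [map_mul]; ring]
        exact Ideal.add_mem _ (Ideal.mul_mem_left _ _ hwκ) (Ideal.mul_mem_left _ _ hta)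
    obtain ⟨w, hw, hwκ⟩ := exists_mul_mem_of_forall_pow 𝔭 ⊥ κ hJ
    exact ⟨w, hw, (Submodule.mem_bot P).1 hwκ⟩
  let a : Ideal P := Submodule.colon (⊥ : Ideal P) (K : Set P)
  have hmem : ∀ b, b ∈ a ↔ ∀ κ ∈ K, b * κ = 0 := fun b => by
    show b ∈ Submodule.colon (⊥ : Ideal P) (K : Set P) ↔ _
    simp only [Submodule.mem_colon, Submodule.mem_bot, smul_eq_mul, SetLike.mem_coe]
  obtain ⟨b, hb, hbp⟩ : ∃ b ∈ a, xP b ≠ 0 := by
    obtain ⟨T, hT⟩ := IsNoetherian.noetherian K
    choose w hw hwκ using fun t : T => hK t.1 (hT ▸ Submodule.subset_span t.2)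
    refine ⟨∏ t, w t, (hmem _).2 fun κ hκ => ?_, ?_⟩
    · rw [← hT] at hκ
      induction hκ using Submodule.span_induction with
      | mem t ht =>
        rw [← Finset.prod_erase_mul Finset.univ w (Finset.mem_univ (⟨t, ht⟩ : T)), mul_assoc, hwκ ⟨t, ht⟩, mul_zero]
      | zero => simp
      | add p q _ _ hp hq => rw [mul_add, hp, hq, add_zero]
      | smul c p _ hp => rw [smul_eq_mul, mul_left_comm, hp, mul_zero]
    · rw [map_prod]
      exact Finset.prod_ne_zero_iff.2 fun t _ h => hw t (RingHom.mem_ker.2 h)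
  have hast : ∀ g : A →ₐ[k] k, ∀ c ∈ a, actHom A P g c ∈ a := by
    intro g c hc
    rw [hmem] at hc ⊢
    intro κ hκ
    obtain ⟨κ', rfl⟩ := (actHom_bijective (A := A) (R := P) g).2 κ
    have hκ' : κ' ∈ K := by
      have h : Φ (actHom A P g κ') = 0 := hκ
      rw [← FinGrp34.PolyComod.map_actHom hΦe] at h
      exact (actHom_bijective (A := A) (R := R) g).1 (h.trans (map_zero _).symm)
    rw [← map_mul, hc κ' hκ', map_zero]
  obtain ⟨F, hF, hFa, hxF⟩ := exists_invariant_eq_one hG hast hxP ⟨b, hb, hbp⟩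
  obtain ⟨f, rfl⟩ := exists_eq_one_tmul hG hcoact hS₀ hF
  refine ⟨f, ?_, fun z hz => (hmem _).1 hFa z (show Φ z = 0 by rw [hΦ']; exact hz)⟩
  have h : x (Φ ((1 : S) ⊗ₜ[S₀] f)) = 1 := hxF
  rw [hΦ, map_one, one_mul] at h
  rw [h]
  exact one_ne_zero

/-- Near the orbit the map is the base change of the map of invariants. -/
theorem exists_cartesian (hG : HopfRep.IsLinearlyReductive k A) (he : Equivariant k A S R)
    (hS₀i : Function.Injective (algebraMap S₀ S)) (hS₀ : (IsScalarTower.toAlgHom k S₀ S).range = GLin.invariants k A S)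
    (hR₀i : Function.Injective (algebraMap R₀ R)) (hR₀ : (IsScalarTower.toAlgHom k R₀ R).range = GLin.invariants k A R)
    {x : R →ₐ[k] k} (hx : GLin.IsClosedOrbit k A x)
    (hinj : ∀ g : A →ₐ[k] k, GLin.actPt k g (x.comp (IsScalarTower.toAlgHom k S R)) =
      x.comp (IsScalarTower.toAlgHom k S R) → GLin.actPt k g x = x)
    (m : Ideal R) [m.IsPrime] (hm : m = RingHom.ker x) (het : Algebra.IsEtaleAt S m) :
    ∃ f : R₀, x (algebraMap R₀ R f) ≠ 0 ∧
      (∀ z : S ⊗[S₀] R₀, Φ_ z = 0 → ((1 : S) ⊗ₜ[S₀] f) * z = 0) ∧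
      ∀ r : R, ∃ z : S ⊗[S₀] R₀, Φ_ z = algebraMap R₀ R f * r := by
  haveI : Algebra.FiniteType S R := Algebra.FiniteType.of_restrictScalars_finiteType k S R
  haveI : Algebra.IsUnramifiedAt S m := inferInstanceAs (Algebra.FormallyUnramified S (Localization.AtPrime m))
  have hun : ∀ r ∈ RingHom.ker x, ∃ w ∉ RingHom.ker x,
      w * r ∈ (RingHom.ker (x.comp (IsScalarTower.toAlgHom k S R))).map (algebraMap S R) := by
    intro r hr
    subst hm
    exact exists_mul_mem_of_isUnramifiedAt (S := S) _ hr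
  obtain ⟨f₁, hf₁, h₁⟩ := exists_kernel_mul hG he hS₀i hS₀ hR₀i hR₀ hx hinj m hm het
  obtain ⟨f₂, hf₂, h₂⟩ := exists_mul_mem_range (S₀ := S₀) hG he hR₀ hx hinj hun
  refine ⟨f₁ * f₂, by rw [map_mul, map_mul]; exact mul_ne_zero hf₁ hf₂, fun z hz => ?_, fun r => ?_⟩
  · rw [show ((1 : S) ⊗ₜ[S₀] (f₁ * f₂)) * z = ((1 : S) ⊗ₜ[S₀] f₂) * (((1 : S) ⊗ₜ[S₀] f₁) * z) by
      rw [← mul_assoc, Algebra.TensorProduct.tmul_mul_tmul, one_mul, mul_comm f₁], h₁ z hz, mul_zero]
  · obtain ⟨z, hz⟩ := h₂ r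
    exact ⟨((1 : S) ⊗ₜ[S₀] f₁) * z, by rw [map_mul, productMap_tmul, map_one, one_mul, hz, map_mul]; ring⟩

end Groth.Agent.Luna34
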