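import Groth.Agent.Unr55.CompletionCrit
import Groth.Agent.FlatMor68.FlatUnramified
import Mathlib.RingTheory.Etale.Locus
import Mathlib.RingTheory.Smooth.Flat
import Mathlib.RingTheory.Unramified.LocalRing

/-!
Étale at a rational point: criterion by powers of the maximal ideals, in elements.
-/

set_option autoImplicit false

universe u

open IsLocalRing

namespace Groth.Agent.Luna34

section Loc

variable {R : Type u} [CommRing R] (m : Ideal R) [m.IsPrime]

theorem mem_map_atPrime_iff (I : Ideal R) (r : R) :
    algebraMap R (Localization.AtPrime m) r ∈ I.map (algebraMap R (Localization.AtPrime m)) ↔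
      ∃ u ∉ m, u * r ∈ I := by
  rw [IsLocalization.algebraMap_mem_map_algebraMap_iff m.primeCompl]
  exact ⟨fun ⟨u, hu, h⟩ => ⟨u, hu, h⟩, fun ⟨u, hu, h⟩ => ⟨u, hu, h⟩⟩

theorem mem_maximalIdeal_pow_iff (n : ℕ) (r : R) :
    algebraMap R (Localization.AtPrime m) r ∈ maximalIdeal (Localization.AtPrime m) ^ n ↔
      ∃ u ∉ m, u * r ∈ m ^ n := by
  rw [← Localization.AtPrime.map_eq_maximalIdeal, ← Ideal.map_pow, mem_map_atPrime_iff]

theorem exists_eq_mul_inv (z : Localization.AtPrime m) : ∃ r u, u ∉ m ∧
    z * algebraMap R (Localization.AtPrime m) u = algebraMap R (Localization.AtPrime m) r := by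
  obtain ⟨⟨r, u⟩, h⟩ := IsLocalization.surj m.primeCompl z
  exact ⟨r, u, u.2, h⟩

end Loc

variable {k : Type u} [Field k] {S R : Type u} [CommRing S] [CommRing R] [Algebra k S] [Algebra k R]
  [Algebra S R] [IsScalarTower k S R] [Algebra.FiniteType S R]

/-- The residue field of a rational point is the ground field. -/
theorem exists_sub_mem (x : R →ₐ[k] k) (m : Ideal R) [m.IsPrime] (hm : m = RingHom.ker x)
    (z : Localization.AtPrime m) : ∃ c : k, z - algebraMap S (Localization.AtPrime m)
      (algebraMap k S c) ∈ maximalIdeal (Localization.AtPrime m) := by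
  obtain ⟨r, u, hu, hz⟩ := exists_eq_mul_inv m z
  have hxu : x u ≠ 0 := fun h => hu (hm ▸ RingHom.mem_ker.2 h)
  refine ⟨x r / x u, ?_⟩
  have hU : IsUnit (algebraMap R (Localization.AtPrime m) u) :=
    IsLocalization.map_units (Localization.AtPrime m) (⟨u, hu⟩ : m.primeCompl)
  rw [← Ideal.mul_unit_mem_iff_mem _ hU, sub_mul, hz, IsScalarTower.algebraMap_apply S R (Localization.AtPrime m),
    ← IsScalarTower.algebraMap_apply k S R, ← map_mul, ← map_sub, IsLocalization.AtPrime.to_map_mem_maximal_iff _ m,
    hm, RingHom.mem_ker, map_sub, map_mul, AlgHom.commutes, Algebra.algebraMap_self, RingHom.id_apply,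
    div_mul_cancel₀ _ hxu, sub_self]

/-- Surjectivity on the truncated local rings, in elements. -/
theorem forall_surjective_of_map_eq [IsNoetherianRing R] (x : R →ₐ[k] k) (m : Ideal R) [m.IsPrime]
    (hm : m = RingHom.ker x)
    [Algebra (Localization.AtPrime (m.comap (algebraMap S R))) (Localization.AtPrime m)]
    [IsScalarTower S (Localization.AtPrime (m.comap (algebraMap S R))) (Localization.AtPrime m)]
    [IsLocalHom (algebraMap (Localization.AtPrime (m.comap (algebraMap S R))) (Localization.AtPrime m))]
    (hu : ∀ r ∈ m, ∃ u ∉ m, u * r ∈ (m.comap (algebraMap S R)).map (algebraMap S R)) :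
    ∀ n : ℕ, Function.Surjective ((Ideal.Quotient.mk (maximalIdeal (Localization.AtPrime m) ^ n)).comp
      (algebraMap (Localization.AtPrime (m.comap (algebraMap S R))) (Localization.AtPrime m))) := by
  refine Groth.Agent.Unr55.forall_surjective_iff.2 ⟨?_, fun b => ?_⟩
  · rw [← Localization.AtPrime.map_eq_maximalIdeal (I := m.comap (algebraMap S R)), Ideal.map_map,
      ← IsScalarTower.algebraMap_eq S (Localization.AtPrime (m.comap (algebraMap S R))) (Localization.AtPrime m),
      IsScalarTower.algebraMap_eq S R (Localization.AtPrime m), ← Ideal.map_map]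
    refine le_antisymm ?_ ?_
    · rw [← Localization.AtPrime.map_eq_maximalIdeal]
      exact Ideal.map_mono Ideal.map_comap_le
    · rw [← Localization.AtPrime.map_eq_maximalIdeal, Ideal.map_le_iff_le_comap]
      exact fun r hr => (mem_map_atPrime_iff m _ r).2 (hu r hr)
  · obtain ⟨c, hc⟩ := exists_sub_mem (S := S) x m hm b
    exact ⟨algebraMap S _ (algebraMap k S c), by rwa [← IsScalarTower.algebraMap_apply]⟩

/-- A rational point where the map induces isomorphisms of the truncated local rings is étale. -/
theorem isEtaleAt_of_point [IsNoetherianRing S] (x : R →ₐ[k] k) (m : Ideal R) [m.IsPrime]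
    (hm : m = RingHom.ker x)
    (hu : ∀ r ∈ m, ∃ u ∉ m, u * r ∈ (m.comap (algebraMap S R)).map (algebraMap S R))
    (hi : ∀ (n : ℕ) (a : S), (∃ u ∉ m, u * algebraMap S R a ∈ m ^ n) →
      ∃ t ∉ m.comap (algebraMap S R), t * a ∈ m.comap (algebraMap S R) ^ n) :
    Algebra.IsEtaleAt S m := by
  haveI : IsNoetherianRing R := Algebra.FiniteType.isNoetherianRing S R
  set p := m.comap (algebraMap S R) with hp
  haveI : m.LiesOver p := ⟨hp⟩
  letI := Localization.AtPrime.algebraOfLiesOver p m
  haveI : IsLocalHom (algebraMap (Localization.AtPrime p) (Localization.AtPrime m)) :=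
    inferInstanceAs (IsLocalHom (Localization.localRingHom _ _ _ _))
  have hsurj := forall_surjective_of_map_eq (S := S) x m hm hu
  haveI hflat : Module.Flat (Localization.AtPrime p) (Localization.AtPrime m) := by
    refine (Groth.Agent.Unr55.flat_iff_forall_ker hsurj).2 fun n => le_antisymm (fun z hz => ?_) ?_
    · rw [RingHom.mem_ker, RingHom.comp_apply, Ideal.Quotient.eq_zero_iff_mem] at hz
      obtain ⟨a, t, ht, hza⟩ := exists_eq_mul_inv p z
      have hT : IsUnit (algebraMap S (Localization.AtPrime p) t) :=
        IsLocalization.map_units (Localization.AtPrime p) (⟨t, ht⟩ : p.primeCompl)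
      rw [← Ideal.mul_unit_mem_iff_mem _ hT, hza, mem_maximalIdeal_pow_iff]
      refine hi n a ?_
      rw [← mem_maximalIdeal_pow_iff, ← IsScalarTower.algebraMap_apply S R (Localization.AtPrime m),
        IsScalarTower.algebraMap_apply S (Localization.AtPrime p) (Localization.AtPrime m), ← hza, map_mul]
      exact Ideal.mul_mem_right _ _ hz
    · have hle : (maximalIdeal (Localization.AtPrime p)).map
          (algebraMap (Localization.AtPrime p) (Localization.AtPrime m)) ≤ maximalIdeal _ :=
        Ideal.map_le_iff_le_comap.2 fun z hz => map_nonunit _ z hz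
      rw [← RingHom.comap_ker, Ideal.mk_ker, ← Ideal.map_le_iff_le_comap, Ideal.map_pow]
      exact Ideal.pow_right_mono hle n
  haveI : Algebra.EssFiniteType S (Localization.AtPrime m) := Algebra.EssFiniteType.comp S R _
  haveI : Module.Flat S (Localization.AtPrime m) := Module.Flat.trans S (Localization.AtPrime p) _
  haveI : Algebra.IsUnramifiedAt S m := by
    refine (Algebra.isUnramifiedAt_iff_map_eq S p m).2 ⟨?_, ?_⟩
    · have hs : Function.Surjective (algebraMap p.ResidueField m.ResidueField) := fun b => by
        obtain ⟨b, rfl⟩ := IsLocalRing.residue_surjective b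
        obtain ⟨c, hc⟩ := exists_sub_mem (S := S) x m hm b
        refine ⟨algebraMap (Localization.AtPrime p) p.ResidueField (algebraMap S _ (algebraMap k S c)), ?_⟩
        rw [← sub_eq_zero] 
        rw [← IsScalarTower.algebraMap_apply S (Localization.AtPrime p) p.ResidueField,
          ← IsScalarTower.algebraMap_apply S p.ResidueField m.ResidueField,
          IsScalarTower.algebraMap_apply S (Localization.AtPrime m) m.ResidueField,
          show IsLocalRing.residue (Localization.AtPrime m) b = algebraMap (Localization.AtPrime m) m.ResidueField b from rfl,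
          ← map_sub]
        refine (IsLocalRing.residue_eq_zero_iff _).2 ?_
        rw [← neg_sub]
        exact neg_mem hc
      exact ⟨fun z => by obtain ⟨y, rfl⟩ := hs z; exact isSeparable_algebraMap y⟩
    · rw [IsScalarTower.algebraMap_eq S R (Localization.AtPrime m), ← Ideal.map_map,
        ← Localization.AtPrime.map_eq_maximalIdeal]
      exact le_antisymm (Ideal.map_mono Ideal.map_comap_le)
        (Ideal.map_le_iff_le_comap.2 fun r hr => (mem_map_atPrime_iff m _ r).2 (hu r hr))
  haveI : Algebra.FormallyUnramified S (Localization.AtPrime m) := ‹Algebra.IsUnramifiedAt S m›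
  exact Groth.Agent.FlatMor68.FlatUnramified.formallyEtale_of_flat

/-- Unramified points: the maximal ideal is locally generated from below. -/
theorem exists_mul_mem_of_isUnramifiedAt (m : Ideal R) [m.IsPrime] [Algebra.IsUnramifiedAt S m]
    {r : R} (hr : r ∈ m) : ∃ u ∉ m, u * r ∈ (m.comap (algebraMap S R)).map (algebraMap S R) := by
  set p := m.comap (algebraMap S R) with hp
  haveI : m.LiesOver p := ⟨hp⟩
  letI := Localization.AtPrime.algebraOfLiesOver p m
  have h := ((Algebra.isUnramifiedAt_iff_map_eq S p m).1 inferInstance).2
  rw [IsScalarTower.algebraMap_eq S R (Localization.AtPrime m), ← Ideal.map_map] at h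
  rw [← mem_map_atPrime_iff, h, IsLocalization.AtPrime.to_map_mem_maximal_iff _ m]
  exact hr

/-- Étale points are flat. -/
theorem flat_atPrime_of_isEtaleAt [IsNoetherianRing S] (m : Ideal R) [m.IsPrime] [Algebra.IsEtaleAt S m] :
    Module.Flat S (Localization.AtPrime m) := by
  haveI : Algebra.FinitePresentation S R := Algebra.FinitePresentation.of_finiteType.1 inferInstance
  obtain ⟨f, hf, hE⟩ := Algebra.exists_etale_of_isEtaleAt (R := S) m
  haveI : Algebra.Smooth S (Localization.Away f) := inferInstance
  haveI : Module.Flat S (Localization.Away f) := Algebra.Smooth.flat S _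
  letI : Algebra (Localization.Away f) (Localization.AtPrime m) :=
    (IsLocalization.Away.lift f (g := algebraMap R (Localization.AtPrime m))
      (IsLocalization.map_units (Localization.AtPrime m) (⟨f, hf⟩ : m.primeCompl))).toAlgebra
  haveI : IsScalarTower R (Localization.Away f) (Localization.AtPrime m) :=
    IsScalarTower.of_algebraMap_eq fun r => (IsLocalization.Away.lift_eq f _ r).symm
  haveI : IsScalarTower S (Localization.Away f) (Localization.AtPrime m) :=
    IsScalarTower.of_algebraMap_eq fun s => by
      rw [IsScalarTower.algebraMap_apply S R (Localization.Away f),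
        ← IsScalarTower.algebraMap_apply R (Localization.Away f) (Localization.AtPrime m),
        ← IsScalarTower.algebraMap_apply S R (Localization.AtPrime m)]
  have hle : Submonoid.powers f ≤ m.primeCompl := Submonoid.powers_le.2 hf
  haveI : IsLocalization (m.primeCompl.map (algebraMap R (Localization.Away f))) (Localization.AtPrime m) :=
    IsLocalization.isLocalization_of_submonoid_le (Localization.Away f) (Localization.AtPrime m) _ _ hle
  haveI : Module.Flat (Localization.Away f) (Localization.AtPrime m) :=
    IsLocalization.flat _ (m.primeCompl.map (algebraMap R (Localization.Away f)))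
  exact Module.Flat.trans S (Localization.Away f) _

/-- Étale rational points: functions on the base vanishing to order `n` above do so below. -/
theorem exists_mul_mem_of_isEtaleAt [IsNoetherianRing S] (m : Ideal R) [m.IsPrime] [Algebra.IsEtaleAt S m]
    (I : Ideal S) (a : S)
    (ha : ∃ u ∉ m, u * algebraMap S R a ∈ I.map (algebraMap S R)) :
    ∃ t ∉ m.comap (algebraMap S R), t * a ∈ I := by
  set p := m.comap (algebraMap S R) with hp
  haveI : m.LiesOver p := ⟨hp⟩
  letI := Localization.AtPrime.algebraOfLiesOver p m
  haveI : IsLocalHom (algebraMap (Localization.AtPrime p) (Localization.AtPrime m)) :=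
    inferInstanceAs (IsLocalHom (Localization.localRingHom _ _ _ _))
  haveI := flat_atPrime_of_isEtaleAt (S := S) m
  haveI : Module.Flat (Localization.AtPrime p) (Localization.AtPrime m) :=
    (Module.flat_iff_of_isLocalization (Localization.AtPrime p) p.primeCompl (Localization.AtPrime m)).2 inferInstance
  haveI : Module.FaithfullyFlat (Localization.AtPrime p) (Localization.AtPrime m) := .of_flat_of_isLocalHom
  rw [← mem_map_atPrime_iff, ← Ideal.comap_map_eq_self_of_faithfullyFlat (B := Localization.AtPrime m)
    (I.map (algebraMap S (Localization.AtPrime p))), Ideal.mem_comap, Ideal.map_map,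
    ← IsScalarTower.algebraMap_eq, ← IsScalarTower.algebraMap_apply, IsScalarTower.algebraMap_eq S R,
    ← Ideal.map_map, RingHom.comp_apply, mem_map_atPrime_iff]
  exact ha

end Groth.Agent.Luna34
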