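import Groth.Agent.Luna34.Points
import Groth.Agent.Luna34.EtaleCrit
import Groth.Agent.FinGrp34.EquivFactor
import Mathlib.RingTheory.QuasiFinite.Basic

/-!
Near a closed orbit mapping injectively, a finite map is a closed immersion modulo powers of the orbit ideal.
-/

set_option autoImplicit false

universe u

open TensorProduct

noncomputable section

namespace Groth.Agent.Luna34

open Groth.Agent.Hopf35.Stable Groth.Agent.LinRed34
open Groth.Agent.FinGrp34.OrbitMap (actHom actHom_apply actHom_bijective)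

variable {k : Type u} [Field k] [IsAlgClosed k]
variable {A : Type u} [CommRing A] [HopfAlgebra k A] [Algebra.FiniteType k A] [IsReduced A]
variable {S : Type u} [CommRing S] [Algebra k S] [Algebra.FiniteType k S] [HopfRep.Comod k A S] [GLin.IsCoactAlg k A S]
variable {R : Type u} [CommRing R] [Algebra k R] [Algebra.FiniteType k R] [HopfRep.Comod k A R] [GLin.IsCoactAlg k A R]
variable [Algebra S R] [IsScalarTower k S R]

local notation "φ_" => GLin.orbitHom k A
local notation "ρ" => HopfRep.Comod.coact (k := k) (A := A)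
local notation "θ" => IsScalarTower.toAlgHom k S R

/-- compatibility of the map with the coactions -/
def Equivariant (k A S R : Type u) [Field k] [CommRing A] [HopfAlgebra k A] [CommRing S] [Algebra k S]
    [HopfRep.Comod k A S] [CommRing R] [Algebra k R] [HopfRep.Comod k A R] [Algebra S R] [IsScalarTower k S R] : Prop :=
  ∀ s : S, HopfRep.Comod.coact (k := k) (A := A) (algebraMap S R s) =
    Algebra.TensorProduct.map (IsScalarTower.toAlgHom k S R) (AlgHom.id k A) (HopfRep.Comod.coact (k := k) (A := A) s)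

omit [IsAlgClosed k] [Algebra.FiniteType k A] [IsReduced A] [Algebra.FiniteType k S] [Algebra.FiniteType k R] in
theorem actHom_algebraMap (he : Equivariant k A S R) (g : A →ₐ[k] k) (s : S) :
    actHom A R g (algebraMap S R s) = algebraMap S R (actHom A S g s) :=
  FinGrp34.EquivFactor.actHom_algebraMap he g s

omit [IsAlgClosed k] [Algebra.FiniteType k A] [IsReduced A] [Algebra.FiniteType k S] [Algebra.FiniteType k R]
  [GLin.IsCoactAlg k A S] [GLin.IsCoactAlg k A R] in
theorem isComodHom_algebraMap (he : Equivariant k A S R) : Hoch.IsComodHom A (θ).toLinearMap := by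
  refine LinearMap.ext fun s => ?_
  simp only [LinearMap.comp_apply, AlgHom.toLinearMap_apply]
  show ρ (algebraMap S R s) = _
  rw [he]
  generalize ρ s = z
  induction z with
  | zero => simp
  | tmul p a => simp
  | add p q hp hq => simp only [map_add, hp, hq]

theorem mem_radical_of_points (I : Ideal R) {f : R}
    (h : ∀ z : R →ₐ[k] k, (∀ a ∈ I, z a = 0) → z f = 0) : f ∈ I.radical := by
  haveI : IsJacobsonRing R := isJacobsonRing_of_finiteType (A := k)
  rw [Ideal.radical_eq_jacobson]
  refine Ideal.mem_sInf.2 fun {M} hM => ?_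
  obtain ⟨z, hz⟩ := LinRed34.exists_point (k := k) M hM.2.ne_top
  rw [hM.2.eq_of_le (RingHom.ker_ne_top _) fun a ha => RingHom.mem_ker.2 (hz a ha)]
  exact h z fun a ha => hz a (hM.1 ha)

theorem finite_points_over [Module.Finite S R] (y : S →ₐ[k] k) :
    Finite {z : R →ₐ[k] k // z.comp (θ) = y} := by
  haveI : (RingHom.ker y).IsPrime := (Hopf35.Stable.isMaximal_ker y).isPrime
  have hfin := (Algebra.QuasiFinite.iff_finite_comap_preimage_singleton (R := S) (S := R)).1 inferInstance
    ⟨RingHom.ker y, inferInstance⟩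
  haveI := hfin.to_subtype
  refine Finite.of_injective (fun z => (⟨⟨RingHom.ker z.1, (Hopf35.Stable.isMaximal_ker z.1).isPrime⟩, ?_⟩ :
    PrimeSpectrum.comap (algebraMap S R) ⁻¹' {⟨RingHom.ker y, inferInstance⟩})) fun z w h => ?_
  · refine PrimeSpectrum.ext ?_
    show (RingHom.ker z.1).comap (algebraMap S R) = RingHom.ker y
    ext a
    rw [Ideal.mem_comap, RingHom.mem_ker, RingHom.mem_ker, ← AlgHom.congr_fun z.2 a]
    rfl
  · have hk : RingHom.ker z.1 = RingHom.ker w.1 := congrArg PrimeSpectrum.asIdeal (congrArg Subtype.val h)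
    refine Subtype.ext (AlgHom.ext fun r => ?_)
    have hr : r - algebraMap k R (z.1 r) ∈ RingHom.ker z.1 := by simp [RingHom.mem_ker]
    rw [hk, RingHom.mem_ker, map_sub, AlgHom.commutes, sub_eq_zero] at hr
    exact hr.symm

variable [Module.Finite S R]

omit [IsAlgClosed k] [Algebra.FiniteType k A] [IsReduced A] [Algebra.FiniteType k S] [Algebra.FiniteType k R]
  [GLin.IsCoactAlg k A S] [GLin.IsCoactAlg k A R] [HopfRep.Comod k A S] [HopfRep.Comod k A R] in
theorem isIntegral_θ : (θ).toRingHom.IsIntegral :=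
  show (algebraMap S R).IsIntegral from RingHom.IsIntegral.of_finite (RingHom.finite_algebraMap.2 inferInstance)

theorem isClosedOrbit_image (he : Equivariant k A S R) {x : R →ₐ[k] k} (hx : GLin.IsClosedOrbit k A x) :
    GLin.IsClosedOrbit k A (x.comp (θ)) :=
  FinGrp34.OrbitMap.isClosedOrbit_map_of_integral (θ) he isIntegral_θ hx

theorem isClosedOrbit_of_image (he : Equivariant k A S R) {x : R →ₐ[k] k}
    (hy : GLin.IsClosedOrbit k A (x.comp (θ))) : GLin.IsClosedOrbit k A x :=
  FinGrp34.OrbitMap.isClosedOrbit_of_integral (θ) he isIntegral_θ hy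

theorem isClosedOrbit_actPt {x : S →ₐ[k] k} (hx : GLin.IsClosedOrbit k A x) {y : S →ₐ[k] k}
    (h : InOrbit k A x y) : GLin.IsClosedOrbit k A y :=
  isClosedOrbit_iff.2 fun z hz => h.symm.trans (isClosedOrbit_iff.1 hx z fun f hf =>
    hz (h.ker_eq.symm ▸ hf))

/-- A point of the fibre with the same invariants is the given one. -/
theorem eq_of_fibre (hG : HopfRep.IsLinearlyReductive k A) (he : Equivariant k A S R)
    {x : R →ₐ[k] k} (hx : GLin.IsClosedOrbit k A x)
    (hinj : ∀ g : A →ₐ[k] k, GLin.actPt k g (x.comp (θ)) = x.comp (θ) → GLin.actPt k g x = x)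
    {z : R →ₐ[k] k} (hz : z.comp (θ) = x.comp (θ)) (hinv : ∀ f ∈ GLin.invariants k A R, x f = z f) : z = x := by
  have hzc : GLin.IsClosedOrbit k A z := isClosedOrbit_of_image he (hz ▸ isClosedOrbit_image he hx)
  obtain ⟨g, rfl⟩ := inOrbit_of_eq_invariants hG hx hzc hinv
  refine hinj g ?_
  rw [← FinGrp34.OrbitMap.actPt_comp (θ) he, hz]

/-- An invariant equal to one on the orbit and vanishing on the other orbits over its image. -/
theorem exists_separator (hG : HopfRep.IsLinearlyReductive k A) (he : Equivariant k A S R)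
    {x : R →ₐ[k] k} (hx : GLin.IsClosedOrbit k A x) :
    ∃ u ∈ GLin.invariants k A R, x u = 1 ∧
      ∀ z : R →ₐ[k] k, InOrbit k A (x.comp (θ)) (z.comp (θ)) → z u = 0 ∨ InOrbit k A x z := by
  classical
  haveI := finite_points_over (R := R) (x.comp (θ))
  letI := Fintype.ofFinite {z : R →ₐ[k] k // z.comp (θ) = x.comp (θ)}
  have hsep : ∀ z : {z : R →ₐ[k] k // z.comp (θ) = x.comp (θ)}, ∃ u ∈ GLin.invariants k A R,
      x u = 1 ∧ (InOrbit k A x z.1 ∨ z.1 u = 0) := by
    intro z
    by_cases hz : InOrbit k A x z.1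
    · exact ⟨1, one_mem _, map_one _, Or.inl hz⟩
    have hzc : GLin.IsClosedOrbit k A z.1 := isClosedOrbit_of_image he (by rw [z.2]; exact isClosedOrbit_image he hx)
    obtain ⟨f, hf, hne⟩ : ∃ f ∈ GLin.invariants k A R, x f ≠ z.1 f := by
      by_contra hc
      push Not at hc
      exact hz (inOrbit_of_eq_invariants hG hx hzc hc)
    refine ⟨(x f - z.1 f)⁻¹ • (f - algebraMap k R (z.1 f)),
      Subalgebra.smul_mem _ (sub_mem hf (Subalgebra.algebraMap_mem _ _)) _, ?_, Or.inr ?_⟩
    · simp [inv_mul_cancel₀ (sub_ne_zero.2 hne)]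
    · simp
  choose u hu hx1 hz1 using hsep
  refine ⟨∏ z, u z, prod_mem fun z _ => hu z, by simp [map_prod, hx1], fun z hz => ?_⟩
  obtain ⟨g, hg⟩ := hz.symm
  have hz' : (GLin.actPt k g z).comp (θ) = x.comp (θ) := by
    rw [FinGrp34.OrbitMap.actPt_comp (θ) he, hg]
  rcases hz1 ⟨_, hz'⟩ with h | h
  · exact Or.inr (h.trans (InOrbit.symm ⟨g, rfl⟩))
  · refine Or.inl ?_
    rw [← actPt_invariant g z (prod_mem fun z _ => hu z), map_prod]
    exact Finset.prod_eq_zero (Finset.mem_univ ⟨_, hz'⟩) h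

/-- The ideal of `R` of functions carried by a power of `u` into the `n`-th power of the orbit ideal. -/
def nearIdeal (x : R →ₐ[k] k) (u : R) (n : ℕ) : Ideal R where
  carrier := {r | ∃ i : ℕ, u ^ i * r ∈ (RingHom.ker (φ_ (x.comp (θ))) ^ n).map (algebraMap S R)}
  add_mem' := by
    rintro a b ⟨i, hi⟩ ⟨j, hj⟩
    refine ⟨i + j, ?_⟩
    rw [mul_add, pow_add]
    exact Ideal.add_mem _ (by rw [mul_comm (u ^ i), mul_assoc]; exact Ideal.mul_mem_left _ _ hi)
      (by rw [mul_assoc]; exact Ideal.mul_mem_left _ _ hj)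
  zero_mem' := ⟨0, by simp⟩
  smul_mem' := by
    rintro c a ⟨i, hi⟩
    exact ⟨i, by rw [smul_eq_mul, mul_left_comm]; exact Ideal.mul_mem_left _ _ hi⟩

theorem stable_orbitIdeal_pow (y : S →ₐ[k] k) (n : ℕ) (g : A →ₐ[k] k) {s : S}
    (hs : s ∈ RingHom.ker (φ_ y) ^ n) : actHom A S g s ∈ RingHom.ker (φ_ y) ^ n := by
  have h := Ideal.mem_map_of_mem (actHom A S g) hs
  rw [Ideal.map_pow] at h
  refine Ideal.pow_right_mono (Ideal.map_le_iff_le_comap.2 ?_) n h
  exact FinGrp34.OrbitMap.ker_comap_actHom g y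

theorem stable_map (he : Equivariant k A S R) {I : Ideal S}
    (hI : ∀ g : A →ₐ[k] k, ∀ s ∈ I, actHom A S g s ∈ I) (g : A →ₐ[k] k) {r : R}
    (hr : r ∈ I.map (algebraMap S R)) : actHom A R g r ∈ I.map (algebraMap S R) := by
  refine (Ideal.map_le_iff_le_comap.2 fun s hs => ?_ : I.map (algebraMap S R) ≤
    (I.map (algebraMap S R)).comap (actHom A R g)) hr
  show actHom A R g (algebraMap S R s) ∈ I.map (algebraMap S R)
  rw [actHom_algebraMap he]
  exact Ideal.mem_map_of_mem _ (hI g s hs)

theorem stable_nearIdeal (he : Equivariant k A S R) (x : R →ₐ[k] k) {u : R}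
    (hu : u ∈ GLin.invariants k A R) (n : ℕ) (g : A →ₐ[k] k) {r : R}
    (hr : r ∈ nearIdeal (A := A) (S := S) x u n) : actHom A R g r ∈ nearIdeal (A := A) (S := S) x u n := by
  obtain ⟨i, hi⟩ := hr
  refine ⟨i, ?_⟩
  have h := stable_map he (fun g s hs => stable_orbitIdeal_pow _ n g hs) g hi
  rwa [map_mul, map_pow, actHom_invariant g hu] at h

omit [IsReduced A] [Algebra.FiniteType k A] [IsAlgClosed k] [Algebra.FiniteType k S] [Algebra.FiniteType k R]
  [Module.Finite S R] in
theorem ker_orbitHom_le (y : S →ₐ[k] k) : RingHom.ker (φ_ y) ≤ RingHom.ker y := fun f hf =>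
  RingHom.mem_ker.2 (by rw [← counit_orbitHom (A := A) y f, RingHom.mem_ker.1 hf, map_zero])

/-- Modulo the near ideal every function comes from the base. -/
theorem exists_sub_mem_nearIdeal (he : Equivariant k A S R)
    {x : R →ₐ[k] k} (hx : GLin.IsClosedOrbit k A x)
    (hinj : ∀ g : A →ₐ[k] k, GLin.actPt k g (x.comp (θ)) = x.comp (θ) → GLin.actPt k g x = x)
    (hun : ∀ r ∈ RingHom.ker x, ∃ w ∉ RingHom.ker x, w * r ∈ (RingHom.ker (x.comp (θ))).map (algebraMap S R))
    {u : R} (hu : u ∈ GLin.invariants k A R) (hxu : x u = 1)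
    (hsep : ∀ z : R →ₐ[k] k, InOrbit k A (x.comp (θ)) (z.comp (θ)) → z u = 0 ∨ InOrbit k A x z)
    (n : ℕ) (r : R) : ∃ s : S, r - algebraMap S R s ∈ nearIdeal (A := A) (S := S) x u (n + 1) := by
  set y := x.comp (θ)
  set L := nearIdeal (A := A) (S := S) x u (n + 1)
  have hyc : GLin.IsClosedOrbit k A y := isClosedOrbit_image he hx
  have hkill : ∀ z : R →ₐ[k] k, (∀ a ∈ (RingHom.ker (φ_ y) ^ (n + 1)).map (algebraMap S R), z a = 0) →
      InOrbit k A y (z.comp (θ)) := by
    intro z hz
    refine isClosedOrbit_iff.1 hyc _ fun s hs => ?_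
    have h1 := hz _ (Ideal.mem_map_of_mem (algebraMap S R) (Ideal.pow_mem_pow hs (n + 1)))
    rw [map_pow, map_pow] at h1
    exact RingHom.mem_ker.2 (eq_zero_of_pow_eq_zero h1)
  -- the points of the near ideal lie on the orbit
  have hpts : ∀ z : R →ₐ[k] k, (∀ a ∈ L, z a = 0) → InOrbit k A x z := by
    intro z hz
    have hzo : InOrbit k A y (z.comp (θ)) := hkill z fun a ha => hz a ⟨0, by simpa using ha⟩
    refine (hsep z hzo).resolve_left fun h0 => ?_
    have hrad : u * (1 - u) ∈ ((RingHom.ker (φ_ y) ^ (n + 1)).map (algebraMap S R)).radical := by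
      refine mem_radical_of_points (k := k) _ fun w hw => ?_
      rcases hsep w (hkill w hw) with h | ⟨g, rfl⟩
      · simp [h]
      · simp [actPt_invariant g x hu, hxu]
    obtain ⟨i, hi⟩ := hrad
    have hL : (1 - u) ^ i ∈ L := ⟨i, by rwa [← mul_pow]⟩
    simpa [h0] using hz _ hL
  let N : Submodule S R := LinearMap.range (Algebra.linearMap S R) ⊔ L.restrictScalars S
  suffices hN : N = ⊤ by
    obtain ⟨_, ⟨s, rfl⟩, l, hl, h⟩ := Submodule.mem_sup.1 (hN.ge (Submodule.mem_top (x := r)))
    exact ⟨s, by rw [← h]; simpa using hl⟩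
  have hNst : ∀ g : A →ₐ[k] k, ∀ a ∈ N, actHom A R g a ∈ N := by
    intro g a ha
    obtain ⟨_, ⟨s, rfl⟩, l, hl, rfl⟩ := Submodule.mem_sup.1 ha
    rw [map_add]
    exact Submodule.add_mem_sup ⟨actHom A S g s, (actHom_algebraMap he g s).symm⟩ (stable_nearIdeal he x hu _ g hl)
  -- multipliers into `N`
  let a : Ideal S := Submodule.colon N (Set.univ : Set R)
  have hast : ∀ g : A →ₐ[k] k, ∀ s ∈ a, actHom A S g s ∈ a := by
    intro g s hs
    refine Submodule.mem_colon.2 fun r' _ => ?_
    obtain ⟨r'', rfl⟩ := (actHom_bijective (A := A) (R := R) g).2 r'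
    rw [Algebra.smul_def, ← actHom_algebraMap he, ← map_mul]
    refine hNst g _ ?_
    rw [← Algebra.smul_def]
    exact Submodule.mem_colon.1 hs r'' (Set.mem_univ _)
  -- Nakayama at the image point
  have hy : ∃ s ∈ a, y s ≠ 0 := by
    let q : Ideal R := L ⊔ (RingHom.ker y).map (algebraMap S R)
    have hq : ∀ r', r' - algebraMap S R (algebraMap k S (x r')) ∈ q := by
      intro r'
      set d := r' - algebraMap S R (algebraMap k S (x r'))
      have hd : d ∈ RingHom.ker x := by
        simp [d, RingHom.mem_ker, ← IsScalarTower.algebraMap_apply k S R]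
      obtain ⟨w, hw, hwd⟩ := hun d hd
      have htop : q ⊔ Ideal.span {w} = ⊤ := by
        by_contra hne
        obtain ⟨z, hz⟩ := LinRed34.exists_point (k := k) _ hne
        obtain ⟨g, rfl⟩ := hpts z fun b hb => hz b (Ideal.mem_sup_left (Ideal.mem_sup_left hb))
        have hzy : (GLin.actPt k g x).comp (θ) = y := AlgHom.ext fun s => by
          have h1 := hz _ (Ideal.mem_sup_left (Ideal.mem_sup_right (Ideal.mem_map_of_mem (algebraMap S R)
            (show s - algebraMap k S (y s) ∈ RingHom.ker y by simp [RingHom.mem_ker]))))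
          rw [map_sub, map_sub, ← IsScalarTower.algebraMap_apply k S R, AlgHom.commutes, sub_eq_zero] at h1
          exact h1
        have hzx : GLin.actPt k g x = x := hinj g (by rw [← FinGrp34.OrbitMap.actPt_comp (θ) he, hzy])
        refine hw (RingHom.mem_ker.2 ?_)
        have := hz w (Ideal.mem_sup_right (Ideal.mem_span_singleton_self w))
        rwa [hzx] at this
      obtain ⟨b, hb, c, hc, hbc⟩ := Submodule.mem_sup.1 ((Ideal.eq_top_iff_one _).1 htop)
      obtain ⟨e, rfl⟩ := Ideal.mem_span_singleton'.1 hc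
      rw [← one_mul d, ← hbc, add_mul, mul_assoc]
      exact q.add_mem (q.mul_mem_right _ hb) (q.mul_mem_left _ (Ideal.mem_sup_right hwd))
    have hle : (⊤ : Submodule S (R ⧸ N)) ≤ RingHom.ker y • ⊤ := by
      intro c _
      obtain ⟨r', rfl⟩ := Submodule.Quotient.mk_surjective N c
      obtain ⟨l, hl, e, he', hle'⟩ := Submodule.mem_sup.1 (hq r')
      have e1 : (Submodule.Quotient.mk r' : R ⧸ N) = N.mkQ e := by
        rw [Submodule.mkQ_apply, Submodule.Quotient.eq,
          show r' - e = algebraMap S R (algebraMap k S (x r')) + l by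
            linear_combination -hle']
        exact Submodule.add_mem_sup ⟨_, rfl⟩ hl
      rw [e1]
      have h2 : e ∈ (RingHom.ker y • ⊤ : Submodule S R) := by rw [Ideal.smul_top_eq_map]; exact he'
      have h3 := Submodule.mem_map_of_mem (f := N.mkQ) h2
      rw [Submodule.map_smul''] at h3
      exact Submodule.smul_mono le_rfl le_top h3
    haveI : Module.Finite S (R ⧸ N) := inferInstance
    obtain ⟨s, hs1, hs⟩ := Submodule.exists_sub_one_mem_and_smul_eq_zero_of_fg_of_le_smul (RingHom.ker y)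
      (⊤ : Submodule S (R ⧸ N)) Module.Finite.fg_top hle
    refine ⟨s, Submodule.mem_colon.2 fun r' _ => ?_, fun h0 => ?_⟩
    · have := hs (N.mkQ r') Submodule.mem_top
      rwa [← map_smul, Submodule.mkQ_apply, Submodule.Quotient.mk_eq_zero] at this
    · rw [RingHom.mem_ker, map_sub, map_one, h0] at hs1
      simp at hs1
  have hb : RingHom.ker (φ_ y) ^ (n + 1) ≤ a := fun s hs => Submodule.mem_colon.2 fun r' _ => by
    rw [Algebra.smul_def]
    exact Submodule.mem_sup_right ⟨0, by rw [pow_zero, one_mul]; exact Ideal.mul_mem_right _ _ (Ideal.mem_map_of_mem _ hs)⟩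
  have htop : a = ⊤ := by
    by_contra hne
    obtain ⟨w, hw⟩ := LinRed34.exists_point (k := k) _ hne
    obtain ⟨g, rfl⟩ : InOrbit k A y w := isClosedOrbit_iff.1 hyc w fun s hs => by
      have h1 := hw _ (hb (Ideal.pow_mem_pow hs (n + 1)))
      rw [map_pow] at h1
      exact RingHom.mem_ker.2 (eq_zero_of_pow_eq_zero h1)
    obtain ⟨s, hs, hys⟩ := hy
    have h1 := hw _ (hast ((WithConv.toConv g)⁻¹).ofConv s hs)
    rw [← point_actHom, actHom_inv] at h1
    exact hys h1
  refine eq_top_iff.2 fun r' _ => ?_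
  have h1 := Submodule.mem_colon.1 (htop.ge (Submodule.mem_top (x := (1 : S)))) r' (Set.mem_univ _)
  rwa [one_smul] at h1

end Groth.Agent.Luna34
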