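import Groth.Agent.Luna34.Fibre
import Groth.Agent.LinRed34.FiniteType
import Mathlib.RingTheory.Filtration

/-!
The quotient map of a finite equivariant map is étale below an étale closed orbit mapping injectively.
-/

set_option autoImplicit false

universe u

open TensorProduct IsLocalRing

noncomputable section

namespace Groth.Agent.Luna34

open Groth.Agent.Hopf35.Stable Groth.Agent.LinRed34
open Groth.Agent.FinGrp34.OrbitMap (actHom actHom_apply actHom_bijective)

section Krull

/-- Krull intersection relative to an ideal, in elements. -/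
theorem exists_mul_mem_of_forall_pow {R : Type u} [CommRing R] [IsNoetherianRing R] (m : Ideal R) [m.IsPrime]
    (J : Ideal R) (z : R) (h : ∀ n : ℕ, ∃ w ∉ m, w * z ∈ J ⊔ m ^ n) : ∃ w ∉ m, w * z ∈ J := by
  rw [← mem_map_atPrime_iff]
  let J' := J.map (algebraMap R (Localization.AtPrime m))
  let M := Localization.AtPrime m ⧸ J'
  have hz : J'.mkQ (algebraMap R _ z) ∈ (⨅ i : ℕ, maximalIdeal (Localization.AtPrime m) ^ i • (⊤ : Submodule (Localization.AtPrime m) M)) := by
    rw [Submodule.mem_iInf]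
    intro n
    obtain ⟨w, hw, hwz⟩ := h n
    have h1 : algebraMap R (Localization.AtPrime m) z ∈ J' ⊔ maximalIdeal _ ^ n := by
      rw [← Localization.AtPrime.map_eq_maximalIdeal, ← Ideal.map_pow, ← Ideal.map_sup, mem_map_atPrime_iff]
      exact ⟨w, hw, hwz⟩
    obtain ⟨a, ha, b, hb, hab⟩ := Submodule.mem_sup.1 h1
    rw [← hab, map_add, show J'.mkQ a = 0 from (Submodule.Quotient.mk_eq_zero J').2 ha, zero_add,
      show J'.mkQ b = b • J'.mkQ 1 by rw [← map_smul, smul_eq_mul, mul_one]]
    exact Submodule.smul_mem_smul hb Submodule.mem_top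
  rw [Ideal.iInf_pow_smul_eq_bot_of_isLocalRing (I := maximalIdeal (Localization.AtPrime m)) (maximalIdeal.isMaximal _).ne_top,
    Submodule.mem_bot] at hz
  exact (Submodule.Quotient.mk_eq_zero J').1 hz

end Krull

variable {k : Type u} [Field k] [IsAlgClosed k]
variable {A : Type u} [CommRing A] [HopfAlgebra k A] [Algebra.FiniteType k A] [IsReduced A]
variable {S : Type u} [CommRing S] [Algebra k S] [Algebra.FiniteType k S] [HopfRep.Comod k A S] [GLin.IsCoactAlg k A S]
variable {R : Type u} [CommRing R] [Algebra k R] [Algebra.FiniteType k R] [HopfRep.Comod k A R] [GLin.IsCoactAlg k A R]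
variable {R₀ : Type u} [CommRing R₀] [Algebra k R₀] [Algebra R₀ R] [IsScalarTower k R₀ R]

local notation "φ_" => GLin.orbitHom k A

omit [IsAlgClosed k] [Algebra.FiniteType k A] [IsReduced A] [Algebra.FiniteType k R] in
theorem algebraMap_mem_invariants (hR₀ : (IsScalarTower.toAlgHom k R₀ R).range = GLin.invariants k A R) (a : R₀) :
    algebraMap R₀ R a ∈ GLin.invariants k A R := hR₀ ▸ ⟨a, rfl⟩

omit [IsAlgClosed k] [Algebra.FiniteType k A] [IsReduced A] [Algebra.FiniteType k R] in
theorem exists_algebraMap_eq (hR₀ : (IsScalarTower.toAlgHom k R₀ R).range = GLin.invariants k A R) {f : R}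
    (hf : f ∈ GLin.invariants k A R) : ∃ a : R₀, algebraMap R₀ R a = f := by
  rw [← hR₀] at hf
  exact hf

omit [IsAlgClosed k] [Algebra.FiniteType k A] [IsReduced A] [Algebra.FiniteType k R] in
/-- Ideals of the ring of invariants are contracted from their extensions. -/
theorem mem_of_algebraMap_mem_map (hG : HopfRep.IsLinearlyReductive k A)
    (hR₀i : Function.Injective (algebraMap R₀ R)) (hR₀ : (IsScalarTower.toAlgHom k R₀ R).range = GLin.invariants k A R)
    (I : Ideal R₀) {a : R₀} (ha : algebraMap R₀ R a ∈ I.map (algebraMap R₀ R)) : a ∈ I := by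
  have key : ∀ x ∈ I.map (algebraMap R₀ R), ∀ c, ∃ b ∈ I, algebraMap R₀ R b = rey k A R hG (c * x) := by
    intro x hx
    induction hx using Submodule.span_induction with
    | mem x hx =>
      obtain ⟨b, hb, rfl⟩ := hx
      intro c
      obtain ⟨d, hd⟩ := exists_algebraMap_eq hR₀ (rey_mem hG c)
      exact ⟨d * b, I.mul_mem_left _ hb, by rw [map_mul, hd, rey_mul_invariant hG (algebraMap_mem_invariants hR₀ b)]⟩
    | zero => exact fun c => ⟨0, I.zero_mem, by simp⟩
    | add x y _ _ hx hy =>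
      intro c
      obtain ⟨b, hb, hb'⟩ := hx c
      obtain ⟨b', hb₁, hb₂⟩ := hy c
      exact ⟨b + b', I.add_mem hb hb₁, by rw [map_add, hb', hb₂, mul_add, map_add]⟩
    | smul e x _ hx =>
      intro c
      rw [smul_eq_mul, ← mul_assoc]
      exact hx _
  obtain ⟨b, hb, hb'⟩ := key _ ha 1
  rw [one_mul, rey_of_fixed hG (algebraMap_mem_invariants hR₀ a)] at hb'
  rwa [← hR₀i hb']

omit [IsAlgClosed k] [Algebra.FiniteType k A] [IsReduced A] in
theorem finiteType_invariantRing (hG : HopfRep.IsLinearlyReductive k A)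
    (hR₀i : Function.Injective (algebraMap R₀ R)) (hR₀ : (IsScalarTower.toAlgHom k R₀ R).range = GLin.invariants k A R) :
    Algebra.FiniteType k R₀ := by
  haveI := LinRed34.finiteType_invariants (R := R) hG
  exact (inferInstance : Algebra.FiniteType k (GLin.invariants k A R)).equiv
    ((AlgEquiv.ofInjective (IsScalarTower.toAlgHom k R₀ R) hR₀i).trans (Subalgebra.equivOfEq _ _ hR₀)).symm

omit [IsReduced A] in
theorem stable_map_invariant (hR₀ : (IsScalarTower.toAlgHom k R₀ R).range = GLin.invariants k A R)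
    (I : Ideal R₀) (g : A →ₐ[k] k) {r : R} (hr : r ∈ I.map (algebraMap R₀ R)) :
    actHom A R g r ∈ I.map (algebraMap R₀ R) := by
  refine (Ideal.map_le_iff_le_comap.2 fun a ha => ?_ : I.map (algebraMap R₀ R) ≤
    (I.map (algebraMap R₀ R)).comap (actHom A R g)) hr
  show actHom A R g (algebraMap R₀ R a) ∈ I.map (algebraMap R₀ R)
  rw [actHom_invariant g (algebraMap_mem_invariants hR₀ a)]
  exact Ideal.mem_map_of_mem _ ha

/-- A stable condition met at a closed orbit is met by an invariant multiplier. -/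
theorem exists_invariant_mul_mem (hG : HopfRep.IsLinearlyReductive k A) {x : R →ₐ[k] k}
    (hx : GLin.IsClosedOrbit k A x) {J : Ideal R} (hJ : ∀ g : A →ₐ[k] k, ∀ r ∈ J, actHom A R g r ∈ J)
    {v : R} (hv : v ∈ GLin.invariants k A R) {w : R} (hw : x w ≠ 0) (hwv : w * v ∈ J) :
    ∃ f ∈ GLin.invariants k A R, x f = 1 ∧ f * v ∈ J := by
  let a : Ideal R := Submodule.colon J ({v} : Set R)
  have hmem : ∀ r, r ∈ a ↔ r * v ∈ J := fun r => Submodule.mem_colon_singleton
  obtain ⟨f, hf, hfa, hxf⟩ := exists_invariant_eq_one hG (I := a) (fun g r hr => by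
    rw [hmem] at hr ⊢
    have := hJ g _ hr
    rwa [map_mul, actHom_invariant g hv] at this) hx ⟨w, (hmem w).2 hwv, hw⟩
  exact ⟨f, hf, hxf, (hmem f).1 hfa⟩

variable [Algebra S R] [IsScalarTower k S R]
variable {S₀ : Type u} [CommRing S₀] [Algebra k S₀] [Algebra S₀ S] [IsScalarTower k S₀ S]
variable [Algebra S₀ R₀] [Algebra S₀ R] [IsScalarTower S₀ S R] [IsScalarTower S₀ R₀ R]

omit [IsAlgClosed k] [Algebra.FiniteType k A] [IsReduced A] [Algebra.FiniteType k S] [Algebra.FiniteType k R]
  [HopfRep.Comod k A S] [GLin.IsCoactAlg k A S] [HopfRep.Comod k A R] [GLin.IsCoactAlg k A R] in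
theorem algebraMap_base (a : S₀) : algebraMap R₀ R (algebraMap S₀ R₀ a) = algebraMap S R (algebraMap S₀ S a) := by
  rw [← IsScalarTower.algebraMap_apply, ← IsScalarTower.algebraMap_apply]

variable [Module.Finite S R]

/-- The maximal ideal below generates the maximal ideal of the invariants near the orbit. -/
theorem exists_mul_mem_base (hG : HopfRep.IsLinearlyReductive k A) (he : Equivariant k A S R)
    (hS₀ : (IsScalarTower.toAlgHom k S₀ S).range = GLin.invariants k A S)
    (hR₀i : Function.Injective (algebraMap R₀ R)) (hR₀ : (IsScalarTower.toAlgHom k R₀ R).range = GLin.invariants k A R)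
    {x : R →ₐ[k] k} (hx : GLin.IsClosedOrbit k A x)
    (hinj : ∀ g : A →ₐ[k] k, GLin.actPt k g (x.comp (IsScalarTower.toAlgHom k S R)) =
      x.comp (IsScalarTower.toAlgHom k S R) → GLin.actPt k g x = x)
    (hun : ∀ r ∈ RingHom.ker x, ∃ w ∉ RingHom.ker x,
      w * r ∈ (RingHom.ker (x.comp (IsScalarTower.toAlgHom k S R))).map (algebraMap S R))
    (v : R₀) (hv : x (algebraMap R₀ R v) = 0) :
    ∃ w : R₀, x (algebraMap R₀ R w) ≠ 0 ∧
      w * v ∈ ((RingHom.ker (x.comp (IsScalarTower.toAlgHom k R₀ R))).comap (algebraMap S₀ R₀)).map (algebraMap S₀ R₀) := by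
  set θ := IsScalarTower.toAlgHom k S R
  set I₀ := ((RingHom.ker (x.comp (IsScalarTower.toAlgHom k R₀ R))).comap (algebraMap S₀ R₀)).map (algebraMap S₀ R₀)
  set J := I₀.map (algebraMap R₀ R)
  haveI : IsNoetherianRing R := Algebra.FiniteType.isNoetherianRing k R
  obtain ⟨u, hu, hxu, hsep⟩ := exists_separator hG he hx
  haveI : (RingHom.ker x).IsPrime := (Hopf35.Stable.isMaximal_ker x).isPrime
  have hn : ∀ n : ℕ, ∃ w ∉ RingHom.ker x, w * algebraMap R₀ R v ∈ J ⊔ RingHom.ker x ^ n := by
    intro n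
    obtain ⟨s, hs⟩ := exists_sub_mem_nearIdeal he hx hinj hun hu hxu hsep n (algebraMap R₀ R v)
    set L := nearIdeal (A := A) (S := S) x u (n + 1)
    have hl : rey k A R hG (algebraMap R₀ R v - algebraMap S R s) ∈ L :=
      rey_mem_of_isSubcomod hG (isSubcomod_ideal fun g r hr => stable_nearIdeal he x hu _ g hr) hs
    have hreys : rey k A R hG (algebraMap S R s) = algebraMap S R (rey k A S hG s) :=
      (map_rey hG (isComodHom_algebraMap he) s).symm
    rw [map_sub, rey_of_fixed hG (algebraMap_mem_invariants hR₀ v), hreys] at hl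
    obtain ⟨i, hi⟩ := hl
    have hmap : (RingHom.ker (φ_ (x.comp θ)) ^ (n + 1)).map (algebraMap S R) ≤ RingHom.ker x ^ (n + 1) := by
      rw [Ideal.map_pow]
      refine Ideal.pow_right_mono (Ideal.map_le_iff_le_comap.2 fun b hb => ?_) _
      exact ker_orbitHom_le (x.comp θ) hb
    obtain ⟨a, ha⟩ := exists_algebraMap_eq hS₀ (rey_mem hG s)
    have hxs : x (algebraMap S R (rey k A S hG s)) = 0 := by
      have h1 := Ideal.pow_le_self (Nat.succ_ne_zero n) (hmap hi)
      rw [RingHom.mem_ker, map_mul, map_pow, hxu, one_pow, one_mul, map_sub, hv, zero_sub, neg_eq_zero] at h1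
      exact h1
    have haJ : algebraMap S R (rey k A S hG s) ∈ J := by
      rw [← ha, ← algebraMap_base (R₀ := R₀)]
      refine Ideal.mem_map_of_mem _ (Ideal.mem_map_of_mem _ ?_)
      show x (algebraMap R₀ R (algebraMap S₀ R₀ a)) = 0
      rwa [algebraMap_base (S := S), ha]
    refine ⟨u ^ i, fun h => by simp [RingHom.mem_ker, hxu] at h, ?_⟩
    rw [show u ^ i * algebraMap R₀ R v = u ^ i * algebraMap S R (rey k A S hG s) +
      u ^ i * (algebraMap R₀ R v - algebraMap S R (rey k A S hG s)) by ring]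
    exact Ideal.add_mem _ (Ideal.mem_sup_left (J.mul_mem_left _ haJ))
      (Ideal.mem_sup_right (Ideal.pow_le_pow_right n.le_succ (hmap hi)))
  obtain ⟨w, hw, hwv⟩ := exists_mul_mem_of_forall_pow (RingHom.ker x) J _ hn
  obtain ⟨f, hf, hxf, hfv⟩ := exists_invariant_mul_mem hG hx
    (fun g r hr => stable_map_invariant hR₀ I₀ g hr) (algebraMap_mem_invariants hR₀ v)
    (fun h => hw (RingHom.mem_ker.2 h)) hwv
  obtain ⟨w₀, rfl⟩ := exists_algebraMap_eq hR₀ hf
  exact ⟨w₀, by rw [hxf]; exact one_ne_zero, mem_of_algebraMap_mem_map hG hR₀i hR₀ I₀ (by rwa [map_mul])⟩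

/-- The map of invariant rings is étale below an étale closed orbit mapping injectively. -/
theorem isEtaleAt_invariants (hG : HopfRep.IsLinearlyReductive k A) (he : Equivariant k A S R)
    (hS₀i : Function.Injective (algebraMap S₀ S)) (hS₀ : (IsScalarTower.toAlgHom k S₀ S).range = GLin.invariants k A S)
    (hR₀i : Function.Injective (algebraMap R₀ R)) (hR₀ : (IsScalarTower.toAlgHom k R₀ R).range = GLin.invariants k A R)
    [IsScalarTower k S₀ R₀]
    {x : R →ₐ[k] k} (hx : GLin.IsClosedOrbit k A x)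
    (hinj : ∀ g : A →ₐ[k] k, GLin.actPt k g (x.comp (IsScalarTower.toAlgHom k S R)) =
      x.comp (IsScalarTower.toAlgHom k S R) → GLin.actPt k g x = x)
    (m : Ideal R) [m.IsPrime] (hm : m = RingHom.ker x) (het : Algebra.IsEtaleAt S m) :
    Algebra.IsEtaleAt S₀ (m.comap (algebraMap R₀ R)) := by
  set θ := IsScalarTower.toAlgHom k S R
  haveI : IsNoetherianRing S := Algebra.FiniteType.isNoetherianRing k S
  haveI := finiteType_invariantRing hG hR₀i hR₀
  haveI := finiteType_invariantRing hG hS₀i hS₀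
  haveI : IsNoetherianRing S₀ := Algebra.FiniteType.isNoetherianRing k S₀
  haveI : Algebra.FiniteType S₀ R₀ := Algebra.FiniteType.of_restrictScalars_finiteType k S₀ R₀
  haveI : Algebra.FiniteType S R := Algebra.FiniteType.of_restrictScalars_finiteType k S R
  haveI : Algebra.IsUnramifiedAt S m := inferInstanceAs (Algebra.FormallyUnramified S (Localization.AtPrime m))
  have hker : m.comap (algebraMap S R) = RingHom.ker (x.comp θ) := by subst hm; rfl
  have hun : ∀ r ∈ RingHom.ker x, ∃ w ∉ RingHom.ker x,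
      w * r ∈ (RingHom.ker (x.comp θ)).map (algebraMap S R) := by
    intro r hr
    rw [← hm] at hr ⊢
    rw [← hker]
    exact exists_mul_mem_of_isUnramifiedAt m hr
  have hyc := isClosedOrbit_image he hx
  set q := m.comap (algebraMap R₀ R) with hqdef
  have hq : q = RingHom.ker (x.comp (IsScalarTower.toAlgHom k R₀ R)) := by rw [hqdef, hm]; rfl
  have huq : ∀ v ∈ q, ∃ w ∉ q, w * v ∈ (q.comap (algebraMap S₀ R₀)).map (algebraMap S₀ R₀) := by
    intro v hv
    rw [hq] at hv ⊢
    obtain ⟨w, hw, h⟩ := exists_mul_mem_base hG he hS₀ hR₀i hR₀ hx hinj hun v (RingHom.mem_ker.1 hv)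
    exact ⟨w, fun h0 => hw (RingHom.mem_ker.1 h0), h⟩
  refine isEtaleAt_of_point (x.comp (IsScalarTower.toAlgHom k R₀ R)) q hq huq fun n a ha => ?_
  set p := q.comap (algebraMap S₀ R₀) with hp
  have h1 : ∃ w ∉ q, w * algebraMap S₀ R₀ a ∈ (p ^ n).map (algebraMap S₀ R₀) := by
    rw [← mem_maximalIdeal_pow_iff] at ha
    rw [← mem_map_atPrime_iff, Ideal.map_pow, Ideal.map_pow]
    refine Ideal.pow_right_mono ?_ n ha
    rw [← Localization.AtPrime.map_eq_maximalIdeal, Ideal.map_le_iff_le_comap]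
    exact fun v hv => (mem_map_atPrime_iff q _ v).2 (huq v hv)
  obtain ⟨w, hw, hwa⟩ := h1
  have h2 := Ideal.mem_map_of_mem (algebraMap R₀ R) hwa
  rw [map_mul, algebraMap_base (S := S), Ideal.map_map, ← IsScalarTower.algebraMap_eq S₀ R₀ R,
    IsScalarTower.algebraMap_eq S₀ S R, ← Ideal.map_map] at h2
  obtain ⟨t, ht, hta⟩ := exists_mul_mem_of_isEtaleAt (S := S) m ((p ^ n).map (algebraMap S₀ S))
    (algebraMap S₀ S a) ⟨algebraMap R₀ R w, hw, h2⟩
  obtain ⟨f, hf, hyf, hfa⟩ := exists_invariant_mul_mem hG hyc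
    (fun g r hr => stable_map_invariant hS₀ (p ^ n) g hr) (algebraMap_mem_invariants hS₀ a)
    (fun h => ht (hker ▸ RingHom.mem_ker.2 h)) hta
  obtain ⟨t₀, rfl⟩ := exists_algebraMap_eq hS₀ hf
  refine ⟨t₀, fun h => ?_, mem_of_algebraMap_mem_map hG hS₀i hS₀ _ (by rwa [map_mul])⟩
  have h3 : x (algebraMap S R (algebraMap S₀ S t₀)) = 0 := by
    rw [← algebraMap_base (R₀ := R₀) (S := S)]
    rw [hp, hq] at h
    exact h
  exact one_ne_zero (hyf.symm.trans h3)

end Groth.Agent.Luna34
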