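import Groth.Agent.Luna34.Setup
import Mathlib.RingTheory.Spectrum.Prime.Chevalley
import Mathlib.RingTheory.Etale.Locus
import Mathlib.RingTheory.Flat.Stability

/-!
Strongly étale neighbourhoods.
-/

set_option autoImplicit false

universe u

open TensorProduct

noncomputable section

namespace Groth.Agent.Luna34

open Groth.Agent.Hopf35.Stable Groth.Agent.LinRed34

section Ring

variable {S₀ S R₀ R : Type u} [CommRing S₀] [CommRing S] [CommRing R₀] [CommRing R]
variable [Algebra S₀ S] [Algebra S₀ R₀] [Algebra R₀ R] [Algebra S R] [Algebra S₀ R]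
variable [IsScalarTower S₀ S R] [IsScalarTower S₀ R₀ R]

local notation "Φ_" => Algebra.TensorProduct.productMap (IsScalarTower.toAlgHom S₀ S R) (IsScalarTower.toAlgHom S₀ R₀ R)

/-- A cartesian square up to powers of `F` is cartesian after inverting `F`. -/
theorem exists_algEquiv_away (F : R₀)
    (hker : ∀ z : S ⊗[S₀] R₀, Φ_ z = 0 → ∃ n : ℕ, ((1 : S) ⊗ₜ[S₀] F) ^ n * z = 0)
    (hrange : ∀ r : R, ∃ (n : ℕ) (z : S ⊗[S₀] R₀), Φ_ z = algebraMap R₀ R F ^ n * r) :
    ∃ e : S ⊗[S₀] Localization.Away F ≃ₐ[S] Localization.Away (algebraMap R₀ R F), ∀ r : R₀,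
      e ((1 : S) ⊗ₜ[S₀] algebraMap R₀ (Localization.Away F) r) =
        algebraMap R (Localization.Away (algebraMap R₀ R F)) (algebraMap R₀ R r) := by
  let L := Localization.Away F
  let h := algebraMap R₀ R F
  let Rh := Localization.Away h
  have hu : ∀ y : Submonoid.powers F, IsUnit ((IsScalarTower.toAlgHom S₀ R Rh).comp (IsScalarTower.toAlgHom S₀ R₀ R) y) := by
    rintro ⟨_, n, rfl⟩
    rw [map_pow]
    exact (IsLocalization.Away.algebraMap_isUnit h).pow n
  let l : L →ₐ[S₀] Rh := IsLocalization.liftAlgHom hu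
  have hl : ∀ r : R₀, l (algebraMap R₀ L r) = algebraMap R Rh (algebraMap R₀ R r) := fun r => by simp [l]
  let Λ : S ⊗[S₀] L →ₐ[S] Rh :=
    Algebra.TensorProduct.lift (Algebra.ofId S Rh) l fun _ _ => Commute.all _ _
  have hΛ : ∀ (s : S) (a : L), Λ (s ⊗ₜ[S₀] a) = algebraMap S Rh s * l a := fun s a =>
    Algebra.TensorProduct.lift_tmul _ _ _ _ _
  let j : S ⊗[S₀] R₀ →ₐ[S₀] S ⊗[S₀] L :=
    Algebra.TensorProduct.map (AlgHom.id S₀ S) (IsScalarTower.toAlgHom S₀ R₀ L)
  have hj : ∀ z, Λ (j z) = algebraMap R Rh (Φ_ z) := by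
    intro z
    induction z using TensorProduct.induction_on with
    | zero => simp
    | add p q hp hq => simp only [map_add, hp, hq]
    | tmul s r =>
      show Λ (s ⊗ₜ[S₀] algebraMap R₀ L r) = _
      rw [hΛ, hl, IsScalarTower.algebraMap_apply S R Rh, ← map_mul]
      congr 1
  let U : S ⊗[S₀] L := (1 : S) ⊗ₜ[S₀] algebraMap R₀ L F
  have hU : IsUnit U :=
    (IsLocalization.Away.algebraMap_isUnit (S := L) F).map (Algebra.TensorProduct.includeRight : L →ₐ[S₀] S ⊗[S₀] L)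
  have hjU : j ((1 : S) ⊗ₜ[S₀] F) = U := rfl
  have hnum : ∀ t : S ⊗[S₀] L, ∃ (n : ℕ) (z : S ⊗[S₀] R₀), U ^ n * t = j z := by
    intro t
    induction t using TensorProduct.induction_on with
    | zero => exact ⟨0, 0, by simp⟩
    | tmul s a =>
      obtain ⟨⟨r, ⟨_, n, rfl⟩⟩, hr⟩ := IsLocalization.surj (Submonoid.powers F) a
      refine ⟨n, s ⊗ₜ r, ?_⟩
      rw [Algebra.TensorProduct.tmul_pow, one_pow, Algebra.TensorProduct.tmul_mul_tmul, one_mul, mul_comm,
        ← map_pow, hr]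
      rfl
    | add p q hp hq =>
      obtain ⟨a, z, hz⟩ := hp
      obtain ⟨a', z', hz'⟩ := hq
      refine ⟨a + a', ((1 : S) ⊗ₜ[S₀] F) ^ a' * z + ((1 : S) ⊗ₜ[S₀] F) ^ a * z', ?_⟩
      rw [map_add, map_mul, map_mul, map_pow, map_pow, hjU, ← hz, ← hz', pow_add]
      ring
  have hΛinj : Function.Injective Λ := by
    refine (injective_iff_map_eq_zero Λ).2 fun t ht => ?_
    obtain ⟨n, z, hz⟩ := hnum t
    have h1 : algebraMap R Rh (Φ_ z) = 0 := by rw [← hj, ← hz, map_mul, ht, mul_zero]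
    obtain ⟨⟨_, i, rfl⟩, hi⟩ := (IsLocalization.map_eq_zero_iff (Submonoid.powers h) Rh _).1 h1
    have h2 : Φ_ (((1 : S) ⊗ₜ[S₀] F) ^ i * z) = 0 := by
      rw [map_mul, map_pow, show Φ_ ((1 : S) ⊗ₜ[S₀] F) = h from
        Algebra.TensorProduct.productMap_right_apply _ _ _]
      exact hi
    obtain ⟨l', hl'⟩ := hker _ h2
    have h3 := congrArg j hl'
    rw [map_mul, map_mul, map_pow, map_pow, hjU, ← hz, map_zero, ← mul_assoc, ← mul_assoc] at h3
    exact (IsUnit.mul_right_eq_zero (((hU.pow l').mul (hU.pow i)).mul (hU.pow n))).1 h3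
  have hΛsurj : Function.Surjective Λ := by
    intro w
    obtain ⟨⟨r, ⟨_, n, rfl⟩⟩, hr⟩ := IsLocalization.surj (Submonoid.powers h) w
    obtain ⟨a, z, hz⟩ := hrange r
    obtain ⟨v, hv⟩ := isUnit_iff_exists_inv.1 (hU.pow (n + a))
    refine ⟨j z * v, ?_⟩
    have hh : IsUnit (algebraMap R Rh h ^ (n + a)) := (IsLocalization.Away.algebraMap_isUnit h).pow _
    refine hh.mul_left_injective ?_
    show Λ _ * _ = w * _
    have hΛU : Λ U = algebraMap R Rh h := by rw [hΛ, map_one, one_mul, hl]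
    rw [← hΛU, ← map_pow, ← map_mul, mul_assoc, mul_comm v, hv, mul_one, hj, hz, map_mul, map_pow, map_pow, hΛU,
      ← hr, map_pow, pow_add]
    ring
  exact ⟨AlgEquiv.ofBijective Λ ⟨hΛinj, hΛsurj⟩, fun r => by
    rw [AlgEquiv.ofBijective_apply]
    rw [hΛ, map_one, one_mul, hl]⟩

/-- An invariant cutting the image of a flat finitely presented chart. -/
theorem exists_mem_image_basicOpen [Algebra.Etale S₀ R₀] (q : Ideal R₀) [q.IsPrime] :
    ∃ g : S₀, algebraMap S₀ R₀ g ∉ q ∧ ∀ (p : Ideal S₀), p.IsPrime → g ∉ p →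
      ∃ q' : Ideal R₀, q'.IsPrime ∧ q'.comap (algebraMap S₀ R₀) = p := by
  haveI : Module.Flat S₀ R₀ := inferInstance
  have hopen := PrimeSpectrum.isOpenMap_comap_of_hasGoingDown_of_finitePresentation (R := S₀) (S := R₀)
  obtain ⟨_, ⟨_, ⟨g, rfl⟩, rfl⟩, hg, hsub⟩ := PrimeSpectrum.isBasis_basic_opens.exists_subset_of_mem_open
    (show PrimeSpectrum.comap (algebraMap S₀ R₀) ⟨q, inferInstance⟩ ∈
      Set.range (PrimeSpectrum.comap (algebraMap S₀ R₀)) from ⟨_, rfl⟩) hopen.isOpen_range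
  refine ⟨g, hg, fun p hp hgp => ?_⟩
  obtain ⟨q', hq'⟩ := hsub (show (⟨p, hp⟩ : PrimeSpectrum S₀) ∈ PrimeSpectrum.basicOpen g from hgp)
  exact ⟨q'.asIdeal, q'.2, congrArg PrimeSpectrum.asIdeal hq'⟩

end Ring

variable {k : Type u} [Field k] [IsAlgClosed k]
variable {A : Type u} [CommRing A] [HopfAlgebra k A] [Algebra.FiniteType k A] [IsReduced A]
variable {S : Type u} [CommRing S] [Algebra k S] [Algebra.FiniteType k S] [HopfRep.Comod k A S] [GLin.IsCoactAlg k A S]
variable {R : Type u} [CommRing R] [Algebra k R] [Algebra.FiniteType k R] [HopfRep.Comod k A R] [GLin.IsCoactAlg k A R]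
variable [Algebra S R] [IsScalarTower k S R]
variable {S₀ : Type u} [CommRing S₀] [Algebra k S₀] [Algebra S₀ S] [IsScalarTower k S₀ S]
variable {R₀ : Type u} [CommRing R₀] [Algebra k R₀] [Algebra R₀ R] [IsScalarTower k R₀ R]
variable [Algebra S₀ R₀] [Algebra S₀ R] [IsScalarTower S₀ S R] [IsScalarTower S₀ R₀ R]

local notation "Φ_" => Algebra.TensorProduct.productMap (IsScalarTower.toAlgHom S₀ S R) (IsScalarTower.toAlgHom S₀ R₀ R)

/-- The fundamental lemma. -/
theorem exists_strongly_etale (hG : HopfRep.IsLinearlyReductive k A) (he : Equivariant k A S R)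
    (hS₀i : Function.Injective (algebraMap S₀ S)) (hS₀ : (IsScalarTower.toAlgHom k S₀ S).range = GLin.invariants k A S)
    (hR₀i : Function.Injective (algebraMap R₀ R)) (hR₀ : (IsScalarTower.toAlgHom k R₀ R).range = GLin.invariants k A R)
    (x : R →ₐ[k] k) (m : Ideal R) [m.IsPrime] (hm : m = RingHom.ker x) (het : Algebra.IsEtaleAt S m)
    (hy : GLin.IsClosedOrbit k A (x.comp (IsScalarTower.toAlgHom k S R)))
    (hinj : ∀ g : A →ₐ[k] k, GLin.actPt k g (x.comp (IsScalarTower.toAlgHom k S R)) =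
      x.comp (IsScalarTower.toAlgHom k S R) → GLin.actPt k g x = x) :
    ∃ (f : R₀) (g : S₀), x (algebraMap R₀ R (f * algebraMap S₀ R₀ g)) ≠ 0 ∧
      (∀ P : Ideal S, P.IsPrime → algebraMap S₀ S g ∉ P →
        ∃ Q : Ideal R, Q.IsPrime ∧ algebraMap R₀ R (f * algebraMap S₀ R₀ g) ∉ Q ∧ Q.comap (algebraMap S R) = P) ∧
      (∀ (Q : Ideal R) [Q.IsPrime], algebraMap R₀ R (f * algebraMap S₀ R₀ g) ∉ Q → Algebra.IsEtaleAt S Q) ∧
      (∀ x' : R →ₐ[k] k, x' (algebraMap R₀ R (f * algebraMap S₀ R₀ g)) ≠ 0 → GLin.IsClosedOrbit k A x' →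
        GLin.IsClosedOrbit k A (x'.comp (IsScalarTower.toAlgHom k S R))) ∧
      (∀ (q : Ideal R₀) [q.IsPrime], f * algebraMap S₀ R₀ g ∉ q → Algebra.IsEtaleAt S₀ q) ∧
      (∀ z : S ⊗[S₀] R₀, Φ_ z = 0 → ∃ n : ℕ, ((1 : S) ⊗ₜ[S₀] (f * algebraMap S₀ R₀ g)) ^ n * z = 0) ∧
      (∀ r : R, ∃ (n : ℕ) (z : S ⊗[S₀] R₀), Φ_ z = algebraMap R₀ R (f * algebraMap S₀ R₀ g) ^ n * r) := by
  obtain ⟨het₀, F₀, hxF₀, hker₀, hrange₀⟩ := exists_cartesian_near hG he hS₀i hS₀ hR₀i hR₀ x m hm het hy hinj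
  haveI := isScalarTower_base (k := k) (S₀ := S₀) S hR₀i
  haveI := finiteType_invariantRing hG hR₀i hR₀
  haveI := finiteType_invariantRing hG hS₀i hS₀
  haveI : IsNoetherianRing S₀ := Algebra.FiniteType.isNoetherianRing k S₀
  haveI : IsNoetherianRing S := Algebra.FiniteType.isNoetherianRing k S
  haveI : Algebra.FiniteType S₀ R₀ := Algebra.FiniteType.of_restrictScalars_finiteType k S₀ R₀
  haveI : Algebra.FinitePresentation S₀ R₀ := Algebra.FinitePresentation.of_finiteType.1 inferInstance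
  haveI : Algebra.FiniteType S R := Algebra.FiniteType.of_restrictScalars_finiteType k S R
  haveI : Algebra.FinitePresentation S R := Algebra.FinitePresentation.of_finiteType.1 inferInstance
  haveI := het₀
  obtain ⟨f₁, hf₁, hEt₁⟩ := Algebra.exists_etale_of_isEtaleAt (R := S₀) (m.comap (algebraMap R₀ R))
  let f := F₀ * f₁
  have hxf : x (algebraMap R₀ R f) ≠ 0 := by
    rw [map_mul, map_mul]
    refine mul_ne_zero hxF₀ fun h => hf₁ ?_
    show algebraMap R₀ R f₁ ∈ m
    rw [hm]; exact RingHom.mem_ker.2 h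
  have hetf : ∀ (q : Ideal R₀) [q.IsPrime], f ∉ q → Algebra.IsEtaleAt S₀ q := by
    intro q hqp hq
    exact Algebra.basicOpen_subset_etaleLocus_iff_etale.2 hEt₁
      (show (⟨q, hqp⟩ : PrimeSpectrum R₀) ∈ PrimeSpectrum.basicOpen f₁ from fun h => hq (q.mul_mem_left _ h))
  let Rf := Localization.Away f
  haveI : Algebra.Etale S₀ Rf := Algebra.basicOpen_subset_etaleLocus_iff_etale.1 fun q hq => hetf q.asIdeal hq
  let q₀ := m.comap (algebraMap R₀ R)
  have hfq : f ∉ q₀ := fun h => hxf (by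
    have h' : algebraMap R₀ R f ∈ m := h
    rwa [hm, RingHom.mem_ker] at h')
  haveI hq₁ : (q₀.map (algebraMap R₀ Rf)).IsPrime :=
    IsLocalization.isPrime_of_isPrime_disjoint (Submonoid.powers f) Rf q₀ inferInstance
      (Set.disjoint_left.2 fun a ⟨n, hn⟩ ha => hfq (Ideal.IsPrime.mem_of_pow_mem inferInstance n (show _ ^ n ∈ _ by rw [show _ ^ n = a from hn]; exact ha)))
  obtain ⟨g, hg, hgim⟩ := exists_mem_image_basicOpen (S₀ := S₀) (R₀ := Rf) (q₀.map (algebraMap R₀ Rf))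
  have hgq : algebraMap S₀ R₀ g ∉ q₀ := fun h => hg (by
    rw [IsScalarTower.algebraMap_apply S₀ R₀ Rf]
    exact Ideal.mem_map_of_mem _ h)
  set G := f * algebraMap S₀ R₀ g with hGdef
  have hGf : ∀ (q : Ideal R₀), G ∉ q → f ∉ q := fun q h h' => h (q.mul_mem_right _ h')
  have hxG : x (algebraMap R₀ R G) ≠ 0 := by
    rw [map_mul, map_mul]
    refine mul_ne_zero hxf fun h => hgq ?_
    show algebraMap R₀ R (algebraMap S₀ R₀ g) ∈ m
    rw [hm]; exact RingHom.mem_ker.2 h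
  have hdvd : ((1 : S) ⊗ₜ[S₀] F₀) ∣ ((1 : S) ⊗ₜ[S₀] G : S ⊗[S₀] R₀) :=
    ⟨(1 : S) ⊗ₜ[S₀] (f₁ * algebraMap S₀ R₀ g), by rw [Algebra.TensorProduct.tmul_mul_tmul, one_mul, ← mul_assoc]⟩
  have hkerG : ∀ z : S ⊗[S₀] R₀, Φ_ z = 0 → ∃ n : ℕ, ((1 : S) ⊗ₜ[S₀] G) ^ n * z = 0 := fun z hz => by
    obtain ⟨n, hn⟩ := hker₀ z hz
    obtain ⟨c, hc⟩ := pow_dvd_pow_of_dvd hdvd n
    exact ⟨n, by rw [hc, mul_comm _ c, mul_assoc, hn, mul_zero]⟩
  have hrangeG : ∀ r : R, ∃ (n : ℕ) (z : S ⊗[S₀] R₀), Φ_ z = algebraMap R₀ R G ^ n * r := fun r => by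
    obtain ⟨n, z, hz⟩ := hrange₀ r
    refine ⟨n, ((1 : S) ⊗ₜ[S₀] (f₁ * algebraMap S₀ R₀ g)) ^ n * z, ?_⟩
    rw [map_mul, map_pow, productMap_tmul, map_one, one_mul, hz, ← mul_assoc, ← mul_pow, ← map_mul, mul_comm _ F₀,
      ← mul_assoc]
  let RG := Localization.Away G
  have hetG : ∀ (q : Ideal R₀) [q.IsPrime], G ∉ q → Algebra.IsEtaleAt S₀ q := fun q _ h => hetf q (hGf q h)
  haveI : Algebra.Etale S₀ RG := Algebra.basicOpen_subset_etaleLocus_iff_etale.1 fun q hq => hetG q.asIdeal hq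
  obtain ⟨e, he'⟩ := exists_algEquiv_away G hkerG hrangeG
  let Rh := Localization.Away (algebraMap R₀ R G)
  haveI : Algebra.Etale S (S ⊗[S₀] RG) := inferInstance
  haveI hEtR : Algebra.Etale S Rh := Algebra.Etale.of_equiv e
  -- primes over pairs
  have hpair : ∀ (P : Ideal S) (q : Ideal R₀), P.IsPrime → q.IsPrime → G ∉ q →
      P.comap (algebraMap S₀ S) = q.comap (algebraMap S₀ R₀) →
      ∃ Q : Ideal (Localization.Away (algebraMap R₀ R G)), Q.IsPrime ∧ Q.comap (algebraMap S _) = P ∧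
        (Q.comap (algebraMap R _)).comap (algebraMap R₀ R) = q := by
    intro P q hP hq hGq hPq
    haveI := hP
    haveI := hq
    haveI : (q.map (algebraMap R₀ RG)).IsPrime :=
      IsLocalization.isPrime_of_isPrime_disjoint (Submonoid.powers G) RG q inferInstance
        (Set.disjoint_left.2 fun a ⟨n, hn⟩ ha => hGq (Ideal.IsPrime.mem_of_pow_mem inferInstance n (show _ ^ n ∈ _ by rw [show _ ^ n = a from hn]; exact ha)))
    have hqc : (q.map (algebraMap R₀ RG)).comap (algebraMap R₀ RG) = q :=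
      IsLocalization.comap_map_of_isPrime_disjoint (Submonoid.powers G) RG inferInstance
        (Set.disjoint_left.2 fun a ⟨n, hn⟩ ha => hGq (Ideal.IsPrime.mem_of_pow_mem inferInstance n (show _ ^ n ∈ _ by rw [show _ ^ n = a from hn]; exact ha)))
    obtain ⟨Q, hQ, hQP, hQq⟩ := exists_prime_over_pair P (q.map (algebraMap R₀ RG)) (q.comap (algebraMap S₀ R₀)) hPq
      (by rw [IsScalarTower.algebraMap_eq S₀ R₀ RG, ← Ideal.comap_comap, hqc])
    haveI := hQ
    refine ⟨Q.comap e.symm.toAlgHom.toRingHom, inferInstance, ?_, ?_⟩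
    · ext s
      rw [← hQP]
      show e.symm (algebraMap S _ s) ∈ Q ↔ _
      rw [AlgEquiv.commutes]
      rfl
    · ext r
      show e.symm (algebraMap R _ (algebraMap R₀ R r)) ∈ Q ↔ r ∈ q
      rw [← he', AlgEquiv.symm_apply_apply]
      conv_rhs => rw [← hqc]
      rw [← hQq]
      rfl
  refine ⟨f, g, hxG, ?_, ?_, ?_, hetG, hkerG, hrangeG⟩
  · intro P hP hgP
    haveI := hP
    obtain ⟨q', hq'p, hq'⟩ := hgim (P.comap (algebraMap S₀ S)) inferInstance hgP
    haveI := hq'p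
    let q := q'.comap (algebraMap R₀ Rf)
    have hPq : P.comap (algebraMap S₀ S) = q.comap (algebraMap S₀ R₀) := by
      rw [← hq', IsScalarTower.algebraMap_eq S₀ R₀ Rf, ← Ideal.comap_comap]
    have hfq' : f ∉ q := fun h =>
      hq'p.ne_top (Ideal.eq_top_of_isUnit_mem _ h (IsLocalization.Away.algebraMap_isUnit f))
    have hGq : G ∉ q := fun h => by
      rcases (inferInstance : q.IsPrime).mem_or_mem h with h | h
      · exact hfq' h
      · exact hgP (hPq.ge h)
    obtain ⟨Q, hQ, hQP, -⟩ := hpair P q hP inferInstance hGq hPq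
    haveI := hQ
    refine ⟨Q.comap (algebraMap R _), inferInstance, fun h =>
      hQ.ne_top (Ideal.eq_top_of_isUnit_mem _ h (IsLocalization.Away.algebraMap_isUnit _)), ?_⟩
    rw [Ideal.comap_comap, ← IsScalarTower.algebraMap_eq, hQP]
  · intro Q hQp hQ
    exact Algebra.basicOpen_subset_etaleLocus_iff_etale.2 hEtR
      (show (⟨Q, hQp⟩ : PrimeSpectrum R) ∈ PrimeSpectrum.basicOpen (algebraMap R₀ R G) from hQ)
  · intro x' hx' hx'c
    obtain ⟨y, hyc, hyclosed⟩ := Hopf35.Stable.exists_closedOrbit (A := A) (x'.comp (IsScalarTower.toAlgHom k S R))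
    let q := RingHom.ker (x'.comp (IsScalarTower.toAlgHom k R₀ R))
    haveI : (RingHom.ker y).IsPrime := (Hopf35.Stable.isMaximal_ker y).isPrime
    haveI : q.IsPrime := (Hopf35.Stable.isMaximal_ker _).isPrime
    have hGq : G ∉ q := fun h => hx' (RingHom.mem_ker.1 h)
    have hPq : (RingHom.ker y).comap (algebraMap S₀ S) = q.comap (algebraMap S₀ R₀) := by
      ext a
      show y (algebraMap S₀ S a) = 0 ↔ x' (algebraMap R₀ R (algebraMap S₀ R₀ a)) = 0
      rw [eq_invariants_of_inOrbitClosure hyc (algebraMap_mem_invariants hS₀ a), algebraMap_base (S := S)]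
      rfl
    obtain ⟨Q, hQ, hQP, hQq⟩ := hpair (RingHom.ker y) q inferInstance inferInstance hGq hPq
    haveI : Algebra.FiniteType k (Localization.Away (algebraMap R₀ R G)) :=
      Algebra.FiniteType.trans (S := R) inferInstance (IsLocalization.finiteType_of_monoid_fg (Submonoid.powers (algebraMap R₀ R G)) _)
    obtain ⟨z, hz⟩ := LinRed34.exists_point (k := k) Q hQ.ne_top
    let x'' : R →ₐ[k] k := z.comp (IsScalarTower.toAlgHom k R (Localization.Away (algebraMap R₀ R G)))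
    have hθ : x''.comp (IsScalarTower.toAlgHom k S R) = y := AlgHom.ext fun s => by
      have hs : algebraMap S (Localization.Away (algebraMap R₀ R G)) (s - algebraMap k S (y s)) ∈ Q :=
        hQP.ge (show s - algebraMap k S (y s) ∈ RingHom.ker y by simp [RingHom.mem_ker])
      have h := hz _ hs
      rw [map_sub, ← IsScalarTower.algebraMap_apply k S, map_sub, AlgHom.commutes, sub_eq_zero,
        IsScalarTower.algebraMap_apply S R (Localization.Away (algebraMap R₀ R G))] at h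
      exact h
    have hinv : ∀ a ∈ GLin.invariants k A R, x'' a = x' a := by
      intro a ha
      obtain ⟨a, rfl⟩ := exists_algebraMap_eq hR₀ ha
      have hs : a - algebraMap k R₀ (x' (algebraMap R₀ R a)) ∈ q := by
        show x' (algebraMap R₀ R (a - _)) = 0
        rw [map_sub, ← IsScalarTower.algebraMap_apply k R₀ R, map_sub, AlgHom.commutes]
        exact sub_self _
      have h : x'' (algebraMap R₀ R (a - algebraMap k R₀ (x' (algebraMap R₀ R a)))) = 0 := hz _ (hQq.ge hs)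
      rw [map_sub, ← IsScalarTower.algebraMap_apply k R₀ R, map_sub, AlgHom.commutes, sub_eq_zero] at h
      exact h
    have h1 := inOrbitClosure_of_eq_invariants hG hx'c hinv
    have h2 := FinGrp34.OrbitMap.inOrbitClosure_comp (IsScalarTower.toAlgHom k S R) he h1
    rw [hθ] at h2
    exact isClosedOrbit_actPt hyclosed (isClosedOrbit_iff.1 hyclosed _ h2)

end Groth.Agent.Luna34
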