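import Groth.Agent.Luna34.Fibre
import Groth.Agent.FinGrp34.EquivFactor
import Groth.Agent.Hopf34.Fin

/-!
A finite equivariant model of an affine `G`-variety near a quasi-finite point over a closed orbit.
-/

set_option autoImplicit false

universe u

open TensorProduct

noncomputable section

namespace Groth.Agent.Luna34

open Groth.Agent.Hopf35.Stable Groth.Agent.LinRed34
open Groth.Agent.FinGrp34.OrbitMap (actHom actHom_apply actHom_bijective)

variable {k : Type u} [Field k] [IsAlgClosed k]
variable {A : Type u} [CommRing A] [HopfAlgebra k A] [Algebra.FiniteType k A] [IsReduced A]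
variable {S : Type u} [CommRing S] [Algebra k S] [Algebra.FiniteType k S] [HopfRep.Comod k A S] [GLin.IsCoactAlg k A S]
variable {R : Type u} [CommRing R] [Algebra k R] [Algebra.FiniteType k R] [HopfRep.Comod k A R] [GLin.IsCoactAlg k A R]
variable [Algebra S R] [IsScalarTower k S R]

local notation "ρ" => HopfRep.Comod.coact (k := k) (A := A)

theorem exists_finite_model (hG : HopfRep.IsLinearlyReductive k A) (he : Equivariant k A S R)
    (x : R →ₐ[k] k) (hy : GLin.IsClosedOrbit k A (x.comp (IsScalarTower.toAlgHom k S R)))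
    (m : Ideal R) [m.IsPrime] (hmx : m = RingHom.ker x) (hqf : Algebra.QuasiFiniteAt S m) :
    ∃ (B : Subalgebra S R) (c : HopfRep.Comod k A B) (_ : @GLin.IsCoactAlg k _ A _ _ B _ _ c),
      Module.Finite S B ∧ Algebra.FiniteType k B ∧
      (∀ z : B, ρ (z : R) = Algebra.TensorProduct.map (B.val.restrictScalars k) (AlgHom.id k A) (c.coact z)) ∧
      Equivariant k A S B ∧
      ∃ b : B, (b : R) ∈ GLin.invariants k A R ∧ x (b : R) = 1 ∧ ∀ r : R, ∃ n : ℕ, (b : R) ^ n * r ∈ B := by
  classical
  haveI : Algebra.FiniteType S R := Algebra.FiniteType.of_restrictScalars_finiteType k S R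
  subst hmx
  haveI := hqf
  obtain ⟨h, hh, hint, hm⟩ := Algebra.zariskisMainProperty_iff.1
    (Algebra.ZariskisMainProperty.of_finiteType (R := S) (RingHom.ker x))
  obtain ⟨gens, hgens⟩ := (Algebra.FiniteType.out : (⊤ : Subalgebra k R).FG)
  choose e he' using hm
  let F : Finset R := insert h (gens.image fun r => h ^ e r * r)
  let I : Submodule k R := (integralClosure S R).toSubmodule.restrictScalars k
  have hFI : (F : Set R) ⊆ (I : Set R) := by
    intro r hr
    rcases Finset.mem_insert.1 (Finset.mem_coe.1 hr) with rfl | hr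
    · exact hint
    · obtain ⟨a, -, rfl⟩ := Finset.mem_image.1 hr
      exact he' a
  obtain ⟨W, hWfin, hWs, hFW, hWmin⟩ := Hopf34.exists_finite_isSubcomod (k := k) (A := A) (F : Set R) F.finite_toSet
  have hWI : W ≤ I := hWmin I (FinGrp34.EquivFactor.isSubcomod_integralClosure he) hFI
  obtain ⟨t, ht⟩ := (Module.Finite.iff_fg.1 hWfin : W.FG)
  let B : Subalgebra S R := Algebra.adjoin S (t : Set R)
  have hWB : ∀ w ∈ W, w ∈ B := fun w hw => by
    rw [← ht] at hw
    exact (Submodule.span_le.2 (Algebra.subset_adjoin) :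
      Submodule.span k (t : Set R) ≤ B.toSubmodule.restrictScalars k) hw
  have hBint : Algebra.IsIntegral S B := by
    refine Algebra.IsIntegral.adjoin fun z hz => hWI ?_
    rw [← ht]; exact Submodule.subset_span hz
  haveI : Algebra.FiniteType S B := Algebra.FiniteType.adjoin_of_finite t.finite_toSet
  haveI : Module.Finite S B := Algebra.IsIntegral.finite
  haveI : Algebra.FiniteType k B := Algebra.FiniteType.trans (S := S) inferInstance inferInstance
  let i : B →ₐ[k] R := B.val.restrictScalars k
  let M := Algebra.TensorProduct.map i (AlgHom.id k A)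
  have hBr : ∀ z : B, ρ (i z) ∈ M.range := by
    rintro ⟨z, hz⟩
    show z ∈ M.range.comap (GLin.coactAlgHom k A R)
    induction hz using Algebra.adjoin_induction with
    | mem z hz =>
      obtain ⟨w, hw⟩ := hWs z (ht ▸ Submodule.subset_span hz)
      show ρ z ∈ M.range
      rw [← hw]
      clear hw
      induction w with
      | zero => simp
      | tmul p q => exact ⟨(⟨(p : R), hWB p p.2⟩ : B) ⊗ₜ[k] q, by simp [M, i]⟩
      | add p q hp hq => rw [map_add]; exact add_mem hp hq
    | algebraMap s =>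
      show ρ (algebraMap S R s) ∈ M.range
      rw [he]
      generalize ρ s = w
      induction w with
      | zero => simp
      | tmul p q => exact ⟨(⟨algebraMap S R p, B.algebraMap_mem p⟩ : B) ⊗ₜ[k] q, by simp [M, i]⟩
      | add p q hp hq => rw [map_add]; exact add_mem hp hq
    | add p q _ _ hp hq => exact add_mem hp hq
    | mul p q _ _ hp hq => exact mul_mem hp hq
  obtain ⟨c, hc, hci⟩ := FinGrp34.EquivFactor.exists_comod i Subtype.val_injective hBr
  letI := c
  haveI := hc
  have heB : Equivariant k A S B := fun s => by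
    refine (Module.Flat.rTensor_preserves_injective_linearMap (M := A) i.toLinearMap Subtype.val_injective) ?_
    show M (ρ (algebraMap S B s)) = M (Algebra.TensorProduct.map (IsScalarTower.toAlgHom k S B) (AlgHom.id k A) (ρ s))
    rw [← hci]
    show ρ (algebraMap S R s) = _
    rw [he]
    generalize ρ s = w
    induction w with
    | zero => simp
    | tmul p q => simp [M, i, ← IsScalarTower.algebraMap_apply]
    | add p q hp hq => simp only [map_add, hp, hq]
  -- a stable conductor
  obtain ⟨W₂, hW₂fin, hW₂s, hgW₂, -⟩ :=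
    Hopf34.exists_finite_isSubcomod (k := k) (A := A) (gens : Set R) gens.finite_toSet
  have hW₂g : ∀ g : A →ₐ[k] k, ∀ w ∈ W₂, actHom A R g w ∈ W₂ := by
    intro g w hw
    rw [actHom_apply, Comod33.act_eq_dact]
    exact (Comod33.isSubcomod_iff _).1 hW₂s _ _ hw
  let J : Ideal B :=
    { carrier := {a | ∀ w ∈ W₂, (a : R) * w ∈ B}
      add_mem' := fun {a a'} ha ha' w hw => by
        rw [Subalgebra.coe_add, add_mul]; exact add_mem (ha w hw) (ha' w hw)
      zero_mem' := fun w _ => by simp
      smul_mem' := fun d a ha w hw => by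
        rw [smul_eq_mul, Subalgebra.coe_mul, mul_assoc]; exact mul_mem d.2 (ha w hw) }
  have hJst : ∀ g : A →ₐ[k] k, ∀ a ∈ J, actHom A B g a ∈ J := by
    intro g a ha w hw
    have hw' := hW₂g ((WithConv.toConv g)⁻¹).ofConv w hw
    have h1 : (((actHom A B g a : B)) : R) * w =
        actHom A R g ((a : R) * actHom A R ((WithConv.toConv g)⁻¹).ofConv w) := by
      rw [map_mul, actHom_inv]
      congr 1
      exact (FinGrp34.PolyComod.map_actHom hci g a).symm
    rw [h1]
    have h2 := FinGrp34.PolyComod.map_actHom hci g ⟨_, ha _ hw'⟩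
    rw [show i ⟨_, ha _ hw'⟩ = (a : R) * actHom A R ((WithConv.toConv g)⁻¹).ofConv w from rfl] at h2
    rw [h2]
    exact Subtype.property _
  have hhB : h ∈ B := hWB _ (hFW (Finset.mem_coe.2 (Finset.mem_insert_self _ _)))
  have hgenB : ∀ r : R, ∃ n : ℕ, h ^ n * r ∈ B := by
    intro r
    have hr : r ∈ Algebra.adjoin k (gens : Set R) := hgens ▸ Algebra.mem_top
    induction hr using Algebra.adjoin_induction with
    | mem z hz => exact ⟨e z, hWB _ (hFW (Finset.mem_coe.2 (Finset.mem_insert_of_mem (Finset.mem_image.2 ⟨z, hz, rfl⟩))))⟩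
    | algebraMap c => exact ⟨0, by rw [pow_zero, one_mul, IsScalarTower.algebraMap_apply k S R]; exact B.algebraMap_mem _⟩
    | add p q _ _ hp hq =>
      obtain ⟨a, ha⟩ := hp
      obtain ⟨a', ha'⟩ := hq
      refine ⟨a + a', ?_⟩
      rw [show h ^ (a + a') * (p + q) = h ^ a' * (h ^ a * p) + h ^ a * (h ^ a' * q) by ring]
      exact add_mem (mul_mem (pow_mem hhB _) ha) (mul_mem (pow_mem hhB _) ha')
    | mul p q _ _ hp hq =>
      obtain ⟨a, ha⟩ := hp
      obtain ⟨a', ha'⟩ := hq
      refine ⟨a + a', ?_⟩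
      rw [show h ^ (a + a') * (p * q) = (h ^ a * p) * (h ^ a' * q) by ring]
      exact mul_mem ha ha'
  have hpowJ : ∃ N : ℕ, (⟨h, hhB⟩ : B) ^ N ∈ J := by
    obtain ⟨s, hs⟩ := (Module.Finite.iff_fg.1 hW₂fin : W₂.FG)
    choose N hN using hgenB
    refine ⟨s.sup N, fun w hw => ?_⟩
    rw [← hs] at hw
    induction hw using Submodule.span_induction with
    | mem w hw =>
      rw [Subalgebra.coe_pow, show s.sup N = (s.sup N - N w) + N w from (Nat.sub_add_cancel (Finset.le_sup hw)).symm,
        pow_add, mul_assoc]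
      exact mul_mem (pow_mem hhB _) (hN w)
    | zero => simp
    | add p q _ _ hp hq => rw [mul_add]; exact add_mem hp hq
    | smul d p _ hp => rw [Algebra.mul_smul_comm]; exact (B.toSubmodule.restrictScalars k).smul_mem d hp
  obtain ⟨N, hN⟩ := hpowJ
  let xB : B →ₐ[k] k := x.comp i
  have hxBy : xB.comp (IsScalarTower.toAlgHom k S B) = x.comp (IsScalarTower.toAlgHom k S R) := AlgHom.ext fun s => rfl
  have hxB : GLin.IsClosedOrbit k A xB := isClosedOrbit_of_image heB (by rw [hxBy]; exact hy)
  obtain ⟨b, hb, hbJ, hxb⟩ := exists_invariant_eq_one hG hJst hxB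
    ⟨_, hN, by
      rw [map_pow]
      exact pow_ne_zero _ fun h0 => hh (RingHom.mem_ker.2 h0)⟩
  have hbR : (b : R) ∈ GLin.invariants k A R := by
    rw [GLin.mem_invariants_iff, show (b : R) = i b from rfl, hci, show c.coact b = b ⊗ₜ[k] (1 : A) from hb]
    rfl
  refine ⟨B, c, hc, inferInstance, inferInstance, hci, heB, b, hbR, hxb, fun r => ?_⟩
  have hr : r ∈ Algebra.adjoin k (gens : Set R) := hgens ▸ Algebra.mem_top
  induction hr using Algebra.adjoin_induction with
  | mem z hz => exact ⟨1, by rw [pow_one]; exact hbJ z (hgW₂ hz)⟩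
  | algebraMap d => exact ⟨0, by rw [pow_zero, one_mul, IsScalarTower.algebraMap_apply k S R]; exact B.algebraMap_mem _⟩
  | add p q _ _ hp hq =>
    obtain ⟨a, ha⟩ := hp
    obtain ⟨a', ha'⟩ := hq
    refine ⟨a + a', ?_⟩
    rw [show (b : R) ^ (a + a') * (p + q) = (b : R) ^ a' * ((b : R) ^ a * p) + (b : R) ^ a * ((b : R) ^ a' * q) by ring]
    exact add_mem (mul_mem (pow_mem b.2 _) ha) (mul_mem (pow_mem b.2 _) ha')
  | mul p q _ _ hp hq =>
    obtain ⟨a, ha⟩ := hp
    obtain ⟨a', ha'⟩ := hq
    refine ⟨a + a', ?_⟩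
    rw [show (b : R) ^ (a + a') * (p * q) = ((b : R) ^ a * p) * ((b : R) ^ a' * q) by ring]
    exact mul_mem ha ha'

end Groth.Agent.Luna34
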