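import Groth.Agent.Luna34.Average

/-!
Formal projection onto the zero locus of an ideal along a complementary field of projectors.
-/

set_option autoImplicit false

universe u

open TensorProduct MvPolynomial

noncomputable section

namespace Groth.Agent.Luna34

variable {k : Type u} [Field k] {ι : Type u} [Fintype ι] [DecidableEq ι]

/-- A splitting is idempotent modulo the ideal. -/
theorem mul_self_sub_mem (I : Ideal (MvPolynomial ι k)) (P : Matrix ι ι (MvPolynomial ι k))
    (h1 : ∀ j, coCol P j ∈ conorm I) (h2 : ∀ f ∈ I, ∀ a, ∑ b, P a b * grad f b ∈ I) (a j : ι) :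
    P a j - ∑ i, P a i * P i j ∈ I := by
  have key : ∀ w ∈ conorm I, ∑ i, P a i * w i ∈ I := by
    intro w hw
    obtain ⟨u, hu, v, hv, rfl⟩ := Submodule.mem_sup.1 hw
    simp only [Pi.add_apply, mul_add, Finset.sum_add_distrib]
    refine add_mem ?_ (sum_mem fun i _ => I.mul_mem_left _ (hv i (Set.mem_univ i)))
    clear hw
    induction hu using Submodule.span_induction with
    | mem x hx => obtain ⟨f, hf, rfl⟩ := hx; exact h2 f hf a
    | zero => simp
    | add x y _ _ hx hy => simpa [mul_add, Finset.sum_add_distrib] using add_mem hx hy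
    | smul r x _ hx =>
      have := I.mul_mem_left r hx
      simp only [Pi.smul_apply, smul_eq_mul, Finset.mul_sum] at this ⊢
      convert this using 2 with i
      ring
  have h := key _ (h1 j)
  simp only [coCol, mul_sub, Finset.sum_sub_distrib, Matrix.one_apply] at h
  simpa using h

/-- Congruent substitutions give congruent values. -/
theorem aeval_sub_mem {T : Type u} [CommRing T] [Algebra k T] (J : Ideal T) {p q : ι → T}
    (h : ∀ i, p i - q i ∈ J) (f : MvPolynomial ι k) : aeval p f - aeval q f ∈ J := by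
  rw [← Ideal.Quotient.eq_zero_iff_mem, map_sub, sub_eq_zero]
  have e : (Ideal.Quotient.mkₐ k J).comp (aeval p) = (Ideal.Quotient.mkₐ k J).comp (aeval q) := by
    refine MvPolynomial.algHom_ext fun i => ?_
    simp only [AlgHom.comp_apply, aeval_X, Ideal.Quotient.mkₐ_eq_mk, Ideal.Quotient.eq]
    exact h i
  exact AlgHom.congr_fun e f

theorem exists_newton (y : MvPolynomial ι k →ₐ[k] k) (I : Ideal (MvPolynomial ι k)) (hIy : ∀ f ∈ I, y f = 0)
    (ν : ι → MvPolynomial ι k) (hν : ∀ j, ν j ∈ I) (hret : ∀ f ∈ I, f - ∑ j, pderiv j f * ν j ∈ I ^ 2)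
    (P : Matrix ι ι (MvPolynomial ι k)) (h1 : ∀ j, coCol P j ∈ conorm I)
    (h2 : ∀ f ∈ I, ∀ a, ∑ b, P a b * grad f b ∈ I) (n : ℕ) :
    ∃ p : ι → MvPolynomial ι k, (∀ i, p i - C (y (X i)) ∈ RingHom.ker y) ∧
      (∀ f ∈ I, aeval p f ∈ RingHom.ker y ^ (n + 1)) ∧
      ∀ j, ∑ i, aeval p (P i j) * (X i - p i) ∈ RingHom.ker y ^ (n + 1) := by
  let m : Ideal (MvPolynomial ι k) := RingHom.ker y
  have hC : ∀ a : k, y (C a) = a := fun a => y.commutes a
  induction n with
  | zero =>
    refine ⟨fun i => C (y (X i)), fun i => by simp, fun f hf => ?_, fun j => sum_mem fun i _ => ?_⟩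
    · have h : aeval (fun i => C (y (X i))) f = (C (y f) : MvPolynomial ι k) := by
        have e : (aeval fun i => (C (y (X i)) : MvPolynomial ι k)) = (Algebra.ofId k (MvPolynomial ι k)).comp y :=
          MvPolynomial.algHom_ext fun i => by simp [Algebra.ofId_apply]
        rw [e]; rfl
      rw [h, hIy f hf, C_0]
      exact Ideal.zero_mem _
    · rw [pow_one]
      refine Ideal.mul_mem_left _ _ (RingHom.mem_ker.2 ?_)
      rw [map_sub, hC, sub_self]
  | succ n ih =>
    obtain ⟨p, hp0, hpI, hpE⟩ := ih
    have hpow : m ^ (n + 1) ≤ m := Ideal.pow_le_self (Nat.succ_ne_zero n)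
    have hsq : (m ^ (n + 1)) ^ 2 ≤ m ^ (n + 2) := by
      rw [← pow_mul]; exact Ideal.pow_le_pow_right (by omega)
    have hmul : ∀ a ∈ m ^ (n + 1), ∀ b ∈ m, a * b ∈ m ^ (n + 2) := fun a ha b hb => by
      rw [pow_succ m (n + 1)]; exact Ideal.mul_mem_mul ha hb
    let e : ι → MvPolynomial ι k := fun i => -aeval p (ν i)
    have he : ∀ i, e i ∈ m ^ (n + 1) := fun i => (m ^ (n + 1)).neg_mem (hpI _ (hν i))
    let q : ι → MvPolynomial ι k := p + e
    have hqI : ∀ f ∈ I, aeval q f ∈ m ^ (n + 2) := by
      intro f hf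
      have ht := hsq (aeval_add_sub_mem (m ^ (n + 1)) p e he f)
      have h : aeval p f + ∑ i, aeval p (pderiv i f) * e i ∈ m ^ (n + 2) := by
        have hh : aeval p (f - ∑ j, pderiv j f * ν j) ∈ m ^ (n + 2) := by
          refine hsq ?_
          have hle : (I ^ 2).map (aeval p) ≤ (m ^ (n + 1)) ^ 2 := by
            rw [Ideal.map_pow]
            exact Ideal.pow_right_mono (Ideal.map_le_iff_le_comap.2 hpI) 2
          exact hle (Ideal.mem_map_of_mem _ (hret f hf))
        simpa [e, map_sub, map_sum, map_mul, Finset.sum_neg_distrib, ← sub_eq_add_neg] using hh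
      have := add_mem ht h
      rwa [sub_add_cancel] at this
    have hqp : ∀ i, q i - p i ∈ m ^ (n + 1) := fun i => by simpa [q] using he i
    let δ : ι → MvPolynomial ι k := fun j => ∑ i, aeval q (P i j) * (X i - q i)
    have hδ : ∀ j, δ j ∈ m ^ (n + 1) := by
      intro j
      have h : δ j - ∑ i, aeval p (P i j) * (X i - p i) ∈ m ^ (n + 1) := by
        rw [← Finset.sum_sub_distrib]
        refine sum_mem fun i _ => ?_
        rw [show aeval q (P i j) * (X i - q i) - aeval p (P i j) * (X i - p i) =
          (aeval q (P i j) - aeval p (P i j)) * (X i - q i) - aeval p (P i j) * (q i - p i) by ring]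
        exact sub_mem (Ideal.mul_mem_right _ _ (aeval_sub_mem _ hqp _)) (Ideal.mul_mem_left _ _ (hqp i))
      have := add_mem h (hpE j)
      rwa [sub_add_cancel] at this
    refine ⟨q + δ, fun i => ?_, fun f hf => ?_, fun j => ?_⟩
    · have h := add_mem (add_mem (hp0 i) (hpow (he i))) (hpow (hδ i))
      convert h using 1
      simp only [q, Pi.add_apply]
      ring
    · have ht := hsq (aeval_add_sub_mem (m ^ (n + 1)) q δ hδ f)
      have h : aeval q f + ∑ i, aeval q (pderiv i f) * δ i ∈ m ^ (n + 2) := by
        refine add_mem (hqI f hf) ?_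
        have hh : ∑ i, aeval q (pderiv i f) * δ i = ∑ a, aeval q (∑ i, P a i * grad f i) * (X a - q a) := by
          simp only [δ, map_sum, map_mul, Finset.mul_sum, Finset.sum_mul, grad]
          rw [Finset.sum_comm]
          exact Finset.sum_congr rfl fun a _ => Finset.sum_congr rfl fun i _ => by ring
        rw [hh]
        exact sum_mem fun a _ => Ideal.mul_mem_right _ _ (hqI _ (h2 f hf a))
      have := add_mem ht h
      rwa [sub_add_cancel] at this
    · have hi : ∀ i, X i - (q + δ) i ∈ m := by
        intro i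
        have h0 : X i - p i ∈ m := by
          have h' : (X i : MvPolynomial ι k) - C (y (X i)) ∈ m := RingHom.mem_ker.2 (by rw [map_sub, hC, sub_self])
          simpa using sub_mem h' (hp0 i)
        have h := sub_mem h0 (add_mem (hpow (he i)) (hpow (hδ i)))
        convert h using 1
        simp only [q, Pi.add_apply]
        ring
      have hA : ∑ i, (aeval (q + δ) (P i j) - aeval q (P i j)) * (X i - (q + δ) i) ∈ m ^ (n + 2) :=
        sum_mem fun i _ => hmul _ (aeval_sub_mem _ (fun l => by simpa using hδ l) _) _ (hi i)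
      have hB : ∑ a, aeval q (P a j - ∑ i, P a i * P i j) * (X a - q a) ∈ m ^ (n + 2) :=
        sum_mem fun a _ => Ideal.mul_mem_right _ _ (hqI _ (mul_self_sub_mem I P h1 h2 a j))
      have hC' : ∑ a, aeval q (P a j - ∑ i, P a i * P i j) * (X a - q a) = δ j - ∑ i, δ i * aeval q (P i j) := by
        simp only [map_sub, map_sum, map_mul, sub_mul, Finset.sum_sub_distrib, δ, Finset.sum_mul]
        congr 1
        rw [Finset.sum_comm]
        exact Finset.sum_congr rfl fun a _ => Finset.sum_congr rfl fun i _ => by ring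
      have h := add_mem hA hB
      rw [hC'] at h
      convert h using 1
      simp only [δ, Pi.add_apply, sub_mul, mul_sub, Finset.sum_sub_distrib, mul_add, Finset.sum_add_distrib]
      simp only [mul_comm (∑ x, _)]
      ring

end Groth.Agent.Luna34
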