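import Groth.Agent.Luna34.Poly
import Mathlib.RingTheory.Smooth.Field
import Mathlib.RingTheory.Smooth.Locus
import Mathlib.RingTheory.Localization.FractionRing

/-!
Closed orbits are smooth; first-order retractions onto them.
-/

set_option autoImplicit false

universe u

open TensorProduct MvPolynomial

noncomputable section

namespace Groth.Agent.Luna34

open Groth.Agent.Hopf35.Stable Groth.Agent.LinRed34
open Groth.Agent.FinGrp34.OrbitMap (actHom actHom_apply actHom_bijective)

variable {k : Type u} [Field k] [IsAlgClosed k] [CharZero k]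
variable {A : Type u} [CommRing A] [IsDomain A] [HopfAlgebra k A] [Algebra.FiniteType k A]

theorem isSmoothAt_bot {C : Type u} [CommRing C] [IsDomain C] [Algebra k C] [Algebra.FiniteType k C] :
    Algebra.IsSmoothAt k (⊥ : Ideal C) := by
  let K := FractionRing C
  haveI : Algebra.EssFiniteType C K := Algebra.EssFiniteType.of_isLocalization K (nonZeroDivisors C)
  haveI : Algebra.EssFiniteType k K := Algebra.EssFiniteType.comp k C K
  haveI : Algebra.FormallySmooth k K := inferInstance
  haveI : IsFractionRing C (Localization.AtPrime (⊥ : Ideal C)) := by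
    have h : (⊥ : Ideal C).primeCompl = nonZeroDivisors C := by
      ext a
      simp [Ideal.primeCompl, mem_nonZeroDivisors_iff_ne_zero]
    show IsLocalization (nonZeroDivisors C) _
    rw [← h]
    infer_instance
  exact Algebra.FormallySmooth.of_equiv
    ((IsLocalization.algEquiv (nonZeroDivisors C) K (Localization.AtPrime (⊥ : Ideal C))).restrictScalars k)

variable {R : Type u} [CommRing R] [Algebra k R] [Algebra.FiniteType k R] [HopfRep.Comod k A R] [GLin.IsCoactAlg k A R]

local notation "φ_" => GLin.orbitHom k A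

theorem formallySmooth_orbit (y : R →ₐ[k] k) (hy : GLin.IsClosedOrbit k A y) :
    Algebra.FormallySmooth k (R ⧸ RingHom.ker (φ_ y)) := by
  let I : Ideal R := RingHom.ker (φ_ y)
  haveI : I.IsPrime := RingHom.ker_isPrime _
  let C := R ⧸ I
  haveI : Algebra.FiniteType k C := Algebra.FiniteType.of_surjective (Ideal.Quotient.mkₐ k I) (Ideal.Quotient.mkₐ_surjective k I)
  haveI : Algebra.FinitePresentation k C := Algebra.FinitePresentation.of_finiteType.1 inferInstance
  -- translations
  let τ : (A →ₐ[k] k) → (C →ₐ[k] C) := fun g => Ideal.Quotient.liftₐ I ((Ideal.Quotient.mkₐ k I).comp (actHom A R g))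
    fun a ha => Ideal.Quotient.eq_zero_iff_mem.2 (FinGrp34.OrbitMap.ker_comap_actHom g y ha)
  have hτmk : ∀ g r, τ g (Ideal.Quotient.mk I r) = Ideal.Quotient.mk I (actHom A R g r) := fun g r => rfl
  have hτ : ∀ g, Function.Bijective (τ g) := by
    intro g
    refine ⟨?_, fun c => ?_⟩
    · refine (injective_iff_map_eq_zero _).2 fun c hc => ?_
      obtain ⟨r, rfl⟩ := Ideal.Quotient.mk_surjective c
      rw [hτmk, Ideal.Quotient.eq_zero_iff_mem] at hc
      rw [Ideal.Quotient.eq_zero_iff_mem]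
      have h := FinGrp34.OrbitMap.ker_comap_actHom ((WithConv.toConv g)⁻¹).ofConv y hc
      rw [Ideal.mem_comap] at h
      rwa [show actHom A R ((WithConv.toConv g)⁻¹).ofConv (actHom A R g r) = r by
        rw [actHom_apply, actHom_apply, ← Module.End.mul_apply,
          show HopfRep.Comod.act k A R g = HopfRep.Comod.act k A R (WithConv.toConv g).ofConv from rfl,
          ← Comod33.act_mul, inv_mul_cancel, Comod33.act_one, Module.End.one_apply]] at h
    · obtain ⟨r, rfl⟩ := Ideal.Quotient.mk_surjective c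
      obtain ⟨r', rfl⟩ := (actHom_bijective (A := A) (R := R) g).2 r
      exact ⟨Ideal.Quotient.mk I r', hτmk g r'⟩
  obtain ⟨_, ⟨_, ⟨f, rfl⟩, rfl⟩, hf, hsub⟩ := PrimeSpectrum.isBasis_basic_opens.exists_subset_of_mem_open
    (show (⟨⊥, Ideal.isPrime_bot⟩ : PrimeSpectrum C) ∈ Algebra.smoothLocus k C from isSmoothAt_bot (C := C))
    Algebra.isOpen_smoothLocus
  rw [← Algebra.smoothLocus_eq_univ_iff]
  refine Set.eq_univ_iff_forall.2 fun P => ?_
  by_contra hP
  have hcl : IsClosed (Algebra.smoothLocus k C)ᶜ := Algebra.isOpen_smoothLocus.isClosed_compl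
  obtain ⟨M, hM, hPM⟩ := Ideal.exists_le_maximal P.asIdeal P.2.ne_top
  have hMP : (⟨M, hM.isPrime⟩ : PrimeSpectrum C) ∈ (Algebra.smoothLocus k C)ᶜ := by
    have h : P ⤳ (⟨M, hM.isPrime⟩ : PrimeSpectrum C) := (PrimeSpectrum.le_iff_specializes _ _).1 hPM
    exact h.mem_closed hcl hP
  -- the point of `M` and a point where `f` does not vanish
  obtain ⟨z, hz⟩ := LinRed34.exists_point (k := k) M hM.ne_top
  obtain ⟨g₁, hg₁⟩ : InOrbit k A y (z.comp (Ideal.Quotient.mkₐ k I)) := isClosedOrbit_iff.1 hy _ fun a ha => by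
    show z (Ideal.Quotient.mk I a) = 0
    rw [Ideal.Quotient.eq_zero_iff_mem.2 ha, map_zero]
  obtain ⟨r, rfl⟩ := Ideal.Quotient.mk_surjective f
  have hrI : r ∉ I := fun h => hf (by
    show Ideal.Quotient.mk I r ∈ (⊥ : Ideal C)
    rw [Ideal.Quotient.eq_zero_iff_mem.2 h]; exact Submodule.zero_mem _)
  obtain ⟨g₂, hg₂⟩ : ∃ g : A →ₐ[k] k, y (HopfRep.Comod.act k A R g r) ≠ 0 := by
    by_contra hc
    push Not at hc
    exact hrI (mem_ker_orbitHom_iff.2 hc)
  rw [← actPt_apply] at hg₂
  let h : A →ₐ[k] k := ((WithConv.toConv g₁)⁻¹ * WithConv.toConv g₂).ofConv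
  let e : C ≃ₐ[k] C := AlgEquiv.ofBijective (τ h) (hτ h)
  have hgg : GLin.actPt k h (GLin.actPt k g₁ y) = GLin.actPt k g₂ y := by
    have h5 := actPt_actPt (WithConv.toConv g₁) ((WithConv.toConv g₁)⁻¹ * WithConv.toConv g₂) y
    rw [mul_inv_cancel_left] at h5
    exact h5
  have hn : Ideal.Quotient.mk I r ∉ M.comap e.toAlgHom.toRingHom := fun hmem => hg₂ (by
    have h1 : z (τ h (Ideal.Quotient.mk I r)) = 0 := hz _ hmem
    rw [hτmk] at h1
    rw [← hgg, hg₁, ← point_actHom]
    exact h1)
  have hsm : Algebra.IsSmoothAt k (M.comap e.toAlgHom.toRingHom) :=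
    hsub (show (⟨_, Ideal.comap_isPrime _ M⟩ : PrimeSpectrum C) ∈ PrimeSpectrum.basicOpen _ from hn)
  haveI := hM.isPrime
  exact hMP (Algebra.FormallySmooth.of_equiv
    (Localization.localAlgEquiv (M.comap e.toAlgHom.toRingHom) M e rfl) (A := Localization.AtPrime (M.comap e.toAlgHom.toRingHom)))

/-- First-order retraction onto a closed orbit in a polynomial ring. -/
theorem exists_retraction {ι : Type u} [Fintype ι] [HopfRep.Comod k A (MvPolynomial ι k)]
    [GLin.IsCoactAlg k A (MvPolynomial ι k)] (y : MvPolynomial ι k →ₐ[k] k) (hy : GLin.IsClosedOrbit k A y) :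
    ∃ ν : ι → MvPolynomial ι k, (∀ j, ν j ∈ RingHom.ker (φ_ y)) ∧
      ∀ g ∈ RingHom.ker (φ_ y), g - ∑ j, pderiv j g * ν j ∈ RingHom.ker (φ_ y) ^ 2 := by
  let I : Ideal (MvPolynomial ι k) := RingHom.ker (φ_ y)
  haveI := formallySmooth_orbit y hy
  let π : MvPolynomial ι k ⧸ I ^ 2 →ₐ[k] MvPolynomial ι k ⧸ I :=
    Ideal.Quotient.factorₐ k (show I ^ 2 ≤ I from Ideal.pow_le_self two_ne_zero)
  have hπ : Function.Surjective π := Ideal.Quotient.factor_surjective (show I ^ 2 ≤ I from Ideal.pow_le_self two_ne_zero)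
  have hnil : IsNilpotent (RingHom.ker π.toRingHom) := ⟨2, by
    rw [show RingHom.ker π.toRingHom = I.map (Ideal.Quotient.mk (I ^ 2)) from Ideal.Quotient.factor_ker (show I ^ 2 ≤ I from Ideal.pow_le_self two_ne_zero),
      ← Ideal.map_pow, Ideal.map_quotient_self, Ideal.zero_eq_bot]⟩
  let σ := Algebra.FormallySmooth.liftOfSurjective (AlgHom.id k (MvPolynomial ι k ⧸ I)) π hπ hnil
  have hσ : ∀ c, π (σ c) = c := fun c => Algebra.FormallySmooth.liftOfSurjective_apply _ _ hπ hnil c
  choose q hq using fun j : ι => Ideal.Quotient.mk_surjective (σ (Ideal.Quotient.mk I (X j)))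
  refine ⟨fun j => X j - q j, fun j => ?_, fun g hg => ?_⟩
  · rw [← Ideal.Quotient.eq]
    have h := hσ (Ideal.Quotient.mk I (X j))
    rw [← hq j] at h
    exact h.symm
  · have hν : ∀ j, X j - q j ∈ I := fun j => by
      rw [← Ideal.Quotient.eq]
      have h := hσ (Ideal.Quotient.mk I (X j))
      rw [← hq j] at h
      exact h.symm
    have hcomp : σ.comp (Ideal.Quotient.mkₐ k I) = (Ideal.Quotient.mkₐ k (I ^ 2)).comp (aeval q) :=
      MvPolynomial.algHom_ext fun j => by
        simp only [AlgHom.comp_apply, aeval_X, Ideal.Quotient.mkₐ_eq_mk]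
        exact (hq j).symm
    have h0 : aeval q g ∈ I ^ 2 := by
      rw [← Ideal.Quotient.eq_zero_iff_mem]
      have h := (AlgHom.congr_fun hcomp g).symm
      simp only [AlgHom.comp_apply, Ideal.Quotient.mkₐ_eq_mk] at h
      rw [h, Ideal.Quotient.eq_zero_iff_mem.2 hg, map_zero]
    have h1 := aeval_add_sub_mem I (X : ι → MvPolynomial ι k) (fun j => -(X j - q j)) (fun j => I.neg_mem (hν j)) g
    rw [show ((X : ι → MvPolynomial ι k) + fun j => -(X j - q j)) = q from funext fun j => by simp [Pi.add_apply]] at h1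
    simp only [aeval_X_left_apply, mul_neg, Finset.sum_neg_distrib, ← sub_eq_add_neg] at h1
    have h2 := sub_mem h0 h1
    rwa [sub_sub_cancel] at h2

end Groth.Agent.Luna34
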