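import Groth.Agent.LinRed34.Points
import Groth.Agent.LinRed34.Conductor
import Groth.Agent.LinRed34.OrbitChar
import Groth.Agent.FinGrp34.OrbitMap
import Groth.Agent.FinGrp34.PolyComod

/-!
Point-level tools: stable ideals, separation of closed orbits by invariants.
-/

set_option autoImplicit false

universe u

open TensorProduct

noncomputable section

namespace Groth.Agent.Luna34

open Groth.Agent.Hopf35.Stable Groth.Agent.LinRed34
open Groth.Agent.FinGrp34.OrbitMap (actHom actHom_apply actHom_bijective)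

variable {k : Type u} [Field k] {A : Type u} [CommRing A] [HopfAlgebra k A]
variable {R : Type u} [CommRing R] [Algebra k R] [HopfRep.Comod k A R] [GLin.IsCoactAlg k A R]

local notation "φ_" => GLin.orbitHom k A
local notation "ρ" => HopfRep.Comod.coact (k := k) (A := A)

theorem point_actHom (g : A →ₐ[k] k) (x : R →ₐ[k] k) (f : R) :
    x (actHom A R g f) = GLin.actPt k g x f := by
  rw [actHom_apply, actPt_apply]

theorem point_comp_actHom (g : A →ₐ[k] k) (x : R →ₐ[k] k) :
    x.comp (actHom A R g) = GLin.actPt k g x :=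
  AlgHom.ext (point_actHom g x)

theorem actHom_invariant (g : A →ₐ[k] k) {f : R} (hf : f ∈ GLin.invariants k A R) :
    actHom A R g f = f := by
  show (Algebra.TensorProduct.rid k k R) (Algebra.TensorProduct.map (AlgHom.id k R) g (ρ f)) = f
  rw [(GLin.mem_invariants_iff k A R f).1 hf]
  simp

theorem actPt_invariant (g : A →ₐ[k] k) (x : R →ₐ[k] k) {f : R} (hf : f ∈ GLin.invariants k A R) :
    GLin.actPt k g x f = x f := by
  rw [← point_actHom, actHom_invariant g hf]

/-- Inverse operator. -/
theorem actHom_inv (g : A →ₐ[k] k) (f : R) :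
    actHom A R g (actHom A R ((WithConv.toConv g)⁻¹).ofConv f) = f := by
  rw [actHom_apply, actHom_apply, ← Module.End.mul_apply,
    show HopfRep.Comod.act k A R g = HopfRep.Comod.act k A R (WithConv.toConv g).ofConv from rfl,
    ← Comod33.act_mul, mul_inv_cancel, Comod33.act_one, Module.End.one_apply]

variable [IsAlgClosed k] [Algebra.FiniteType k A] [IsReduced A]

theorem stable_of_isSubcomod {I : Ideal R} (hI : HopfRep.IsSubcomod (k := k) (A := A) (I.restrictScalars k))
    (g : A →ₐ[k] k) {r : R} (hr : r ∈ I) : actHom A R g r ∈ I := by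
  rw [actHom_apply, Comod33.act_eq_dact]
  exact (Comod33.isSubcomod_iff _).1 hI _ _ hr

theorem isSubcomod_ideal {I : Ideal R} (h : ∀ g : A →ₐ[k] k, ∀ r ∈ I, actHom A R g r ∈ I) :
    HopfRep.IsSubcomod (k := k) (A := A) (I.restrictScalars k) :=
  FinGrp34.PolyComod.isSubcomod_of_stable h

theorem isSubcomod_subalgebra {C : Subalgebra k R} (h : ∀ g : A →ₐ[k] k, ∀ r ∈ C, actHom A R g r ∈ C) :
    HopfRep.IsSubcomod (k := k) (A := A) (Subalgebra.toSubmodule C) :=
  FinGrp34.PolyComod.isSubcomod_of_stable h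

variable [Algebra.FiniteType k R]

/-- An invariant function in a stable ideal, equal to one on a closed orbit. -/
theorem exists_invariant_eq_one (hG : HopfRep.IsLinearlyReductive k A) {I : Ideal R}
    (hI : ∀ g : A →ₐ[k] k, ∀ r ∈ I, actHom A R g r ∈ I) {x : R →ₐ[k] k} (hx : GLin.IsClosedOrbit k A x)
    (h : ∃ a ∈ I, x a ≠ 0) : ∃ f ∈ GLin.invariants k A R, f ∈ I ∧ x f = 1 := by
  have htop : I ⊔ RingHom.ker (φ_ x) = ⊤ := by
    by_contra hne
    obtain ⟨z, hz⟩ := LinRed34.exists_point (k := k) _ hne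
    obtain ⟨g, rfl⟩ := isClosedOrbit_iff.1 hx z fun f hf => hz f (Ideal.mem_sup_right hf)
    obtain ⟨a, ha, hxa⟩ := h
    refine hxa ?_
    have h1 := hz _ (Ideal.mem_sup_left (hI ((WithConv.toConv g)⁻¹).ofConv a ha))
    rwa [← point_actHom, actHom_inv] at h1
  obtain ⟨a, ha, b, hb, hab⟩ := Submodule.mem_sup.1 ((Ideal.eq_top_iff_one _).1 htop)
  have hker : RingHom.ker (φ_ x) ≤ RingHom.ker x := fun f hf =>
    RingHom.mem_ker.2 (by rw [← counit_orbitHom (A := A) x f, RingHom.mem_ker.1 hf, map_zero])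
  have ha' : rey k A R hG a ∈ I := rey_mem_of_isSubcomod hG (isSubcomod_ideal hI) ha
  have hb' : x (rey k A R hG b) = 0 := hker (rey_mem_of_isSubcomod hG (isSubcomod_ker_orbitHom x) hb)
  refine ⟨rey k A R hG a, rey_mem hG a, ha', ?_⟩
  have h1 : rey k A R hG (1 : R) = 1 := rey_of_fixed hG (show (1 : R) ∈ GLin.invariants k A R from one_mem _)
  have h2 : x (rey k A R hG (a + b)) = 1 := by rw [hab, h1, map_one]
  rwa [map_add, map_add, hb', add_zero] at h2

theorem inOrbitClosure_of_act {x z : R →ₐ[k] k}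
    (h : ∀ f : R, (∀ g : A →ₐ[k] k, x (HopfRep.Comod.act k A R g f) = 0) → z f = 0) :
    GLin.InOrbitClosure k A x z := inOrbitClosure_iff.2 h

/-- A closed orbit is in every orbit closure with the same invariants. -/
theorem inOrbitClosure_of_eq_invariants (hG : HopfRep.IsLinearlyReductive k A) {x z : R →ₐ[k] k}
    (hz : GLin.IsClosedOrbit k A z) (h : ∀ f ∈ GLin.invariants k A R, x f = z f) :
    GLin.InOrbitClosure k A x z := by
  obtain ⟨w, hw1, hw2⟩ := (forall_invariants_eq_iff hG x z).1 h
  have hzw := isClosedOrbit_iff.1 hz w (inOrbitClosure_iff.2 hw2)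
  exact fun f hf => hzw.symm.inOrbitClosure (ker_le_of_inOrbitClosure (inOrbitClosure_iff.2 hw1) hf)

/-- Closed orbits are separated by invariants. -/
theorem inOrbit_of_eq_invariants (hG : HopfRep.IsLinearlyReductive k A) {x z : R →ₐ[k] k}
    (hx : GLin.IsClosedOrbit k A x) (hz : GLin.IsClosedOrbit k A z)
    (h : ∀ f ∈ GLin.invariants k A R, x f = z f) : InOrbit k A x z :=
  isClosedOrbit_iff.1 hx z (inOrbitClosure_of_eq_invariants hG hz h)

theorem eq_invariants_of_inOrbitClosure {x z : R →ₐ[k] k} (h : GLin.InOrbitClosure k A x z)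
    {f : R} (hf : f ∈ GLin.invariants k A R) : z f = x f := by
  have h1 : f - algebraMap k R (x f) ∈ RingHom.ker (φ_ x) := by
    rw [RingHom.mem_ker, map_sub, orbitHom_invariant x hf, AlgHom.commutes, sub_self]
  simpa [sub_eq_zero] using h h1

end Groth.Agent.Luna34
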