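import Groth.Agent.Luna34.Points
import Groth.Agent.Comod33.MatrixRep
import Groth.Prelude.Def_ComodTens
import Mathlib.Algebra.MvPolynomial.PDeriv
import Mathlib.LinearAlgebra.Dual.Lemmas

/-!
First-order calculus on the polynomial ring of a representation; quotient coactions.
-/

set_option autoImplicit false

universe u

open TensorProduct MvPolynomial

noncomputable section

namespace Groth.Agent.Luna34

open Groth.Agent.Hopf35.Stable Groth.Agent.LinRed34
open Groth.Agent.FinGrp34.OrbitMap (actHom actHom_apply actHom_bijective)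

section Taylor

variable {k : Type u} [CommRing k] {ι : Type u} [Fintype ι] {T : Type u} [CommRing T] [Algebra k T]

/-- First-order expansion. -/
theorem aeval_add_sub_mem (J : Ideal T) (p δ : ι → T) (hδ : ∀ i, δ i ∈ J) (g : MvPolynomial ι k) :
    aeval (p + δ) g - (aeval p g + ∑ i, aeval p (pderiv i g) * δ i) ∈ J ^ 2 := by
  classical
  induction g using MvPolynomial.induction_on with
  | C a => simp
  | add f f' hf hf' =>
    have h := add_mem hf hf'
    convert h using 1
    simp only [map_add, add_mul, Finset.sum_add_distrib]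
    ring
  | mul_X f j hf =>
    have hs : ∑ i, aeval p (pderiv i (f * X j)) * δ i = (∑ i, aeval p (pderiv i f) * δ i) * p j + aeval p f * δ j := by
      have h1 : ∀ i, aeval p (pderiv i (f * X j)) * δ i =
          aeval p (pderiv i f) * δ i * p j + (if i = j then aeval p f * δ i else 0) := by
        intro i
        rw [pderiv_mul, pderiv_X]
        by_cases h : i = j
        · subst h
          simp only [Pi.single_eq_same, mul_one, map_add, map_mul, aeval_X, if_true]
          ring
        · rw [Pi.single_eq_of_ne (Ne.symm h), mul_zero, add_zero, map_mul, aeval_X, if_neg h, add_zero]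
          ring
      simp only [h1, Finset.sum_add_distrib, Finset.sum_mul]
      simp
    have hsum : ∑ i, aeval p (pderiv i f) * δ i ∈ J := sum_mem fun i _ => J.mul_mem_left _ (hδ i)
    rw [map_mul, map_mul, aeval_X, aeval_X, hs]
    have h2 : aeval (p + δ) f * (p + δ) j - (aeval p f * p j + ((∑ i, aeval p (pderiv i f) * δ i) * p j + aeval p f * δ j)) =
        (aeval (p + δ) f - (aeval p f + ∑ i, aeval p (pderiv i f) * δ i)) * (p + δ) j +
          (∑ i, aeval p (pderiv i f) * δ i) * δ j := by
      simp only [Pi.add_apply]; ring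
    rw [h2, pow_two] at *
    exact add_mem (Ideal.mul_mem_right _ _ hf) (Ideal.mul_mem_mul hsum (hδ j))

omit [Fintype ι] in
/-- The ideal generated by the linear forms at a point contains every function vanishing there. -/
theorem sub_C_eval_mem (x : MvPolynomial ι k →ₐ[k] k) (I : Ideal (MvPolynomial ι k))
    (h : ∀ i, X i - C (x (X i)) ∈ I) (g : MvPolynomial ι k) : g - C (x g) ∈ I := by
  induction g using MvPolynomial.induction_on with
  | C a => rw [show x (C a) = a from x.commutes a, sub_self]; exact I.zero_mem
  | add f f' hf hf' =>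
    rw [map_add, C_add, show f + f' - (C (x f) + C (x f')) = (f - C (x f)) + (f' - C (x f')) by ring]
    exact add_mem hf hf'
  | mul_X f j hf =>
    rw [map_mul, C_mul, show f * X j - C (x f) * C (x (X j)) = (f - C (x f)) * X j + C (x f) * (X j - C (x (X j))) by ring]
    exact add_mem (I.mul_mem_right _ hf) (I.mul_mem_left _ (h j))

omit [Fintype ι] in
/-- Derivatives map the square of an ideal into the ideal. -/
theorem pderiv_mem_of_mem_sq (i : ι) {I : Ideal (MvPolynomial ι k)} {g : MvPolynomial ι k} (hg : g ∈ I ^ 2) :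
    pderiv i g ∈ I := by
  rw [pow_two] at hg
  refine Submodule.mul_induction_on hg (fun a ha b hb => ?_) fun a b ha hb => ?_
  · rw [pderiv_mul]
    exact add_mem (I.mul_mem_left _ hb) (I.mul_mem_right _ ha)
  · rw [map_add]; exact add_mem ha hb

end Taylor

variable {k : Type u} [Field k] {A : Type u} [CommRing A] [HopfAlgebra k A]

section Chain

variable {ι : Type u} [Fintype ι] [DecidableEq ι] {c : ι → ι → A}
variable [HopfRep.Comod k A (MvPolynomial ι k)] [GLin.IsCoactAlg k A (MvPolynomial ι k)]

theorem actHom_X (hX : ∀ j, HopfRep.Comod.coact (k := k) (A := A) (X j : MvPolynomial ι k) = ∑ i, X i ⊗ₜ[k] c i j)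
    (g : A →ₐ[k] k) (j : ι) : actHom A (MvPolynomial ι k) g (X j) = ∑ i, C (g (c i j)) * X i := by
  show (Algebra.TensorProduct.rid k k _) (Algebra.TensorProduct.map (AlgHom.id k _) g
    (HopfRep.Comod.coact (k := k) (A := A) (X j : MvPolynomial ι k))) = _
  rw [hX]
  simp [MvPolynomial.smul_eq_C_mul]

/-- The chain rule for a linear substitution. -/
theorem pderiv_actHom (hX : ∀ j, HopfRep.Comod.coact (k := k) (A := A) (X j : MvPolynomial ι k) = ∑ i, X i ⊗ₜ[k] c i j)
    (g : A →ₐ[k] k) (i : ι) (f : MvPolynomial ι k) :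
    pderiv i (actHom A _ g f) = ∑ j, C (g (c i j)) * actHom A _ g (pderiv j f) := by
  induction f using MvPolynomial.induction_on with
  | C a =>
    have h1 : actHom A (MvPolynomial ι k) g (C a) = C a := (actHom A _ g).commutes a
    simp [h1]
  | add f f' hf hf' => simp only [map_add, hf, hf', mul_add, Finset.sum_add_distrib]
  | mul_X f j hf =>
    have hj : pderiv i (actHom A _ g (X j)) = C (g (c i j)) := by
      rw [actHom_X hX, map_sum]
      simp [pderiv_X, Pi.single_apply, Finset.sum_ite_eq', eq_comm]
    have h1 : ∀ b, C (g (c i b)) * actHom A _ g (pderiv b (f * X j)) =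
        C (g (c i b)) * actHom A _ g (pderiv b f) * actHom A _ g (X j) +
          (if b = j then C (g (c i b)) * actHom A _ g f else 0) := by
      intro b
      rw [pderiv_mul, pderiv_X]
      by_cases h : b = j
      · subst h
        simp only [Pi.single_eq_same, mul_one, map_add, map_mul, if_true]
        ring
      · rw [Pi.single_eq_of_ne (Ne.symm h), mul_zero, add_zero, map_mul, if_neg h, add_zero]
        ring
    simp only [h1, Finset.sum_add_distrib, ← Finset.sum_mul]
    rw [map_mul, pderiv_mul, hf, hj]
    simp [mul_comm]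

end Chain

section Rc

variable [IsAlgClosed k] [Algebra.FiniteType k A] [IsReduced A]

omit [IsAlgClosed k] [Algebra.FiniteType k A] [IsReduced A] in
theorem rc_map {V W : Type u} [AddCommGroup V] [Module k V] [AddCommGroup W] [Module k W] (f : V →ₗ[k] W)
    (φ : A →ₗ[k] k) (z : V ⊗[k] A) : Comod33.rc φ (f.rTensor A z) = f (Comod33.rc φ z) := by
  induction z with
  | zero => simp
  | tmul v a => simp
  | add p q hp hq => simp only [map_add, hp, hq]

/-- A condition holding at every point holds after any linear functional. -/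
theorem rc_mem_of_points {V : Type u} [AddCommGroup V] [Module k V] (U : Submodule k V) (z : V ⊗[k] A)
    (h : ∀ g : A →ₐ[k] k, Comod33.rc g.toLinearMap z ∈ U) (φ : A →ₗ[k] k) : Comod33.rc φ z ∈ U := by
  rw [← Submodule.Quotient.mk_eq_zero U]
  refine (Module.forall_dual_apply_eq_zero_iff k _).1 fun ℓ => ?_
  let m : V →ₗ[k] k := ℓ ∘ₗ U.mkQ
  let a : A := TensorProduct.lid k A (m.rTensor A z)
  have key : ∀ ψ : A →ₗ[k] k, m (Comod33.rc ψ z) = ψ a := by
    intro ψ
    simp only [a]
    clear h
    induction z with
    | zero => simp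
    | tmul v b => simp [mul_comm]
    | add p q hp hq => simp only [map_add, hp, hq]
  have ha : a = 0 := eq_zero_of_points (k := k) fun g => by
    show g.toLinearMap a = 0
    rw [← key]
    show ℓ (U.mkQ _) = 0
    rw [Submodule.mkQ_apply, (Submodule.Quotient.mk_eq_zero U).2 (h g), map_zero]
  show m (Comod33.rc φ z) = 0
  rw [key, ha, map_zero]

theorem eq_of_points {V : Type u} [AddCommGroup V] [Module k V] {z z' : V ⊗[k] A}
    (h : ∀ g : A →ₐ[k] k, Comod33.rc g.toLinearMap z = Comod33.rc g.toLinearMap z') (φ : A →ₗ[k] k) :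
    Comod33.rc φ z = Comod33.rc φ z' := by
  have := rc_mem_of_points ⊥ (z - z') (fun g => by rw [map_sub, h g, sub_self]; exact Submodule.zero_mem _) φ
  rwa [map_sub, Submodule.mem_bot, sub_eq_zero] at this

end Rc

section Quot

variable {R : Type u} [CommRing R] [Algebra k R] [HopfRep.Comod k A R] [GLin.IsCoactAlg k A R]

/-- The coaction on the quotient by a stable ideal. -/
theorem exists_comod_quot (J : Ideal R) (hJ : HopfRep.IsSubcomod (k := k) (A := A) (J.restrictScalars k)) :
    ∃ (c : HopfRep.Comod k A (R ⧸ J)) (_ : @GLin.IsCoactAlg k _ A _ _ (R ⧸ J) _ _ c),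
      ∀ r : R, c.coact (Ideal.Quotient.mk J r) =
        Algebra.TensorProduct.map (Ideal.Quotient.mkₐ k J) (AlgHom.id k A) (HopfRep.Comod.coact (k := k) (A := A) r) := by
  let π := Ideal.Quotient.mkₐ k J
  let g : R →ₐ[k] (R ⧸ J) ⊗[k] A := (Algebra.TensorProduct.map π (AlgHom.id k A)).comp (GLin.coactAlgHom k A R)
  have hg : ∀ r ∈ J, g r = 0 := fun r hr => by
    obtain ⟨w, hw⟩ := hJ r hr
    show Algebra.TensorProduct.map π (AlgHom.id k A) (HopfRep.Comod.coact (k := k) (A := A) r) = 0
    rw [← hw]
    clear hw
    induction w with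
    | zero => simp
    | tmul a b => simp [π, Ideal.Quotient.eq_zero_iff_mem.2 a.2]
    | add p q hp hq => simp only [map_add, hp, hq, add_zero]
  let d : (R ⧸ J) →ₐ[k] (R ⧸ J) ⊗[k] A := Ideal.Quotient.liftₐ J g hg
  have hd : ∀ r, d (Ideal.Quotient.mk J r) = g r := fun r => rfl
  have hcomp : d.toLinearMap ∘ₗ π.toLinearMap = π.toLinearMap.rTensor A ∘ₗ (HopfRep.Comod.coact (k := k) (A := A) (V := R)) := by
    refine LinearMap.ext fun r => ?_
    show g r = _
    show Algebra.TensorProduct.map π (AlgHom.id k A) (HopfRep.Comod.coact (k := k) (A := A) r) = _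
    simp only [LinearMap.comp_apply]
    generalize HopfRep.Comod.coact (k := k) (A := A) r = w
    induction w with
    | zero => simp
    | tmul a b => simp
    | add p q hp hq => simp only [map_add, hp, hq]
  let c : HopfRep.Comod k A (R ⧸ J) :=
    { coact := d.toLinearMap
      coassoc := LinearMap.ext fun z => by
        obtain ⟨r, rfl⟩ := Ideal.Quotient.mk_surjective z
        exact ComodTens.coassoc_apply_of_hom ‹HopfRep.Comod k A R› d.toLinearMap π.toLinearMap hcomp r
      counit_comp := LinearMap.ext fun z => by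
        obtain ⟨r, rfl⟩ := Ideal.Quotient.mk_surjective z
        exact ComodTens.counit_apply_of_hom ‹HopfRep.Comod k A R› d.toLinearMap π.toLinearMap hcomp r }
  exact ⟨c, @GLin.IsCoactAlg.mk k _ A _ _ _ _ _ c (map_one d) (map_mul d), hd⟩

end Quot

end Groth.Agent.Luna34
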