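import Groth.Agent.LinRed34.OrbitChar
import Groth.Agent.FinGrp34.OrbitMap
import Groth.Agent.Comod33.CartierReduced
import Mathlib.RingTheory.HopfAlgebra.Quotient

/-!
Stabilisers are Hopf ideals, radical in characteristic zero; orbits over closed orbits with the same stabiliser are closed.
-/

set_option autoImplicit false

universe u

open TensorProduct

noncomputable section

namespace Groth.Agent.Luna34

open Groth.Agent.Hopf35.Stable Groth.Agent.LinRed34

variable {k : Type u} [Field k] {A : Type u} [CommRing A] [HopfAlgebra k A]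
variable {R : Type u} [CommRing R] [Algebra k R] [HopfRep.Comod k A R] [GLin.IsCoactAlg k A R]

local notation "φ_" => GLin.orbitHom k A
local notation "ρ" => HopfRep.Comod.coact (k := k) (A := A)

theorem comul_orbitHom (x : R →ₐ[k] k) (r : R) :
    CoalgebraStruct.comul (R := k) (φ_ x r) = Algebra.TensorProduct.map (φ_ x) (AlgHom.id k A) (ρ r) := by
  have h := LinearMap.congr_fun (isComodHom_orbitHom A x) r
  simp only [LinearMap.comp_apply, AlgHom.toLinearMap_apply] at h
  rw [show CoalgebraStruct.comul (R := k) (φ_ x r) = _ from h]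
  generalize ρ r = z
  induction z with
  | zero => simp
  | tmul p a => simp
  | add p q hp hq => simp only [map_add, hp, hq]

theorem mk_orbitHom (x : R →ₐ[k] k) (r : R) :
    Ideal.Quotient.mk (GLin.stabIdeal k A x) (φ_ x r) = algebraMap k _ (x r) := by
  rw [← Ideal.Quotient.mk_algebraMap, Ideal.Quotient.eq]
  have h : r - algebraMap k R (x r) ∈ RingHom.ker x := by simp [RingHom.mem_ker]
  have := Ideal.mem_map_of_mem (φ_ x) h
  rwa [map_sub, AlgHom.commutes] at this

/-- The stabiliser is a Hopf ideal. -/
theorem isHopfIdeal_stabIdeal (x : R →ₐ[k] k) : (GLin.stabIdeal k A x).IsHopfIdeal k := by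
  let I := GLin.stabIdeal k A x
  let π := Ideal.Quotient.mkₐ k I
  have hπ : ∀ r, π (φ_ x r) = algebraMap k _ (x r) := mk_orbitHom x
  haveI : (I.restrictScalars k).IsCoideal := by
    refine ⟨fun a ha => ?_, fun a ha => ?_⟩
    · have h : I ≤ RingHom.ker (Bialgebra.counitAlgHom k A) := Ideal.map_le_iff_le_comap.2 fun r hr => by
        show Coalgebra.counit (R := k) (φ_ x r) = 0
        rw [counit_orbitHom]; exact hr
      exact h ha
    · have h : I ≤ RingHom.ker ((Algebra.TensorProduct.map π π).comp (Bialgebra.comulAlgHom k A)) := by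
        refine Ideal.map_le_iff_le_comap.2 fun r hr => ?_
        show Algebra.TensorProduct.map π π (CoalgebraStruct.comul (R := k) (φ_ x r)) = 0
        have e : Algebra.TensorProduct.map π π (Algebra.TensorProduct.map (φ_ x) (AlgHom.id k A) (ρ r)) =
            Algebra.TensorProduct.includeRight (π (φ_ x r)) := by
          rw [show (φ_ x r : A) = (Algebra.TensorProduct.lid k A)
            (Algebra.TensorProduct.map x (AlgHom.id k A) (ρ r)) from rfl]
          generalize ρ r = z
          induction z with
          | zero => simp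
          | tmul p a =>
            simp only [Algebra.TensorProduct.map_tmul, AlgHom.id_apply, hπ, Algebra.TensorProduct.lid_tmul,
              map_smul, Algebra.TensorProduct.includeRight_apply]
            rw [Algebra.algebraMap_eq_smul_one, TensorProduct.smul_tmul']
          | add p q hp hq => simp only [map_add, hp, hq]
        rw [comul_orbitHom, e, hπ, RingHom.mem_ker.1 hr, map_zero, map_zero]
      exact h ha
  refine Ideal.IsHopfIdeal.mk fun a ha => ?_
  have h : I ≤ RingHom.ker (π.comp (HopfAlgebra.antipodeAlgHom k A)) := by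
    refine Ideal.map_le_iff_le_comap.2 fun r hr => ?_
    show π (HopfAlgebraStruct.antipode (R := k) (φ_ x r)) = 0
    have h1 := congrArg (fun z => π ((Algebra.TensorProduct.lid k A)
      (Algebra.TensorProduct.map x (AlgHom.id k A) z))) (untwist (A := A) r)
    rw [show (φ_ x r : A) = (Algebra.TensorProduct.lid k A)
      (Algebra.TensorProduct.map x (AlgHom.id k A) (ρ r)) from rfl]
    have h2 : π ((Algebra.TensorProduct.lid k A) (Algebra.TensorProduct.map x (AlgHom.id k A)
        (r ⊗ₜ[k] (1 : A)))) = 0 := by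
      simp [RingHom.mem_ker.1 hr]
    rw [← h2, ← h1]
    generalize ρ r = z
    induction z with
    | zero => simp
    | tmul p a =>
      simp only [Algebra.TensorProduct.map_tmul, AlgHom.id_apply, Algebra.TensorProduct.lid_tmul, map_smul,
        TensorProduct.map_tmul, LinearMap.mul'_apply, LinearMap.comp_apply, AlgHom.toLinearMap_apply,
        Algebra.TensorProduct.includeRight_apply, map_mul]
      rw [show (Algebra.TensorProduct.lid k A) (Algebra.TensorProduct.map x (AlgHom.id k A) (ρ p)) = φ_ x p from rfl,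
        hπ]
      simp [Algebra.smul_def]
    | add p q hp hq => simp only [map_add, hp, hq]
  exact Ideal.Quotient.eq_zero_iff_mem.1 (h ha)

/-- Stabilisers are reduced in characteristic zero. -/
theorem isReduced_stab [CharZero k] [Algebra.FiniteType k A] (x : R →ₐ[k] k) :
    IsReduced (A ⧸ GLin.stabIdeal k A x) := by
  haveI := isHopfIdeal_stabIdeal (A := A) x
  haveI : Algebra.FiniteType k (A ⧸ GLin.stabIdeal k A x) :=
    Algebra.FiniteType.of_surjective (Ideal.Quotient.mkₐ k _) (Ideal.Quotient.mkₐ_surjective k _)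
  exact Comod33.Aug.isReduced_of_charZero (k := k) (A := A ⧸ GLin.stabIdeal k A x)

variable [IsAlgClosed k] [CharZero k] [Algebra.FiniteType k A]

/-- Inclusion of stabilisers is checked on points. -/
theorem stabIdeal_le {S : Type u} [CommRing S] [Algebra k S] [HopfRep.Comod k A S] [GLin.IsCoactAlg k A S]
    (x : R →ₐ[k] k) (y : S →ₐ[k] k)
    (h : ∀ g : A →ₐ[k] k, GLin.actPt k g y = y → GLin.actPt k g x = x) :
    GLin.stabIdeal k A x ≤ GLin.stabIdeal k A y := by
  haveI := isReduced_stab (A := A) y
  haveI := isHopfIdeal_stabIdeal (A := A) y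
  haveI : Algebra.FiniteType k (A ⧸ GLin.stabIdeal k A y) :=
    Algebra.FiniteType.of_surjective (Ideal.Quotient.mkₐ k _) (Ideal.Quotient.mkₐ_surjective k _)
  intro a ha
  rw [← Ideal.Quotient.eq_zero_iff_mem]
  refine Hopf35.Stable.eq_zero_of_points (k := k) fun g => ?_
  let g' : A →ₐ[k] k := g.comp (Ideal.Quotient.mkₐ k _)
  have hy : GLin.stabIdeal k A y ≤ RingHom.ker g' := fun b hb => by
    show g (Ideal.Quotient.mk _ b) = 0
    rw [Ideal.Quotient.eq_zero_iff_mem.2 hb, map_zero]
  exact (mem_stab_iff x g').2 (h g' ((mem_stab_iff y g').1 hy)) ha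

variable [IsDomain A] [Algebra.FiniteType k R]
variable {S : Type u} [CommRing S] [Algebra k S] [Algebra.FiniteType k S] [HopfRep.Comod k A S] [GLin.IsCoactAlg k A S]

omit [Algebra.FiniteType k R] in
/-- An orbit mapping injectively onto a closed orbit is closed. -/
theorem isClosedOrbit_of_stab (θ : S →ₐ[k] R)
    (hθ : ∀ s : S, ρ (θ s) = Algebra.TensorProduct.map θ (AlgHom.id k A) (ρ s))
    (x : R →ₐ[k] k) (hy : GLin.IsClosedOrbit k A (x.comp θ))
    (hinj : ∀ g : A →ₐ[k] k, GLin.actPt k g (x.comp θ) = x.comp θ → GLin.actPt k g x = x) :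
    GLin.IsClosedOrbit k A x := by
  have hle := stabIdeal_le (A := A) x (x.comp θ) hinj
  have hcomp := FinGrp34.OrbitMap.orbitHom_comp θ hθ x
  have hrange : ∀ r, φ_ x r ∈ (φ_ (x.comp θ)).range := by
    intro r
    refine mem_range_orbitHom hy ?_
    let π := Ideal.Quotient.mkₐ k (GLin.stabIdeal k A (x.comp θ))
    have hex : Function.Exact (((GLin.stabIdeal k A (x.comp θ)).restrictScalars k).subtype.rTensor A)
        (π.toLinearMap.rTensor A) :=
      rTensor_exact A (fun a => by
        show π a = 0 ↔ _
        rw [Ideal.Quotient.mkₐ_eq_mk, Ideal.Quotient.eq_zero_iff_mem]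
        exact ⟨fun ha => ⟨⟨a, ha⟩, rfl⟩, fun ⟨b, hb⟩ => hb ▸ b.2⟩) (Ideal.Quotient.mkₐ_surjective k _)
    refine LinearMap.mem_range.2 ((hex _).1 ?_)
    rw [map_sub, sub_eq_zero, comul_orbitHom]
    show _ = π.toLinearMap.rTensor A (1 ⊗ₜ[k] φ_ x r)
    rw [show (φ_ x r : A) = (Algebra.TensorProduct.lid k A)
      (Algebra.TensorProduct.map x (AlgHom.id k A) (ρ r)) from rfl]
    generalize ρ r = z
    induction z with
    | zero => simp
    | tmul p a =>
      have hp : π (φ_ x p) = algebraMap k _ (x p) := by
        have h1 := mk_orbitHom (A := A) x p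
        rw [← Ideal.Quotient.mk_algebraMap, Ideal.Quotient.eq] at h1
        show Ideal.Quotient.mk _ (φ_ x p) = _
        rw [← Ideal.Quotient.mk_algebraMap, Ideal.Quotient.eq]
        exact hle h1
      simp only [Algebra.TensorProduct.map_tmul, AlgHom.id_apply, LinearMap.rTensor_tmul, AlgHom.toLinearMap_apply,
        hp, Algebra.TensorProduct.lid_tmul, map_one, TensorProduct.tmul_smul, map_smul]
      rw [Algebra.algebraMap_eq_smul_one, TensorProduct.smul_tmul']
    | add p q hp hq => simp only [map_add, TensorProduct.tmul_add, hp, hq]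
  have hle' : ∀ a ∈ (φ_ x).range, a ∈ (φ_ (x.comp θ)).range := by rintro _ ⟨r, rfl⟩; exact hrange r
  have hge' : ∀ a ∈ (φ_ (x.comp θ)).range, a ∈ (φ_ x).range := by
    rintro _ ⟨s, rfl⟩
    exact ⟨θ s, (AlgHom.congr_fun hcomp s).symm⟩
  have heq : (φ_ x).range = (φ_ (x.comp θ)).range := le_antisymm hle' hge'
  have hs := surjective_comap_range hy
  rw [← heq] at hs
  unfold GLin.IsClosedOrbit
  rw [show (φ_ x).toRingHom = (algebraMap (φ_ x).range A).comp (φ_ x).rangeRestrict.toRingHom from rfl,
    PrimeSpectrum.comap_comp, Set.range_comp, hs.range_eq, Set.image_univ]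
  exact PrimeSpectrum.isClosed_range_comap_of_surjective _ _ (φ_ x).rangeRestrict_surjective

end Groth.Agent.Luna34
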