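import Groth.Agent.Luna34.Tube
import Groth.Agent.Luna34.Main
import Groth.Agent.Luna34.Stab

/-!
Semicontinuity of stabilisers near a closed orbit of a representation.
-/

set_option autoImplicit false

universe u

open TensorProduct MvPolynomial

noncomputable section

namespace Groth.Agent.Luna34

open Groth.Agent.Hopf35.Stable Groth.Agent.LinRed34

variable {k : Type u} [Field k] [IsAlgClosed k] [CharZero k]
variable {A : Type u} [CommRing A] [IsDomain A] [HopfAlgebra k A] [Algebra.FiniteType k A]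

theorem invariants_map {S R : Type u} [CommRing S] [Algebra k S] [HopfRep.Comod k A S] [GLin.IsCoactAlg k A S]
    [CommRing R] [Algebra k R] [HopfRep.Comod k A R] [GLin.IsCoactAlg k A R] (θ : S →ₐ[k] R)
    (hθ : ∀ s, HopfRep.Comod.coact (k := k) (A := A) (θ s) = Algebra.TensorProduct.map θ (AlgHom.id k A) (HopfRep.Comod.coact (k := k) (A := A) s))
    {s : S} (hs : s ∈ GLin.invariants k A S) : θ s ∈ GLin.invariants k A R := by
  show HopfRep.Comod.coact (k := k) (A := A) (θ s) = θ s ⊗ₜ[k] (1 : A)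
  rw [hθ, (GLin.mem_invariants_iff k A S s).1 hs]
  simp

theorem exists_semicont_poly {ι : Type u} [Fintype ι] [DecidableEq ι] {c : ι → ι → A}
    [HopfRep.Comod k A (MvPolynomial ι k)] [GLin.IsCoactAlg k A (MvPolynomial ι k)]
    (hG : HopfRep.IsLinearlyReductive k A) (hc : Comod33.Mat.IsRep (k := k) c)
    (hX : ∀ j, HopfRep.Comod.coact (k := k) (A := A) (X j : MvPolynomial ι k) = ∑ i, X i ⊗ₜ[k] c i j)
    (y : MvPolynomial ι k →ₐ[k] k) (hy : GLin.IsClosedOrbit k A y) :
    ∃ F ∈ GLin.invariants k A (MvPolynomial ι k), y F ≠ 0 ∧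
      ∀ y' : MvPolynomial ι k →ₐ[k] k, y' F ≠ 0 → GLin.IsClosedOrbit k A y' →
        ∃ g : A →ₐ[k] k, GLin.stabIdeal k A y ≤ GLin.stabIdeal k A (GLin.actPt k g y') := by
  obtain ⟨RX, _, _, _, cm, _, base, θ, x₀, hbase, hθ, hI, hxb, hxθ, hext, het⟩ := exists_tube hG hc hX y hy
  letI := θ.toRingHom.toAlgebra
  haveI : IsScalarTower k (MvPolynomial ι k) RX := IsScalarTower.of_algebraMap_eq fun a => (θ.commutes a).symm
  have htoAlg : IsScalarTower.toAlgHom k (MvPolynomial ι k) RX = θ := AlgHom.ext fun s => rfl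
  have he : Equivariant k A (MvPolynomial ι k) RX := fun s => by rw [htoAlg]; exact hθ s
  let S₀ := GLin.invariants k A (MvPolynomial ι k)
  let R₀ := GLin.invariants k A RX
  let ψ₀ : S₀ →ₐ[k] R₀ := (θ.comp S₀.val).codRestrict R₀ fun s => invariants_map θ hθ s.2
  letI : Algebra S₀ R₀ := ψ₀.toRingHom.toAlgebra
  haveI : IsScalarTower S₀ (MvPolynomial ι k) RX := IsScalarTower.of_algebraMap_eq fun a => rfl
  haveI : IsScalarTower S₀ R₀ RX := IsScalarTower.of_algebraMap_eq fun a => rfl
  let m : Ideal RX := RingHom.ker x₀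
  haveI : m.IsPrime := (Hopf35.Stable.isMaximal_ker x₀).isPrime
  have hxy : x₀.comp (IsScalarTower.toAlgHom k (MvPolynomial ι k) RX) = y := by rw [htoAlg]; exact hxθ
  have hinj : ∀ g : A →ₐ[k] k, GLin.actPt k g (x₀.comp (IsScalarTower.toAlgHom k (MvPolynomial ι k) RX)) =
      x₀.comp (IsScalarTower.toAlgHom k (MvPolynomial ι k) RX) → GLin.actPt k g x₀ = x₀ := by
    intro g hg
    rw [hxy] at hg
    refine hext _ _ ?_ ?_
    · rw [FinGrp34.OrbitMap.actPt_comp base hbase, hxb, hg]
    · rw [FinGrp34.OrbitMap.actPt_comp θ hθ, hxθ, hg]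
  obtain ⟨f, g, hxG, hsurj, -, -, -, -, hrange⟩ := exists_strongly_etale (S := MvPolynomial ι k) (R := RX)
    (S₀ := S₀) (R₀ := R₀) hG he Subtype.coe_injective (Subalgebra.range_val S₀) Subtype.coe_injective
    (Subalgebra.range_val R₀) x₀ m rfl (het m rfl) (by rw [hxy]; exact hy) hinj
  refine ⟨(g : MvPolynomial ι k), g.2, fun h0 => hxG ?_, fun y' hy'g hy' => ?_⟩
  · rw [map_mul, map_mul]
    refine mul_eq_zero_of_right _ ?_
    rw [← h0, ← hxθ]
    rfl
  haveI : (RingHom.ker y').IsPrime := (Hopf35.Stable.isMaximal_ker y').isPrime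
  obtain ⟨Q, hQ, hhQ, hQP⟩ := hsurj (RingHom.ker y') inferInstance fun h => hy'g (RingHom.mem_ker.1 h)
  haveI := hQ
  obtain ⟨z, hzQ, hzh⟩ := Hopf35.Stable.exists_point_ne (k := k) Q hhQ
  have hzy : z.comp θ = y' := AlgHom.ext fun s => by
    have h := hzQ _ (hQP.ge (show s - algebraMap k _ (y' s) ∈ RingHom.ker y' by simp [RingHom.mem_ker]))
    rw [map_sub, ← IsScalarTower.algebraMap_apply k, map_sub, AlgHom.commutes, sub_eq_zero] at h
    exact h
  have hp : InOrbit k A y (z.comp base) := isClosedOrbit_iff.1 hy _ fun a ha => by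
    show z (base a) = 0
    rw [hI a ha, map_zero]
  obtain ⟨g₁, hg₁⟩ := hp.symm
  refine ⟨g₁, stabIdeal_le y _ fun u hu => ?_⟩
  have hz'θ : (GLin.actPt k g₁ z).comp θ = GLin.actPt k g₁ y' := by rw [FinGrp34.OrbitMap.actPt_comp θ hθ, hzy]
  have hz'b : (GLin.actPt k g₁ z).comp base = y := by rw [FinGrp34.OrbitMap.actPt_comp base hbase]; exact hg₁
  suffices h : GLin.actPt k u (GLin.actPt k g₁ z) = GLin.actPt k g₁ z by
    have h' := congrArg (fun w : RX →ₐ[k] k => w.comp base) h
    simp only [FinGrp34.OrbitMap.actPt_comp base hbase, hg₁] at h'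
    exact h'
  set z' := GLin.actPt k g₁ z with hz'
  set G : RX := algebraMap R₀ RX (f * algebraMap S₀ R₀ g) with hGdef
  have hGinv : G ∈ GLin.invariants k A RX := (f * algebraMap S₀ R₀ g).2
  have hG0 : z' G ≠ 0 := by rw [hz', actPt_invariant _ _ hGinv]; exact hzh
  refine AlgHom.ext fun r => ?_
  obtain ⟨n, w, hw⟩ := hrange r
  have hsame : ∀ w : MvPolynomial ι k ⊗[S₀] R₀,
      GLin.actPt k u z' (Algebra.TensorProduct.productMap (IsScalarTower.toAlgHom S₀ (MvPolynomial ι k) RX) (IsScalarTower.toAlgHom S₀ R₀ RX) w) =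
        z' (Algebra.TensorProduct.productMap (IsScalarTower.toAlgHom S₀ (MvPolynomial ι k) RX) (IsScalarTower.toAlgHom S₀ R₀ RX) w) := by
    intro w
    induction w using TensorProduct.induction_on with
    | zero => simp only [map_zero]
    | tmul s r₀ =>
      rw [Algebra.TensorProduct.productMap_apply_tmul, map_mul, map_mul]
      congr 1
      · have h' : (GLin.actPt k u z').comp θ = z'.comp θ := by
          rw [FinGrp34.OrbitMap.actPt_comp θ hθ, hz'θ]; exact hu
        exact AlgHom.congr_fun h' s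
      · exact actPt_invariant u z' r₀.2
    | add a b ha hb => simp only [map_add, ha, hb]
  have h := hsame w
  rw [hw, map_mul, map_mul, map_pow, map_pow, actPt_invariant u z' hGinv] at h
  exact mul_left_cancel₀ (pow_ne_zero n hG0) h

omit [IsAlgClosed k] [CharZero k] [IsDomain A] [Algebra.FiniteType k A] in
theorem stabIdeal_comp {S R : Type u} [CommRing S] [Algebra k S] [HopfRep.Comod k A S] [GLin.IsCoactAlg k A S]
    [CommRing R] [Algebra k R] [HopfRep.Comod k A R] [GLin.IsCoactAlg k A R] (π : S →ₐ[k] R)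
    (hπ : ∀ s, HopfRep.Comod.coact (k := k) (A := A) (π s) = Algebra.TensorProduct.map π (AlgHom.id k A) (HopfRep.Comod.coact (k := k) (A := A) s))
    (hs : Function.Surjective π) (x : R →ₐ[k] k) : GLin.stabIdeal k A (x.comp π) = GLin.stabIdeal k A x := by
  unfold GLin.stabIdeal
  rw [FinGrp34.OrbitMap.orbitHom_comp π hπ]
  conv_rhs => rw [← Ideal.map_comap_of_surjective π.toRingHom hs (RingHom.ker x)]
  rw [show RingHom.ker (x.comp π) = Ideal.comap π.toRingHom (RingHom.ker x) from rfl]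
  exact (Ideal.map_map π.toRingHom (GLin.orbitHom k A x).toRingHom).symm

end Groth.Agent.Luna34
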