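import Groth.Agent.Luna34.Cartesian
import Groth.Agent.Luna34.Model
import Groth.Agent.Luna34.Away

/-!
Near an étale point over a closed orbit with the same stabiliser, a map is the base change of its map of invariants.
-/

set_option autoImplicit false

universe u

open TensorProduct

noncomputable section

namespace Groth.Agent.Luna34

open Groth.Agent.Hopf35.Stable Groth.Agent.LinRed34
open Groth.Agent.FinGrp34.OrbitMap (actHom)

variable {k : Type u} [Field k] [IsAlgClosed k]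
variable {A : Type u} [CommRing A] [HopfAlgebra k A] [Algebra.FiniteType k A] [IsReduced A]
variable {S : Type u} [CommRing S] [Algebra k S] [Algebra.FiniteType k S] [HopfRep.Comod k A S] [GLin.IsCoactAlg k A S]
variable {R : Type u} [CommRing R] [Algebra k R] [Algebra.FiniteType k R] [HopfRep.Comod k A R] [GLin.IsCoactAlg k A R]
variable [Algebra S R] [IsScalarTower k S R]
variable {S₀ : Type u} [CommRing S₀] [Algebra k S₀] [Algebra S₀ S] [IsScalarTower k S₀ S]
variable {R₀ : Type u} [CommRing R₀] [Algebra k R₀] [Algebra R₀ R] [IsScalarTower k R₀ R]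
variable [Algebra S₀ R₀] [Algebra S₀ R] [IsScalarTower S₀ S R] [IsScalarTower S₀ R₀ R]

local notation "ρ" => HopfRep.Comod.coact (k := k) (A := A)
local notation "Φ_" => Algebra.TensorProduct.productMap (IsScalarTower.toAlgHom S₀ S R) (IsScalarTower.toAlgHom S₀ R₀ R)

theorem quasiFiniteAt_of_isEtaleAt {S R : Type u} [CommRing S] [CommRing R] [Algebra S R] [Algebra.FiniteType S R]
    (m : Ideal R) [m.IsPrime] (h : Algebra.IsEtaleAt S m) :
    Algebra.QuasiFiniteAt S m := by
  haveI := h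
  haveI : Algebra.EssFiniteType S (Localization.AtPrime m) := Algebra.EssFiniteType.comp S R _
  haveI : Algebra.FormallyUnramified S (Localization.AtPrime m) := inferInstance
  exact (inferInstance : Algebra.QuasiFinite S (Localization.AtPrime m))

omit [Algebra.FiniteType k A] [IsReduced A] in
/-- Local cartesian square and étaleness of the map of invariants at the point. -/
theorem exists_cartesian_near (hG : HopfRep.IsLinearlyReductive k A) [IsReduced A] [Algebra.FiniteType k A]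
    (he : Equivariant k A S R)
    (hS₀i : Function.Injective (algebraMap S₀ S)) (hS₀ : (IsScalarTower.toAlgHom k S₀ S).range = GLin.invariants k A S)
    (hR₀i : Function.Injective (algebraMap R₀ R)) (hR₀ : (IsScalarTower.toAlgHom k R₀ R).range = GLin.invariants k A R)
    (x : R →ₐ[k] k) (m : Ideal R) [m.IsPrime] (hm : m = RingHom.ker x) (het : Algebra.IsEtaleAt S m)
    (hy : GLin.IsClosedOrbit k A (x.comp (IsScalarTower.toAlgHom k S R)))
    (hinj : ∀ g : A →ₐ[k] k, GLin.actPt k g (x.comp (IsScalarTower.toAlgHom k S R)) =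
      x.comp (IsScalarTower.toAlgHom k S R) → GLin.actPt k g x = x) :
    Algebra.IsEtaleAt S₀ (m.comap (algebraMap R₀ R)) ∧
      ∃ F : R₀, x (algebraMap R₀ R F) ≠ 0 ∧
        (∀ z : S ⊗[S₀] R₀, Φ_ z = 0 → ∃ n : ℕ, ((1 : S) ⊗ₜ[S₀] F) ^ n * z = 0) ∧
        ∀ r : R, ∃ (n : ℕ) (z : S ⊗[S₀] R₀), Φ_ z = algebraMap R₀ R F ^ n * r := by
  set θ := IsScalarTower.toAlgHom k S R
  haveI := isScalarTower_base (k := k) (S₀ := S₀) S hR₀i
  haveI : Algebra.FiniteType S R := Algebra.FiniteType.of_restrictScalars_finiteType k S R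
  obtain ⟨B, c, hc, hfinB, hftB, hci, heB, b, hbR, hxb, hbr⟩ :=
    exists_finite_model hG he x hy m hm (quasiFiniteAt_of_isEtaleAt m het)
  letI := c
  haveI := hc
  let i : B →ₐ[k] R := B.val.restrictScalars k
  have hii : Function.Injective i := Subtype.val_injective
  have hMi : Function.Injective (Algebra.TensorProduct.map i (AlgHom.id k A)) :=
    Module.Flat.rTensor_preserves_injective_linearMap (M := A) i.toLinearMap hii
  have hinv : ∀ z : B, z ∈ GLin.invariants k A B ↔ (z : R) ∈ GLin.invariants k A R := by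
    intro z
    rw [GLin.mem_invariants_iff, GLin.mem_invariants_iff, hci]
    refine ⟨fun h => by rw [show c.coact z = z ⊗ₜ[k] (1 : A) from h]; rfl, fun h => hMi ?_⟩
    exact h.trans (by rfl)
  let B₀ := GLin.invariants k A B
  letI : Algebra S₀ B₀ := (((algebraMap S B).comp (algebraMap S₀ S)).codRestrict B₀ fun a => by
    rw [hinv]
    show algebraMap S R (algebraMap S₀ S a) ∈ _
    rw [← algebraMap_base (R₀ := R₀) (S := S)]
    exact algebraMap_mem_invariants hR₀ _).toAlgebra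
  haveI : IsScalarTower S₀ B₀ B := IsScalarTower.of_algebraMap_eq fun a => Subtype.ext (by
    show algebraMap S₀ R a = algebraMap S R (algebraMap S₀ S a)
    exact IsScalarTower.algebraMap_apply S₀ S R a)
  have hB₀i : Function.Injective (algebraMap B₀ B) := Subtype.val_injective
  have hB₀ : (IsScalarTower.toAlgHom k B₀ B).range = GLin.invariants k A B := by
    ext z
    exact ⟨by rintro ⟨w, rfl⟩; exact w.2, fun hz => ⟨⟨z, hz⟩, rfl⟩⟩
  -- the comparison of invariants
  choose η hη using fun w : B₀ => exists_algebraMap_eq hR₀ ((hinv w.1).1 w.2)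
  let ηA : B₀ →ₐ[S₀] R₀ :=
    { toFun := η
      map_one' := hR₀i (by rw [hη, map_one]; rfl)
      map_mul' := fun p q => hR₀i (by rw [hη, map_mul, hη, hη]; rfl)
      map_zero' := hR₀i (by rw [hη, map_zero]; rfl)
      map_add' := fun p q => hR₀i (by rw [hη, map_add, hη, hη]; rfl)
      commutes' := fun a => hR₀i (by
        rw [hη, algebraMap_base (S := S)]
        rfl) }
  have hηA : ∀ w : B₀, algebraMap R₀ R (ηA w) = ((w : B) : R) := hη
  have hηi : Function.Injective ηA := fun p q h => by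
    have := congrArg (algebraMap R₀ R) h
    rw [hηA, hηA] at this
    exact Subtype.ext (Subtype.ext this)
  let b₀ : B₀ := ⟨b, (hinv b).2 hbR⟩
  have hηs : ∀ r : R₀, ∃ (n : ℕ) (β : B₀), ηA β = ηA b₀ ^ n * r := by
    intro r
    obtain ⟨n, hn⟩ := hbr (algebraMap R₀ R r)
    refine ⟨n, ⟨⟨_, hn⟩, (hinv _).2 (mul_mem (pow_mem hbR n) (algebraMap_mem_invariants hR₀ r))⟩, hR₀i ?_⟩
    rw [hηA, map_mul, map_pow, hηA]
  -- the finite case
  let xB : B →ₐ[k] k := x.comp i
  let mB : Ideal B := m.comap B.val.toRingHom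
  have hmB : mB = RingHom.ker xB := by
    subst hm; rfl
  have hxBy : xB.comp (IsScalarTower.toAlgHom k S B) = x.comp θ := AlgHom.ext fun s => rfl
  have hxB : GLin.IsClosedOrbit k A xB := isClosedOrbit_of_image heB (by rw [hxBy]; exact hy)
  have hinjB : ∀ g : A →ₐ[k] k, GLin.actPt k g (xB.comp (IsScalarTower.toAlgHom k S B)) =
      xB.comp (IsScalarTower.toAlgHom k S B) → GLin.actPt k g xB = xB := by
    intro g hg
    rw [hxBy] at hg
    show GLin.actPt k g (x.comp i) = x.comp i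
    rw [← FinGrp34.OrbitMap.actPt_comp i hci, hinj g hg]
  have hbm : (b : R) ∉ m := fun h => by
    rw [hm, RingHom.mem_ker, hxb] at h
    exact one_ne_zero h
  have hetB : Algebra.IsEtaleAt S mB :=
    (isEtaleAt_iff_of_away B.val Subtype.val_injective (b := b)
      (fun r => ⟨(hbr r).choose, ⟨_, (hbr r).choose_spec⟩, rfl⟩) m hbm).2 het
  haveI : IsScalarTower k S₀ B₀ := isScalarTower_base (k := k) (S₀ := S₀) (R := B) S hB₀i
  have hetB₀ := isEtaleAt_invariants (S₀ := S₀) (R₀ := B₀) hG heB hS₀i hS₀ hB₀i hB₀ hxB hinjB mB hmB hetB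
  obtain ⟨f, hf, hker, hrange⟩ :=
    exists_cartesian (S₀ := S₀) (R₀ := B₀) hG heB hS₀i hS₀ hB₀i hB₀ hxB hinjB mB hmB hetB
  have hqb : ηA b₀ ∉ m.comap (algebraMap R₀ R) := fun h => hbm (by
    have := Ideal.mem_comap.1 h
    rwa [hηA] at this)
  refine ⟨?_, ηA (b₀ * f), ?_, ?_, ?_⟩
  · refine (isEtaleAt_iff_of_away ηA hηi hηs _ hqb).1 ?_
    have e : (m.comap (algebraMap R₀ R)).comap ηA.toRingHom = mB.comap (algebraMap B₀ B) := by
      ext w
      show algebraMap R₀ R (ηA w) ∈ m ↔ ((w : B) : R) ∈ m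
      rw [hηA]
    simp only [e]
    exact hetB₀
  · rw [hηA]
    show x ((b : R) * ((f : B) : R)) ≠ 0
    rw [map_mul, hxb, one_mul]
    exact hf
  all_goals
    let ΦB := Algebra.TensorProduct.productMap (IsScalarTower.toAlgHom S₀ S B) (IsScalarTower.toAlgHom S₀ B₀ B)
    let T : S ⊗[S₀] B₀ →ₐ[S₀] S ⊗[S₀] R₀ := Algebra.TensorProduct.map (AlgHom.id S₀ S) ηA
    have hT : ∀ w, Φ_ (T w) = ((ΦB w : B) : R) := by
      intro w
      induction w using TensorProduct.induction_on with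
      | zero => simp
      | add p q hp hq => rw [map_add, map_add, hp, hq, map_add]; rfl
      | tmul s r =>
        show Φ_ (s ⊗ₜ[S₀] ηA r) = _
        rw [productMap_tmul, hηA, show ΦB (s ⊗ₜ[S₀] r) = algebraMap S B s * algebraMap B₀ B r from
          Algebra.TensorProduct.productMap_apply_tmul _ _ _ _]
        rfl
  · intro z hz
    have hlift : ∀ z : S ⊗[S₀] R₀, ∃ (n : ℕ) (w : S ⊗[S₀] B₀), T w = ((1 : S) ⊗ₜ[S₀] ηA b₀) ^ n * z := by
      intro z
      induction z using TensorProduct.induction_on with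
      | zero => exact ⟨0, 0, by simp⟩
      | tmul s r =>
        obtain ⟨n, β, hβ⟩ := hηs r
        exact ⟨n, s ⊗ₜ β, by
          rw [Algebra.TensorProduct.tmul_pow, one_pow, Algebra.TensorProduct.tmul_mul_tmul, one_mul, ← hβ]; rfl⟩
      | add p q hp hq =>
        obtain ⟨a, w, hw⟩ := hp
        obtain ⟨a', w', hw'⟩ := hq
        refine ⟨a + a', ((1 : S) ⊗ₜ[S₀] b₀) ^ a' * w + ((1 : S) ⊗ₜ[S₀] b₀) ^ a * w', ?_⟩
        have hTb : T ((1 : S) ⊗ₜ[S₀] b₀) = (1 : S) ⊗ₜ[S₀] ηA b₀ := rfl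
        rw [map_add, map_mul, map_mul, map_pow, map_pow, hTb, hw, hw', pow_add]
        ring
    obtain ⟨n, w, hw⟩ := hlift z
    have hw0 : ΦB w = 0 := Subtype.ext (by
      rw [← hT, hw, map_mul, hz, mul_zero]
      rfl)
    have h1 := congrArg T (hker w hw0)
    rw [map_mul, map_zero, hw, show T ((1 : S) ⊗ₜ[S₀] f) = (1 : S) ⊗ₜ[S₀] ηA f from rfl] at h1
    refine ⟨n + 1, ?_⟩
    rw [show (1 : S) ⊗ₜ[S₀] ηA (b₀ * f) = ((1 : S) ⊗ₜ[S₀] ηA b₀) * ((1 : S) ⊗ₜ[S₀] ηA f) by
      rw [Algebra.TensorProduct.tmul_mul_tmul, one_mul, map_mul]]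
    calc _ = (((1 : S) ⊗ₜ[S₀] ηA b₀) * ((1 : S) ⊗ₜ[S₀] ηA f) ^ n) *
          (((1 : S) ⊗ₜ[S₀] ηA f) * (((1 : S) ⊗ₜ[S₀] ηA b₀) ^ n * z)) := by ring
      _ = 0 := by rw [h1, mul_zero]
  · intro r
    obtain ⟨n, hn⟩ := hbr r
    obtain ⟨w, hw⟩ := hrange ⟨_, hn⟩
    refine ⟨n + 1, ((1 : S) ⊗ₜ[S₀] ηA (b₀ * f ^ n)) * T w, ?_⟩
    rw [map_mul, productMap_tmul, map_one, one_mul, hT, hηA, show ΦB w = algebraMap B₀ B f * ⟨_, hn⟩ from hw, hηA]
    show ((b : R) * ((f : B) : R) ^ n) * (((f : B) : R) * ((b : R) ^ n * r)) = ((b : R) * ((f : B) : R)) ^ (n + 1) * r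
    ring

end Groth.Agent.Luna34
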