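import Groth.Agent.Luna34.Newton
import Groth.Agent.Luna34.OrbitSmooth
import Groth.Agent.Luna34.EtaleCrit

/-!
The tubular neighbourhood of a closed orbit in a representation: a space over the orbit, étale over the representation.
-/

set_option autoImplicit false

universe u

open TensorProduct MvPolynomial

noncomputable section

namespace Groth.Agent.Luna34

open Groth.Agent.Hopf35.Stable Groth.Agent.LinRed34
open Groth.Agent.FinGrp34.OrbitMap (actHom actHom_apply actHom_bijective)

variable {k : Type u} [Field k]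

section Double

variable {A : Type u} [CommRing A] [HopfAlgebra k A] {ι : Type u} [Fintype ι] [DecidableEq ι]

/-- two copies of a matrix -/
def dbl (c : ι → ι → A) : ι ⊕ ι → ι ⊕ ι → A
  | .inl i, .inl j => c i j
  | .inr i, .inr j => c i j
  | _, _ => 0

theorem isRep_dbl {c : ι → ι → A} (hc : Comod33.Mat.IsRep (k := k) c) : Comod33.Mat.IsRep (k := k) (dbl c) where
  comul a b := by
    rcases a with i | i <;> rcases b with j | j <;> simp [dbl, Fintype.sum_sum_type, hc.comul]
  counit a b := by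
    rcases a with i | i <;> rcases b with j | j <;> simp [dbl, hc.counit]

theorem exists_comod_dbl {c : ι → ι → A} (hc : Comod33.Mat.IsRep (k := k) c) :
    ∃ (cm : HopfRep.Comod k A (MvPolynomial (ι ⊕ ι) k))
      (_ : @GLin.IsCoactAlg k _ A _ _ (MvPolynomial (ι ⊕ ι) k) _ _ cm),
      (∀ j, cm.coact (X (Sum.inl j)) = ∑ i, X (Sum.inl i) ⊗ₜ[k] c i j) ∧
      ∀ j, cm.coact (X (Sum.inr j)) = ∑ i, X (Sum.inr i) ⊗ₜ[k] c i j := by
  classical
  refine ⟨FinGrp34.PolyComod.comod (isRep_dbl hc), FinGrp34.PolyComod.isCoactAlg (isRep_dbl hc), fun j => ?_, fun j => ?_⟩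
  · show FinGrp34.PolyComod.polyCoact (dbl c) (X (Sum.inl j)) = _
    simp [FinGrp34.PolyComod.polyCoact_X, Fintype.sum_sum_type, dbl]
  · show FinGrp34.PolyComod.polyCoact (dbl c) (X (Sum.inr j)) = _
    simp [FinGrp34.PolyComod.polyCoact_X, Fintype.sum_sum_type, dbl]

variable [HopfRep.Comod k A (MvPolynomial ι k)] [GLin.IsCoactAlg k A (MvPolynomial ι k)]

/-- A renaming compatible with the matrices is equivariant. -/
theorem coact_rename {κ : Type u} [Fintype κ] [HopfRep.Comod k A (MvPolynomial κ k)] [GLin.IsCoactAlg k A (MvPolynomial κ k)]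
    {c : ι → ι → A} (hX : ∀ j, HopfRep.Comod.coact (k := k) (A := A) (X j : MvPolynomial ι k) = ∑ i, X i ⊗ₜ[k] c i j)
    (f : ι → κ) (hf : ∀ j, HopfRep.Comod.coact (k := k) (A := A) (X (f j) : MvPolynomial κ k) = ∑ i, X (f i) ⊗ₜ[k] c i j)
    (p : MvPolynomial ι k) : HopfRep.Comod.coact (k := k) (A := A) (rename f p : MvPolynomial κ k) =
      Algebra.TensorProduct.map (rename f) (AlgHom.id k A) (HopfRep.Comod.coact (k := k) (A := A) p) := by
  suffices h : (GLin.coactAlgHom k A (MvPolynomial κ k)).comp (rename f) =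
      (Algebra.TensorProduct.map (rename f) (AlgHom.id k A)).comp (GLin.coactAlgHom k A (MvPolynomial ι k)) from
    DFunLike.congr_fun h p
  refine MvPolynomial.algHom_ext fun j => ?_
  simp [hX, hf]

end Double

variable [IsAlgClosed k] [CharZero k]
variable {A : Type u} [CommRing A] [IsDomain A] [HopfAlgebra k A] [Algebra.FiniteType k A]
variable {ι : Type u} [Fintype ι] [DecidableEq ι] {c : ι → ι → A}
variable [HopfRep.Comod k A (MvPolynomial ι k)] [GLin.IsCoactAlg k A (MvPolynomial ι k)]

local notation "SP" => MvPolynomial ι k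
local notation "S2" => MvPolynomial (ι ⊕ ι) k

/-- The tube around a closed orbit. -/
theorem exists_tube (hG : HopfRep.IsLinearlyReductive k A) (hc : Comod33.Mat.IsRep (k := k) c)
    (hX : ∀ j, HopfRep.Comod.coact (k := k) (A := A) (X j : SP) = ∑ i, X i ⊗ₜ[k] c i j)
    (y : SP →ₐ[k] k) (hy : GLin.IsClosedOrbit k A y) :
    ∃ (RX : Type u) (_ : CommRing RX) (_ : Algebra k RX) (_ : Algebra.FiniteType k RX)
      (cm : HopfRep.Comod k A RX) (_ : @GLin.IsCoactAlg k _ A _ _ RX _ _ cm) (base θ : SP →ₐ[k] RX)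
      (x₀ : RX →ₐ[k] k),
      (∀ s, cm.coact (base s) = Algebra.TensorProduct.map base (AlgHom.id k A) (HopfRep.Comod.coact (k := k) (A := A) s)) ∧
      (∀ s, cm.coact (θ s) = Algebra.TensorProduct.map θ (AlgHom.id k A) (HopfRep.Comod.coact (k := k) (A := A) s)) ∧
      (∀ f ∈ RingHom.ker (GLin.orbitHom k A y), base f = 0) ∧
      x₀.comp base = y ∧ x₀.comp θ = y ∧ (∀ z z' : RX →ₐ[k] k, z.comp base = z'.comp base → z.comp θ = z'.comp θ → z = z') ∧
      (∀ (m : Ideal RX) [m.IsPrime], m = RingHom.ker x₀ →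
        @Algebra.IsEtaleAt SP RX _ _ θ.toRingHom.toAlgebra m _) := by
  let I : Ideal SP := RingHom.ker (GLin.orbitHom k A y)
  have hI : ∀ g : A →ₐ[k] k, ∀ r ∈ I, actHom A SP g r ∈ I := fun g r hr => FinGrp34.OrbitMap.ker_comap_actHom g y hr
  have hIy : ∀ f ∈ I, y f = 0 := fun f hf => RingHom.mem_ker.1 (inOrbitClosure_refl (A := A) y hf)
  obtain ⟨ν, hν, hret⟩ := exists_retraction y hy
  let Q : Matrix ι ι SP := fun i j => pderiv i (ν j)
  have hQ1 : ∀ j, coCol (1 - Q) j ∈ conorm I := by
    intro j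
    refine Submodule.mem_sup_left (Submodule.subset_span ⟨ν j, hν j, funext fun i => ?_⟩)
    simp [coCol, grad, Q]
  have hQ2 : ∀ f ∈ I, ∀ a, ∑ b, (1 - Q) a b * grad f b ∈ I := by
    intro f hf a
    have h := pderiv_mem_of_mem_sq a (hret f hf)
    simp only [map_sub, map_sum, pderiv_mul, Finset.sum_add_distrib] at h
    have h' : ∑ b, (pderiv a (pderiv b f)) * ν b ∈ I := sum_mem fun b _ => I.mul_mem_left _ (hν b)
    convert add_mem h h' using 1
    simp only [Matrix.sub_apply, sub_mul, Finset.sum_sub_distrib, Matrix.one_apply, ite_mul, one_mul, zero_mul,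
      Finset.sum_ite_eq, Finset.mem_univ, if_true, grad, Q]
    simp only [mul_comm (pderiv a (ν _))]
    ring
  obtain ⟨P, hP1, hP2, hPinv⟩ := exists_average hX hG hc I hI _ hQ1 hQ2
  obtain ⟨cm2, hcm2, hl, hr⟩ := exists_comod_dbl hc
  letI := cm2
  haveI := hcm2
  let L : SP →ₐ[k] S2 := rename Sum.inl
  let Rr : SP →ₐ[k] S2 := rename Sum.inr
  have hLc := coact_rename hX Sum.inl hl
  have hRc := coact_rename hX Sum.inr hr
  let E : ι → S2 := fun j => ∑ i, L (P i j) * (X (Sum.inr i) - X (Sum.inl i))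
  let J : Ideal S2 := I.map L ⊔ Ideal.span (Set.range E)
  have hLJ : ∀ f ∈ I, L f ∈ J := fun f hf => Ideal.mem_sup_left (Ideal.mem_map_of_mem _ hf)
  have hEJ : ∀ j, E j ∈ J := fun j => Ideal.mem_sup_right (Ideal.subset_span ⟨j, rfl⟩)
  have hJ : ∀ g : A →ₐ[k] k, ∀ r ∈ J, actHom A S2 g r ∈ J := by
    intro g
    suffices h : J ≤ J.comap (actHom A S2 g) from fun r hr => h hr
    refine sup_le (Ideal.map_le_iff_le_comap.2 fun f hf => ?_) (Ideal.span_le.2 ?_)
    · show actHom A S2 g (L f) ∈ J
      rw [FinGrp34.PolyComod.map_actHom hLc]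
      exact hLJ _ (hI g f hf)
    · rintro _ ⟨j, rfl⟩
      show actHom A S2 g (E j) ∈ J
      have hD : ∀ i, actHom A S2 g (X (Sum.inr i) - X (Sum.inl i) : S2) =
          ∑ a, L (cg c g a i) * (X (Sum.inr a) - X (Sum.inl a)) := by
        intro i
        rw [show (X (Sum.inr i) - X (Sum.inl i) : S2) = Rr (X i) - L (X i) by simp [L, Rr], map_sub,
          FinGrp34.PolyComod.map_actHom hLc, FinGrp34.PolyComod.map_actHom hRc, actHom_X hX]
        simp [L, Rr, cg, Comod33.Mat.ev_apply, Finset.sum_sub_distrib, mul_sub]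
      have hinv : cg c g * P.map (actHom A SP g) = P * cg c g := by
        have h := congrArg (fun M => M * cg c g) (hPinv (WithConv.toConv g))
        simp only [transp, Matrix.mul_assoc] at h
        rw [← cg_mul hc, inv_mul_cancel, cg_one hc, mul_one] at h
        exact h
      have h : actHom A S2 g (E j) = ∑ b, L (cg c g b j) * E b := by
        calc actHom A S2 g (E j)
            = ∑ i, L (actHom A SP g (P i j)) * ∑ a, L (cg c g a i) * (X (Sum.inr a) - X (Sum.inl a)) := by
              simp only [E, map_sum, map_mul, hD, FinGrp34.PolyComod.map_actHom (φ := L) hLc]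
          _ = ∑ a, L ((cg c g * P.map (actHom A SP g)) a j) * (X (Sum.inr a) - X (Sum.inl a)) := by
              simp only [Matrix.mul_apply, Matrix.map_apply, map_sum, map_mul, Finset.mul_sum, Finset.sum_mul]
              rw [Finset.sum_comm]
              exact Finset.sum_congr rfl fun a _ => Finset.sum_congr rfl fun i _ => by ring
          _ = ∑ b, L (cg c g b j) * E b := by
              rw [hinv]
              simp only [E, Matrix.mul_apply, map_sum, map_mul, Finset.mul_sum, Finset.sum_mul]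
              rw [Finset.sum_comm]
              exact Finset.sum_congr rfl fun a _ => Finset.sum_congr rfl fun i _ => by ring
      rw [h]
      exact sum_mem fun b _ => J.mul_mem_left _ (hEJ b)
  obtain ⟨cm, hcm, hq⟩ := exists_comod_quot (A := A) J (isSubcomod_ideal hJ)
  let π := Ideal.Quotient.mkₐ k J
  let base : SP →ₐ[k] S2 ⧸ J := π.comp L
  let θ : SP →ₐ[k] S2 ⧸ J := π.comp Rr
  have hC : ∀ a : k, y (C a) = a := fun a => y.commutes a
  let v : ι → k := fun i => y (X i)
  let x2 : S2 →ₐ[k] k := aeval (Sum.elim v v)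
  have hxL : x2.comp L = y := MvPolynomial.algHom_ext fun i => by simp [x2, L, v]
  have hxR : x2.comp Rr = y := MvPolynomial.algHom_ext fun i => by simp [x2, Rr, v]
  have hx2 : ∀ a ∈ J, x2 a = 0 := by
    suffices h : J ≤ RingHom.ker x2 from fun a ha => RingHom.mem_ker.1 (h ha)
    refine sup_le (Ideal.map_le_iff_le_comap.2 fun f hf => ?_) (Ideal.span_le.2 ?_)
    · show x2 (L f) = 0
      exact (AlgHom.congr_fun hxL f).trans (hIy f hf)
    · rintro _ ⟨j, rfl⟩
      show x2 (E j) = 0
      simp [E, x2]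
  let x₀ : S2 ⧸ J →ₐ[k] k := Ideal.Quotient.liftₐ J x2 hx2
  have hext : ∀ {T : Type u} [CommRing T] [Algebra k T] (z z' : S2 ⧸ J →ₐ[k] T),
      z.comp base = z'.comp base → z.comp θ = z'.comp θ → z = z' := by
    intro T _ _ z z' h1 h2
    refine Ideal.Quotient.algHom_ext k (MvPolynomial.algHom_ext fun a => ?_)
    rcases a with i | i
    · have := AlgHom.congr_fun h1 (X i)
      simpa [base, π, L] using this
    · have := AlgHom.congr_fun h2 (X i)
      simpa [θ, π, Rr] using this
  refine ⟨S2 ⧸ J, inferInstance, inferInstance, Algebra.FiniteType.of_surjective π (Ideal.Quotient.mkₐ_surjective k J),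
    cm, hcm, base, θ, x₀, fun s => ?_, fun s => ?_, fun f hf => Ideal.Quotient.eq_zero_iff_mem.2 (hLJ f hf),
    AlgHom.ext fun s => AlgHom.congr_fun hxL s, AlgHom.ext fun s => AlgHom.congr_fun hxR s, fun z z' => hext z z', ?_⟩
  · show cm.coact (Ideal.Quotient.mk J (L s)) = _
    rw [hq, hLc]
    exact AlgHom.congr_fun (Algebra.TensorProduct.map_comp _ _ _ _).symm _
  · show cm.coact (Ideal.Quotient.mk J (Rr s)) = _
    rw [hq, hRc]
    exact AlgHom.congr_fun (Algebra.TensorProduct.map_comp _ _ _ _).symm _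
  intro m _ hm
  letI := θ.toRingHom.toAlgebra
  haveI : IsScalarTower k SP (S2 ⧸ J) := IsScalarTower.of_algebraMap_eq fun a => (θ.commutes a).symm
  haveI : Algebra.FiniteType SP (S2 ⧸ J) :=
    haveI : Algebra.FiniteType k (S2 ⧸ J) := Algebra.FiniteType.of_surjective π (Ideal.Quotient.mkₐ_surjective k J)
    Algebra.FiniteType.of_restrictScalars_finiteType k SP _
  haveI : IsNoetherianRing (S2 ⧸ J) := inferInstance
  have hx₀ : ∀ s, x₀ (θ s) = y s := fun s => AlgHom.congr_fun hxR s
  have hp : m.comap (algebraMap SP (S2 ⧸ J)) = RingHom.ker y := by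
    ext s
    rw [Ideal.mem_comap, hm, RingHom.mem_ker, RingHom.mem_ker, ← hx₀]
    rfl
  refine isEtaleAt_of_point x₀ m hm ?_ ?_
  · let N : Ideal (S2 ⧸ J) := (m.comap (algebraMap SP (S2 ⧸ J))).map (algebraMap SP (S2 ⧸ J))
    have hθN : ∀ s, y s = 0 → θ s ∈ N := fun s hs =>
      Ideal.mem_map_of_mem (algebraMap SP (S2 ⧸ J)) (hp.ge (RingHom.mem_ker.2 hs))
    have hbm : ∀ s, base s - algebraMap k _ (y s) ∈ m := fun s => by
      rw [hm, RingHom.mem_ker, map_sub, AlgHom.commutes]
      exact sub_eq_zero.2 (AlgHom.congr_fun hxL s)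
    let d : ι → S2 ⧸ J := fun i => base (X i) - algebraMap k _ (v i)
    have hd : ∀ i, d i ∈ m := fun i => hbm (X i)
    let N2 := N ⊔ m ^ 2
    let W : Submodule SP (ι → SP) :=
      { carrier := {w | ∑ i, algebraMap k (S2 ⧸ J) (y (w i)) * d i ∈ N2}
        add_mem' := fun {a b} ha hb => by
          simpa [Finset.sum_add_distrib, add_mul] using N2.add_mem ha hb
        zero_mem' := by simp
        smul_mem' := fun r w hw => by
          have := N2.mul_mem_left (algebraMap k (S2 ⧸ J) (y r)) hw
          simpa [Finset.mul_sum, mul_assoc] using this }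
    have hW : conorm I ≤ W := by
      refine sup_le (Submodule.span_le.2 ?_) fun w hw => ?_
      · rintro _ ⟨f, hf, rfl⟩
        show ∑ i, algebraMap k (S2 ⧸ J) (y (grad f i)) * d i ∈ N2
        have ht := aeval_add_sub_mem m (fun i => algebraMap k (S2 ⧸ J) (v i)) d hd f
        have e1 : aeval ((fun i => algebraMap k (S2 ⧸ J) (v i)) + d) f = base f := by
          rw [show ((fun i => algebraMap k (S2 ⧸ J) (v i)) + d) = fun i => base (X i) from funext fun i => by simp [d]]
          exact (AlgHom.congr_fun (aeval_unique base) f).symm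
        have e2 : ∀ g : SP, aeval (fun i => algebraMap k (S2 ⧸ J) (v i)) g = algebraMap k _ (y g) := fun g => by
          have : (aeval fun i => algebraMap k (S2 ⧸ J) (v i)) = (Algebra.ofId k (S2 ⧸ J)).comp y :=
            MvPolynomial.algHom_ext fun i => by simp [Algebra.ofId_apply, v]
          rw [this]; rfl
        simp only [e1, e2, hIy f hf, map_zero, zero_add] at ht
        rw [show base f = 0 from Ideal.Quotient.eq_zero_iff_mem.2 (hLJ f hf), zero_sub] at ht
        exact Ideal.mem_sup_right (neg_mem_iff.1 ht)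
      · show ∑ i, algebraMap k (S2 ⧸ J) (y (w i)) * d i ∈ N2
        refine sum_mem fun i _ => ?_
        rw [hIy _ (hw i (Set.mem_univ i)), map_zero, zero_mul]
        exact Ideal.zero_mem _
    have hdN : ∀ j, d j ∈ N2 := by
      intro j
      have hzero : ∑ i, base (P i j) * (θ (X i) - base (X i)) = 0 := by
        have h := Ideal.Quotient.eq_zero_iff_mem.2 (hEJ j)
        simp only [E, map_sum, map_mul, map_sub] at h
        simpa [base, θ, π, L, Rr] using h
      have h1 : ∑ i, algebraMap k (S2 ⧸ J) (y (P i j)) * d i ∈ N2 := by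
        have e : ∑ i, algebraMap k (S2 ⧸ J) (y (P i j)) * d i =
            (∑ i, base (P i j) * θ (X i - C (v i))) - ∑ i, (base (P i j) - algebraMap k _ (y (P i j))) * d i -
              ∑ i, base (P i j) * (θ (X i) - base (X i)) := by
          rw [← Finset.sum_sub_distrib, ← Finset.sum_sub_distrib]
          refine Finset.sum_congr rfl fun i _ => ?_
          rw [map_sub, show θ (C (v i)) = algebraMap k _ (v i) from θ.commutes _]
          simp only [d]
          ring
        rw [e, hzero, sub_zero]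
        refine sub_mem (Ideal.mem_sup_left (sum_mem fun i _ => N.mul_mem_left _ (hθN _ (by rw [map_sub, hC, sub_self]))))
          (Ideal.mem_sup_right (sum_mem fun i _ => ?_))
        rw [pow_two]
        exact Ideal.mul_mem_mul (hbm _) (hd i)
      have h2 : ∑ i, algebraMap k (S2 ⧸ J) (y (coCol P j i)) * d i ∈ N2 := hW (hP1 j)
      have h3 := add_mem h1 h2
      rw [← Finset.sum_add_distrib] at h3
      simpa [coCol, ← add_mul, ← map_add, Matrix.one_apply, apply_ite y] using h3
    have hle : m ≤ N2 := by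
      intro r hr
      obtain ⟨r, rfl⟩ := Ideal.Quotient.mk_surjective r
      have h : r - C (x2 r) ∈ N2.comap π := by
        refine sub_C_eval_mem x2 _ (fun a => ?_) r
        show π (X a - C (x2 (X a))) ∈ N2
        rcases a with i | i
        · convert hdN i using 1
          simp [d, base, π, L, x2]
          rfl
        · refine Ideal.mem_sup_left ?_
          convert hθN (X i - C (v i)) (by rw [map_sub, hC, sub_self]) using 1
          simp [θ, π, Rr, x2]
      have hr0 : x2 r = 0 := by
        rw [hm] at hr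
        exact RingHom.mem_ker.1 hr
      rw [hr0, C_0, sub_zero] at h
      exact h
    intro r hr
    let Nm : Submodule (S2 ⧸ J) ((S2 ⧸ J) ⧸ N) := Submodule.map N.mkQ m
    have hNm : Nm ≤ m • Nm := by
      rintro _ ⟨a, ha, rfl⟩
      obtain ⟨n, hn, b, hb, rfl⟩ := Submodule.mem_sup.1 (hle ha)
      rw [map_add, show N.mkQ n = 0 from (Submodule.Quotient.mk_eq_zero N).2 hn, zero_add]
      rw [pow_two] at hb
      have : b ∈ m • m := hb
      show N.mkQ b ∈ m • Submodule.map N.mkQ m
      rw [← Submodule.map_smul'']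
      exact Submodule.mem_map_of_mem this
    obtain ⟨u, hu1, hu⟩ := Submodule.exists_sub_one_mem_and_smul_eq_zero_of_fg_of_le_smul m Nm
      (Submodule.FG.map _ (IsNoetherian.noetherian m)) hNm
    refine ⟨u, fun h => (inferInstance : m.IsPrime).ne_top ((Ideal.eq_top_iff_one m).2 (by simpa using sub_mem h hu1)), ?_⟩
    have := hu _ (Submodule.mem_map_of_mem (f := N.mkQ) hr)
    rw [← map_smul, Submodule.mkQ_apply, Submodule.Quotient.mk_eq_zero] at this
    exact this
  · intro n a ⟨u, hu, hua⟩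
    rw [hp]
    rcases n with _ | n
    · exact ⟨1, fun h => one_ne_zero ((map_one y).symm.trans (RingHom.mem_ker.1 h)), by simp⟩
    obtain ⟨p, hp0, hpI, hpE⟩ := exists_newton y I hIy ν hν hret P hP1 hP2 n
    let M := RingHom.ker y ^ (n + 1)
    let ψ2 : S2 →ₐ[k] SP ⧸ M := (Ideal.Quotient.mkₐ k M).comp (aeval (Sum.elim p X))
    have hψL : ∀ f, ψ2 (L f) = Ideal.Quotient.mk M (aeval p f) := fun f => by
      show Ideal.Quotient.mk M (aeval (Sum.elim p X) (rename Sum.inl f)) = _
      rw [aeval_rename, Sum.elim_comp_inl]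
    have hψR : ∀ f, ψ2 (Rr f) = Ideal.Quotient.mk M f := fun f => by
      show Ideal.Quotient.mk M (aeval (Sum.elim p X) (rename Sum.inr f)) = _
      rw [aeval_rename, Sum.elim_comp_inr, aeval_X_left_apply]
    have hψ2 : ∀ a ∈ J, ψ2 a = 0 := by
      suffices h : J ≤ RingHom.ker ψ2 from fun a ha => RingHom.mem_ker.1 (h ha)
      refine sup_le (Ideal.map_le_iff_le_comap.2 fun f hf => ?_) (Ideal.span_le.2 ?_)
      · show ψ2 (L f) = 0
        rw [hψL, Ideal.Quotient.eq_zero_iff_mem]
        exact hpI f hf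
      · rintro _ ⟨j, rfl⟩
        show ψ2 (E j) = 0
        have h := Ideal.Quotient.eq_zero_iff_mem.2 (hpE j)
        simp only [E, map_sum, map_mul, hψL]
        simpa [ψ2, map_sum] using h
    let ψ : S2 ⧸ J →ₐ[k] SP ⧸ M := Ideal.Quotient.liftₐ J ψ2 hψ2
    have hψθ : ∀ s, ψ (θ s) = Ideal.Quotient.mk M s := hψR
    have hMle : M ≤ RingHom.ker y := Ideal.pow_le_self (Nat.succ_ne_zero n)
    let yq : SP ⧸ M →ₐ[k] k := Ideal.Quotient.liftₐ M y fun s hs => RingHom.mem_ker.1 (hMle hs)
    have hyψ : yq.comp ψ = x₀ := by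
      refine hext _ _ (MvPolynomial.algHom_ext fun i => ?_) (MvPolynomial.algHom_ext fun i => ?_)
      · show yq (ψ2 (L (X i))) = (x2.comp L) (X i)
        rw [hψL, hxL]
        show y (aeval p (X i)) = y (X i)
        rw [aeval_X]
        have := RingHom.mem_ker.1 (hp0 i)
        rwa [map_sub, hC, sub_eq_zero] at this
      · show yq (ψ (θ (X i))) = x₀ (θ (X i))
        rw [hψθ, hx₀]
        rfl
    have hψm : m.map ψ ≤ (RingHom.ker y).map (Ideal.Quotient.mk M) := by
      refine Ideal.map_le_iff_le_comap.2 fun r hr => ?_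
      obtain ⟨s, hs⟩ := Ideal.Quotient.mk_surjective (ψ r)
      rw [Ideal.mem_comap, ← hs]
      refine Ideal.mem_map_of_mem _ (RingHom.mem_ker.2 ?_)
      have h : x₀ r = 0 := by rw [hm] at hr; exact RingHom.mem_ker.1 hr
      rw [← hyψ] at h
      rw [AlgHom.comp_apply, ← hs] at h
      exact h
    obtain ⟨t, ht⟩ := Ideal.Quotient.mk_surjective (ψ u)
    refine ⟨t, fun hty => hu ?_, ?_⟩
    · rw [hm, RingHom.mem_ker, ← hyψ, AlgHom.comp_apply, ← ht]
      exact RingHom.mem_ker.1 hty
    · rw [← Ideal.Quotient.eq_zero_iff_mem, map_mul, ht, ← hψθ, ← map_mul]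
      have h1 : ψ (u * θ a) ∈ (m ^ (n + 1)).map ψ := Ideal.mem_map_of_mem _ hua
      rw [Ideal.map_pow] at h1
      have h2 := Ideal.pow_right_mono hψm (n + 1) h1
      rw [← Ideal.map_pow, Ideal.map_quotient_self] at h2
      exact h2

end Groth.Agent.Luna34
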